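import Cfsg.Agent.H60.PauRepU
import Cfsg.Agent.H25.RowC6
import Cfsg.Agent.H60.Full

/-! Normalisers of `4 ∘ 2^{1+2k}` are maximal in `SL` and `SU`. -/

set_option autoImplicit false
set_option linter.unusedSectionVars false

namespace H60.Cl

open Module H59 Cfsg Cfsg.Geo H25
open scoped commutatorElement MatrixGroups Matrix

section abs
variable {K E : Type*} [Field K] [Ring E] [Algebra K E] [Finite E]
variable {τ : E →ₗ[K] K} {P R G N : Subgroup Eˣ} {x y z d g j u v : Eˣ}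

theorem mem_sup_Zs : x ∈ R ⊔ Zs K E ↔ ∃ c : Kˣ, ∃ r ∈ R, x = sc K E c * r := by
  rw [sup_comm, Subgroup.mem_sup_of_normal_left]
  exact ⟨fun ⟨_, ⟨c, hc⟩, r, hr, e⟩ => ⟨c, r, hr, by rw [← e, hc]⟩,
    fun ⟨c, r, hr, e⟩ => ⟨_, sc_mem c, r, hr, e.symm⟩⟩

theorem sc_mul_sq (c : Kˣ) (r : Eˣ) : sc K E c * r * (sc K E c * r) = sc K E (c * c) * (r * r) := by
  rw [mul_assoc, ← mul_assoc r, ← sc_comm, map_mul]; simp only [mul_assoc]

theorem Amb.pau_sup (h : Amb τ) (h1 : ∀ x ∈ R, ∀ y ∈ R, ⁅x, y⁆ ∈ Zs K E)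
    (h2 : ∀ x ∈ R, x * x ∈ Zs K E) (h3 : ∀ x : Eˣ, (∀ y ∈ R, x * y = y * x) → x ∈ Zs K E) :
    Pau K (R ⊔ Zs K E) where
  sc_le := le_sup_right
  comm x hx y hy := by
    obtain ⟨c, r, hr, rfl⟩ := mem_sup_Zs.1 hx
    obtain ⟨c', r', hr', rfl⟩ := mem_sup_Zs.1 hy
    exact (h.anti_of_sq (h2 r hr) (h1 r hr r' hr')).imp
      (fun e => sc_comm' (sc_mem c) (sc_comm' (sc_mem c') e.symm).symm)
      fun e => sc_anti (sc_mem c) (anti_symm (sc_anti (sc_mem c') (anti_symm e)))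
  sq x hx := by
    obtain ⟨c, r, hr, rfl⟩ := mem_sup_Zs.1 hx
    rw [sc_mul_sq]; exact mul_mem (sc_mem _) (h2 r hr)
  nd x _ hc := h3 x fun y hy => hc y (Subgroup.mem_sup_left hy)

theorem lin_sup {i : Kˣ} (hi : i * i = -1) (h2 : ∀ x ∈ R, x * x = 1 ∨ x * x = -1) :
    Lin K (R ⊔ Zs K E) := by
  have k : ∀ x ∈ R ⊔ Zs K E, ∃ c : Kˣ, sc K E c * x * (sc K E c * x) = 1 := fun x hx => by
    obtain ⟨c, r, hr, rfl⟩ := mem_sup_Zs.1 hx
    rcases h2 r hr with e | e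
    · exact ⟨c⁻¹, by simp [e]⟩
    · exact ⟨i * c⁻¹, by
        rw [← mul_assoc _ (sc K E c), ← map_mul, inv_mul_cancel_right, sc_mul_sq, hi, e]
        simp [sc_neg]⟩
  refine ⟨fun x hx => (k x hx).elim fun c e => ⟨_, sc_mem c, e⟩, fun x hx => (k x hx).elim
    fun c e => ⟨_, sc_mem (i * c), by rw [map_mul, mul_assoc (sc K E i)]; exact isq hi e⟩⟩

theorem Nm_sup (hg : g ∈ Nm R) : g ∈ Nm (R ⊔ Zs K E) := mem_Nm fun y hy => by
  obtain ⟨c, r, hr, rfl⟩ := mem_sup_Zs.1 hy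
  rw [← conj_mul]
  exact mul_mem (Subgroup.mem_sup_right (conj_mem_Zs.2 (sc_mem c))) (Subgroup.mem_sup_left (Nm_conj hg hr))

theorem le_Nm_sup : R ⊔ Zs K E ≤ Nm R := sup_le Subgroup.le_normalizer fun z hz =>
  mem_Nm fun y hy => by rwa [Zs_comm hz, mul_inv_cancel_right]

theorem Amb.map_ct (h : Amb τ) {A : Type*} [CommGroup A] (δ : Eˣ →* A) (dd : d * d = 1)
    (an : d * x = -(x * d)) (h1 : u * d = d * u) (h2 : u * x = x * u) : δ u = δ (ct K d u) ^ 2 := by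
  have e : u = ct K d u * (x * ct K d u * x⁻¹) := by
    rw [h.ct_conj dd h1, conj_of_anti (anti_symm an), conj_of_comm h2.symm]
    refine Units.ext ?_
    rw [Units.val_mul, h.ct_val' dd h1, h.ct_val (by simp [dd]) (by simp [h1]), h.ee_neg,
      sub_sub_cancel, add_comm (_ * _) (ee K d)]
    have := h.pair_mul dd (a := u) (b := 1) (a' := 1) (by simp) (comm_val h1)
    rw [one_mul (ee K d)] at this
    rw [this]
    simp [mul_sub]
  conv_lhs => rw [e]
  simp [sq]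

theorem Pau.map_eq_one (hP : Pau K P) (hL : Lin K P) (h : Amb τ) {A : Type*} [CommGroup A]
    (δ : Eˣ →* A) (h16 : 16 ≤ rk K P) (hu : ∀ y ∈ P, u * y = y * u) (h4 : u ^ 4 = 1) : δ u = 1 := by
  obtain ⟨d, x, H, -⟩ := hL.exists_hyp hP (not_le_of_rk (by omega))
  obtain ⟨d', x', H', -⟩ := (hL.mono P1_le).exists_hyp (hP.p1 H.hd H.hx H.an) (not_le_of_rk (by
    have := hP.rk_P1 H.hd H.hx; omega))
  have c1 := hu d H.hd
  have c2 := (h.ct_comm H.dd c1 (mem_P1.1 H'.hd).1.2 (hu _ (P1_le H'.hd)).symm).symm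
  have k : ∀ {d u : Eˣ}, d * d = 1 → u * d = d * u → u ^ 4 = 1 → ct K d u ^ 4 = 1 := fun dd c e => by
    have c' := (cc c.symm c.symm).symm
    rw [show 4 = 2 * 2 from rfl, pow_mul, _root_.sq, _root_.sq] at e ⊢
    rw [← h.ct_mul dd c c, ← h.ct_mul dd c' c', e, h.ct_one dd]
  rw [h.map_ct δ H.dd H.an c1 (hu x H.hx), h.map_ct δ H'.dd H'.an c2
    (h.ct_comm H.dd c1 (mem_P1.1 H'.hx).1.2 (hu _ (P1_le H'.hx)).symm).symm, ← pow_mul, ← map_pow,
    k H'.dd c2 (k H.dd c1 h4), map_one]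

theorem Pau.map_gate (hP : Pau K P) (hL : Lin K P) (h : Amb τ) {A : Type*} [CommGroup A]
    (δ : Eˣ →* A) (h64 : 64 ≤ rk K P) {c : Kˣ} (hc : (c : K) ^ 4 = -4) (hj : j ∈ P)
    (jj : j * j = -1) : δ j = 1 ∧ δ (Cl.sc K E c⁻¹ * ga j) = 1 := by
  obtain ⟨Q, q1, q2, q3, q4⟩ : ∃ Q, Pau K Q ∧ Q ≤ P ∧ 16 ≤ rk K Q ∧ ∀ y ∈ Q, y * j = j * y := by
    by_cases hz : j ∈ Zs K E
    · exact ⟨P, hP, le_rfl, by omega, fun y _ => (Zs_comm hz y).symm⟩
    obtain ⟨x, hx, a⟩ := hP.exists_anti hj hz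
    exact ⟨_, hP.p1 hj hx (anti_symm a), P1_le, by have := hP.rk_P1 hj hx; omega,
      fun y hy => (mem_P1.1 hy).1.2⟩
  refine ⟨q1.map_eq_one (hL.mono q2) h δ q3 (fun y hy => (q4 y hy).symm) ?_,
    q1.map_eq_one (hL.mono q2) h δ q3 (fun y hy => sc_comm' (sc_mem _) (h.ga_comm jj (q4 y hy)).symm) ?_⟩
  · rw [show 4 = 2 * 2 from rfl, pow_mul, _root_.sq, _root_.sq, jj]; simp
  · rw [show 4 = 2 * 2 from rfl, pow_mul, _root_.sq, _root_.sq, sc_mul_sq, h.ga_sq jj, Amb.tw,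
      ← mul_assoc (Cl.sc K E _) (Cl.sc K E _), ← map_mul, sc_mul_sq, jj, mul_neg_one, ← sc_neg, ← map_one (Cl.sc K E)]
    congr 1
    refine Units.ext ?_
    have := c.ne_zero
    simp only [Units.val_neg, Units.val_mul, Units.val_inv_eq_inv_val, Units.val_mk0, Units.val_one]
    field_simp
    linear_combination -hc

end abs

variable {ι : Type} [Fintype ι] [DecidableEq ι] {F : Type*} [Field F] [Fintype F]
  {R M Ω : Subgroup (GL ι F)}

omit [Fintype F] in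
theorem Zs_eq : Zs F (Matrix ι ι F) = scalars ι F := by
  ext g
  rw [mem_scalars_iff]
  exact exists_congr fun c => by
    rw [Units.ext_iff, sc_val, Algebra.algebraMap_eq_smul_one, eq_comm]

variable (ι F) in
/-- the normalised trace -/
noncomputable def tauM : Matrix ι ι F →ₗ[F] F := (Fintype.card ι : F)⁻¹ • Matrix.traceLinearMap ι F F

theorem amb_tauM (h : (Fintype.card ι : F) ≠ 0) (h2 : (2 : F) ≠ 0) : Amb (tauM ι F) :=
  ⟨fun a b => by simp [tauM, Matrix.trace_mul_comm a b], by simp [tauM, h], h2⟩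

theorem mem_Al_of_spans (h : Spans R) {P : Subgroup (GL ι F)} (hP : R ≤ P) (a : Matrix ι ι F) :
    a ∈ Al F P := Al_mono hP (show a ∈ Submodule.span F (matrixSet R) from h ▸ trivial)

theorem rep_toLin (h : Spans R) {P : Subgroup (GL ι F)} (hP : R ≤ P) :
    Rep P (Matrix.toLin' : Matrix ι ι F ≃ₗ[F] _).toLinearMap where
  mul a _ b _ := Matrix.toLin'_mul a b
  one := Matrix.toLin'_one
  surj f := ⟨LinearMap.toMatrix' f, mem_Al_of_spans h hP _, Matrix.toLin'_toMatrix' f⟩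
  inj _ _ e := (LinearEquiv.map_eq_zero_iff _).1 e

theorem not_mem_normalizer [Nonempty ι] (hR : Spans R) (hc : ∀ x ∈ R, ∀ y ∈ R, ⁅x, y⁆ ∈ scalars ι F)
    {t : GL ι F} {s : ℕ} (U : Submodule F (ι → F)) (h1 : finrank F U ≤ s)
    (h2 : ∀ v, t.val *ᵥ v - v ∈ U) (h3 : 4 * s < Fintype.card ι) (h4 : t ≠ 1) :
    t ∉ subgroupNormalizer R := fun h =>
  h4 (eq_one_of_scalar_of_fixCodim (scalar_of_normalizer_dim hR hc h
    (fixCodim_of_finrank_range U h1 h2) h3) (fixCodim_of_finrank_range U h1 h2) (by omega))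

theorem sq_of_symp (hR : IsSymplecticTypeGroup 2 R) (h : Amb (tauM ι F))
    (h2 : ∀ x ∈ R, x ^ 2 ∈ scalars ι F) (x : GL ι F) (hx : x ∈ R) : x * x = 1 ∨ x * x = -1 := by
  refine h.sc_sq (by rw [Zs_eq, ← sq]; exact h2 x hx) ?_
  have := congrArg Subtype.val (Monoid.pow_exponent_eq_one (⟨x, hx⟩ : R))
  rw [hR.4] at this
  rw [← sq, ← sq, ← pow_mul]
  exact this

/-- the common set-up for the linear and unitary cases -/
theorem setup_lin (hn : 8 ≤ Fintype.card ι) (h2 : (2 : F) ≠ 0) {i : Fˣ} (hi : i * i = -1)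
    (hR : IsSymplecticTypeGroup 2 R) (ha : ActsAbsolutelyIrreducibly (matrixSet R))
    (hZ : Nat.card (Subgroup.center R) = 4) :
    Spans R ∧ (∀ x ∈ R, ∀ y ∈ R, ⁅x, y⁆ ∈ scalars ι F) ∧ Amb (tauM ι F) ∧
      Pau F (R ⊔ Zs F (Matrix ι ι F)) ∧ Lin F (R ⊔ Zs F (Matrix ι ι F)) ∧
      64 ≤ rk F (R ⊔ Zs F (Matrix ι ι F)) ∧
      ∀ x ∈ R ⊔ Zs F (Matrix ι ι F), x * x = 1 ∨ x * x = -1 → x ∈ R := by
  have : Nonempty ι := Fintype.card_pos_iff.1 (by omega)
  obtain ⟨h1, h3, h4, -⟩ := sympType_struct hR ha (Or.inr (Or.inl ⟨rfl, hZ⟩))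
  have h := amb_tauM (card_ne_zero_of_comm_scalar h1 h3) h2
  have h5 := sq_of_symp hR h h4
  have hP := h.pau_sup (R := R) (by rwa [Zs_eq]) (fun x hx => by rw [Zs_eq, ← sq]; exact h4 x hx)
    fun x hx => by
      rw [Zs_eq]
      exact mem_scalars_of_comm_eq_one h1 fun y hy => commutatorElement_eq_one_iff_mul_comm.2 (hx y hy)
  have k : ∀ x : GL ι F, x * x = 1 ∨ x * x = -1 → x ^ 4 = 1 := fun x e => by
    rw [show 4 = 2 * 2 from rfl, pow_mul, sq, sq]
    rcases e with e | e <;> simp [e]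
  refine ⟨h1, h3, h, hP, lin_sup hi h5, ?_, fun x hx e => ?_⟩
  · rw [← (rep_toLin h1 le_sup_left).finrank_sq hP h, finrank_fintype_fun_eq_card]
    nlinarith
  obtain ⟨c, r, hr, rfl⟩ := mem_sup_Zs.1 hx
  refine mul_mem ?_ hr
  have e1 : R.comap (sc F _) ≤ rootsOfUnity 4 F := fun c hc => (mem_rootsOfUnity _ _).2
    (h.sc_inj (by rw [map_pow, map_one]; exact k _ (h5 _ hc)))
  have e2 : Nat.card (R.comap (sc F (Matrix ι ι F))) = 4 := by
    rw [← hZ]
    refine Nat.card_congr (Equiv.ofBijective (fun c => ⟨⟨_, c.2⟩,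
      (mem_center_iff_scalars h1 _).2 (by rw [← Zs_eq]; exact sc_mem c.1)⟩) ⟨fun a b e => Subtype.ext
        (h.sc_inj (congrArg (·.1.1) e)), fun z => ?_⟩)
    obtain ⟨c, hc⟩ : z.1.1 ∈ Zs F (Matrix ι ι F) := by
      rw [Zs_eq]; exact (mem_center_iff_scalars h1 _).1 z.2
    exact ⟨⟨c, show sc F _ c ∈ R from hc ▸ z.1.2⟩, Subtype.ext (Subtype.ext hc)⟩
  refine (Subgroup.eq_of_le_of_card_ge e1 (e2 ▸ card_rootsOfUnity F 4)).ge ((mem_rootsOfUnity _ _).2
    (h.sc_inj ?_))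
  have := k _ e
  rwa [Commute.mul_pow (sc_comm c r), k r (h5 r hr), mul_one, ← map_pow, ← map_one (sc F _)] at this

theorem max_of_lin {S : Subgroup (GL (Fin 3) F)} (h : Amb (tauM ι F)) {i : Fˣ} (hi : i * i = -1)
    (h3 : H3 (i : F) S) (h1 : Spans R) (hP : Pau F (R ⊔ Zs F (Matrix ι ι F)))
    (hL : Lin F (R ⊔ Zs F (Matrix ι ι F))) (h64 : 64 ≤ rk F (R ⊔ Zs F (Matrix ι ι F)))
    (hR : ∀ x ∈ R ⊔ Zs F (Matrix ι ι F), x * x = 1 ∨ x * x = -1 → x ∈ R)
    (hR' : ∀ x ∈ R, x * x = 1 ∨ x * x = -1) (hne : ¬ Ω ≤ subgroupNormalizer R)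
    (hΩ : ∀ j ∈ R, j * j = -1 → j ∈ Ω ∧ ∃ c : Fˣ, sc F _ c * ga j ∈ Ω)
    (hB : ∀ G, Rel F (R ⊔ Zs F (Matrix ι ι F)) G G → Big F S (R ⊔ Zs F (Matrix ι ι F)) G → Ω ≤ G) :
    IsMaximalIn Ω (subgroupNormalizer R ⊓ Ω) := by
  have hN : ∀ g ∈ Nm (R ⊔ Zs F (Matrix ι ι F)), g ∈ subgroupNormalizer R := fun g hg =>
    mem_Nm fun y hy => hR _ (Nm_conj hg (Subgroup.mem_sup_left hy)) ((hR' y hy).imp
      (fun e => conj_sq g e (one_mem (Zs F _))) fun e => conj_sq (K := F) g e neg_one_mem)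
  refine isMaximalIn_of (SetLike.not_le_iff_exists.1 hne) fun M h4 h5 g hg hg' => ?_
  have hj : ∀ j ∈ R ⊔ Zs F (Matrix ι ι F), j * j = -1 → j ∈ M := fun j hj e =>
    h4 ⟨Subgroup.le_normalizer (hR j hj (Or.inr e)), (hΩ j (hR j hj (Or.inr e)) e).1⟩
  have hle : R ⊔ Zs F (Matrix ι ι F) ≤ M ⊔ Zs F (Matrix ι ι F) := fun y hy => by
    obtain ⟨c, hc, e⟩ := hL.neg y hy
    exact (Subgroup.mul_mem_cancel_left _ (Subgroup.mem_sup_right hc)).1
      (Subgroup.mem_sup_left (hj _ (mul_mem (hP.sc_le hc) hy) e))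
  have R0 : Rel F (R ⊔ Zs F (Matrix ι ι F)) (M ⊔ Zs F _) (M ⊔ Zs F _) :=
    ⟨hP, hL, hle, fun g _ => mem_Un.2 (mem_Al_of_spans h1 le_sup_left _), fun j hj e => by
      obtain ⟨c, hc⟩ := (hΩ j (hR j hj (Or.inr e)) e).2
      exact (Subgroup.mul_mem_cancel_left _ (Subgroup.mem_sup_right (sc_mem c))).1
        (Subgroup.mem_sup_left (h4 ⟨hN _ (mul_mem (Subgroup.le_normalizer (hP.sc_le (sc_mem c)))
          (hP.ga_Nm h e hj)), hc⟩)), le_rfl, Subgroup.le_normalizer, fun j hj _ => hle hj⟩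
  rcases R0.main h hi h3 (by omega) with e | e
  · exact (hg' (hN g (e (Subgroup.mem_sup_left hg)))).elim
  intro a ha
  obtain ⟨c, m, hm, rfl⟩ := mem_sup_Zs.1 (hB _ R0 e ha)
  exact mul_mem (h4 ⟨hN _ (Subgroup.le_normalizer (hP.sc_le (sc_mem c))),
    (Ω.mul_mem_cancel_right (h5 hm)).1 ha⟩) hm

theorem one_add_i {i : F} (hi : i * i = -1) (h2 : (2 : F) ≠ 0) : 1 + i ≠ 0 :=
  fun e => h2 (by linear_combination (1 - i) * e + hi)

theorem max_sl (hn : 8 ≤ Fintype.card ι) (hp : (Fintype.card F).Prime) (h4 : Fintype.card F % 4 = 1)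
    (hR : IsSymplecticTypeGroup 2 R) (ha : ActsAbsolutelyIrreducibly (matrixSet R))
    (hZ : Nat.card (Subgroup.center R) = 4) :
    IsMaximalIn (specialLinear ι F) (subgroupNormalizer R ⊓ specialLinear ι F) := by
  have : Nontrivial ι := Fintype.one_lt_card_iff_nontrivial.1 (by omega)
  have h2 := L3.two_ne_zero_of_odd (F := F) (Nat.odd_iff.2 (by omega))
  obtain ⟨i, hi⟩ := FiniteField.isSquare_neg_one_iff.2 (show Fintype.card F % 4 ≠ 3 by omega)
  have i0 : i ≠ 0 := by rintro rfl; simp at hi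
  have hi' : Units.mk0 i i0 * Units.mk0 i i0 = -1 := Units.ext hi.symm
  obtain ⟨h1, h3, h, hP, hL, h64, hR'⟩ := setup_lin hn h2 hi' hR ha hZ
  refine max_of_lin h hi' (h3_lin hp hi' h2) h1 hP hL h64 hR'
    (sq_of_symp hR h (sympType_struct hR ha (Or.inr (Or.inl ⟨rfl, hZ⟩))).2.2.1) (fun hle => ?_)
    (fun j hj e => ?_) fun G R0 hB g hg => ?_
  · obtain ⟨a, b, hab⟩ := exists_pair_ne ι
    let t : GL ι F := Matrix.GeneralLinearGroup.mkOfDetNeZero (Matrix.transvection a b (1 : F))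
      (by simp [Matrix.det_transvection_of_ne _ _ hab])
    have ht : t.val = Matrix.transvection a b (1 : F) := rfl
    refine not_mem_normalizer h1 h3 (t := t) (F ∙ Pi.single a 1) (finrank_span_singleton (by simp)).le
      (fun v => ?_) (by omega) (fun e => ?_)
      (hle (mem_specialLinear.2 (Matrix.det_transvection_of_ne _ _ hab _)))
    · rw [ht, Matrix.transvection, Matrix.add_mulVec, Matrix.one_mulVec, add_sub_cancel_left,
        Matrix.single_mulVec]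
      exact Submodule.mem_span_singleton.2 ⟨v b, by ext c; by_cases hc : c = a <;> simp [hc]⟩
    · simpa [ht, Matrix.transvection, hab] using congrArg (fun g : GL ι F => g.val a b) e
  · have := hP.map_gate hL h Matrix.GeneralLinearGroup.det h64 (c := Units.mk0 _ (one_add_i hi.symm h2))
      (by simp only [Units.val_mk0]; linear_combination (-(i ^ 2) - 4 * i - 5) * hi)
      (Subgroup.mem_sup_left hj) e
    exact ⟨this.1, _, this.2⟩
  · obtain ⟨k, hk, e⟩ := Rel.sl R0 h (rep_toLin h1 le_sup_left) hp hB (H62.toLE g)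
      ((H62.mem_specialLinear_iff g).1 hg)
    rwa [show g = k from H62.toLE.injective (LinearEquiv.ext e)]

theorem max_su {n q : ℕ} {R : Subgroup (GL (Fin n) F)} (hn : 8 ≤ n) (hF : Fintype.card F = q ^ 2)
    (hp : q.Prime) (h4 : q % 4 = 3) (hR : IsSymplecticTypeGroup 2 R)
    (ha : ActsAbsolutelyIrreducibly (matrixSet R)) (hU : R ≤ GU n F q)
    (hZ : Nat.card (Subgroup.center R) = 4) : IsMaximalIn (GU n F q ⊓ specialLinear (Fin n) F)
      (subgroupNormalizer R ⊓ (GU n F q ⊓ specialLinear (Fin n) F)) := by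
  have : Nonempty (Fin n) := ⟨⟨0, by omega⟩⟩
  have h2 := L3.two_ne_zero_of_odd' hF (Nat.odd_iff.2 (by omega))
  obtain ⟨i, hi⟩ := FiniteField.isSquare_neg_one_iff.2 (show Fintype.card F % 4 ≠ 3 by
    rw [hF, Nat.pow_mod, h4]; decide)
  have i0 : i ≠ 0 := by rintro rfl; simp at hi
  have hi' : Units.mk0 i i0 * Units.mk0 i i0 = -1 := Units.ext hi.symm
  have hσ := frob_i hF h4 hi.symm
  have hB := isHerm_uForm hF n
  obtain ⟨h1, h3, h, hP, hL, h64, hR'⟩ := setup_lin (by simpa) h2 hi' hR ha hZ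
  have iso : ∀ g ∈ GU n F q, ∀ u v, uForm hF n (g.val *ᵥ u) (g.val *ᵥ v) = uForm hF n u v :=
    fun g hg u v => (mem_GU_iff hF n g).1 hg u v
  refine max_of_lin h hi' (h3_uni hF hp h4 hi') h1 hP hL h64 hR'
    (sq_of_symp hR h (sympType_struct hR ha (Or.inr (Or.inl ⟨rfl, hZ⟩))).2.2.1) (fun hle => ?_)
    (fun j hj e => ?_) fun G R0 hB' g hg => ?_
  · obtain ⟨e, -, f, -, -, -, ee, -, ef, -⟩ := H62.exists_hyp_aniso_mem hB (W := ⊤)
      (by rw [hB.perp_top]; exact disjoint_bot_right) (by simp; omega)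
    obtain ⟨c, c0, hc⟩ := exists_trace_zero_ne_zero hB.ne_id hB.invol
    have hc' : c + frob hF c + c * frob hF c * uForm hF n e e = 0 := by simp [hc, ee]
    have e0 : e ≠ 0 := by rintro rfl; simp at ef
    refine not_mem_normalizer h1 h3 (t := (glEquiv _ F).symm (qref _ e c hc')) (F ∙ e)
      (finrank_span_singleton e0).le (fun v => ?_) (by simp; omega) (fun e' => ?_)
      (hle ⟨(mem_GU_iff hF n _).2 (by simpa using hB.qref_mem_isom e c hc'), ?_⟩)
    · rw [glEquiv_symm_mulVec, qref_apply, add_sub_cancel_left]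
      exact Submodule.smul_mem _ _ (Submodule.mem_span_singleton_self e)
    · have := glEquiv_symm_mulVec (qref _ e c hc') f
      simp [e', qref_apply, ef, c0, e0] at this
    · refine Units.ext ?_
      rw [← det_glEquiv, MulEquiv.apply_symm_apply, det_qref, ee]
      simp
  · have := hP.map_gate hL h Matrix.GeneralLinearGroup.det h64 (c := Units.mk0 _ (one_add_i hi.symm h2))
      (by simp only [Units.val_mk0]; linear_combination (-(i ^ 2) - 4 * i - 5) * hi)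
      (Subgroup.mem_sup_left hj) e
    refine ⟨⟨hU hj, this.1⟩, _, (mem_GU_iff hF n _).2 fun u v => ?_, this.2⟩
    have e3 : uForm hF n (j.val *ᵥ u) v = -uForm hF n u (j.val *ᵥ v) := by
      rw [← iso j (hU hj), Matrix.mulVec_mulVec, nsq_val e]
      simp [Matrix.neg_mulVec]
    have e4 := one_add_i hi.symm h2
    have e5 : 1 - i ≠ 0 := fun e => h2 (by linear_combination (1 + i) * e - hi)
    simp only [glEquiv_apply, sc_mul_val, h.ga_val e, Matrix.smul_mulVec, Matrix.add_mulVec,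
      Matrix.one_mulVec, form_smul_left, form_smul_right, map_add, LinearMap.add_apply,
      iso j (hU hj), e3, Units.val_inv_eq_inv_val, Units.val_mk0, map_inv₀, map_one, hσ,
      ← sub_eq_add_neg]
    field_simp
    linear_combination -(uForm hF n u v) * hi
  · let s : Matrix (Fin n) (Fin n) F →+ Matrix (Fin n) (Fin n) F :=
      AddMonoidHom.mk' (fun a => (a.map (frob hF))ᵀ) fun a b => by ext; simp
    have adj : ∀ (a : Matrix (Fin n) (Fin n) F) u v,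
        uForm hF n (a *ᵥ u) v = uForm hF n u (s a *ᵥ v) := fun a u v => by
      simp only [stdForm_apply, s, AddMonoidHom.mk'_apply, Matrix.mulVec, dotProduct, map_sum,
        map_mul, Finset.sum_mul, Finset.mul_sum, Matrix.transpose_apply, Matrix.map_apply]
      rw [Finset.sum_comm]
      simp only [mul_assoc, mul_left_comm]
    obtain ⟨k, hk, e⟩ := Rep.su R0 h (rep_toLin h1 le_sup_left) hF h4 hi' (by omega) hB (s := s)
      (fun a b => by simp [s, Matrix.map_mul, Matrix.transpose_mul]) (fun x hx e => by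
        refine Matrix.toLin'.injective (LinearMap.ext fun v => hB.ext_right fun u => ?_)
        rw [Matrix.toLin'_apply, Matrix.toLin'_apply, ← adj, ← iso x (hU (hR' x hx (Or.inl e))),
          Matrix.mulVec_mulVec, sq_val e, Matrix.one_mulVec])
      (fun a _ => adj a) hB' (glEquiv _ F g) ⟨(mem_GU_iff hF n g).1 hg.1, (det_glEquiv g).trans hg.2⟩
    rwa [show g = k from (glEquiv _ F).injective (LinearEquiv.ext e)]

end H60.Cl
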