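import Cfsg.Agent.H60.T3Six
import Cfsg.Agent.H13.T3Spec
import Cfsg.Agent.S5776
import Cfsg.Agent.S5778
import Cfsg.Agent.S5779
import Cfsg.Agent.S0249
import Cfsg.Agent.S0283

/-! The overgroups of the Hessian group in `GL₃(p)` and `GU₃(p)`. -/

set_option autoImplicit false
set_option linter.unusedSectionVars false

namespace H60.L3

open Matrix hiding mul_inv_rev
open Cfsg Cfsg.Geo H25 Module H59 H13.T3
open scoped MatrixGroups commutatorElement

universe u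

variable {F : Type u} [Field F] [Fintype F] {ω : Fˣ} {H K M S L U₀ Γ : Subgroup (G3 F)} {i : G3 F}
  {q : ℕ}

/-- the Fourier matrix -/
structure Fou (ω : Fˣ) (i : G3 F) : Prop where
  sq : i * i = J
  xc : i * X ω * i⁻¹ = C
  br : i * (D 1 ω 1 * i * (D 1 ω 1)⁻¹) * i = D 1 ω 1 * i * (D 1 ω 1)⁻¹
  cyc : D 1 ω 1 * (D 1 ω 1 * i * (D 1 ω 1)⁻¹) * (D 1 ω 1)⁻¹ = D 1 ω 1 * i * (D 1 ω 1)⁻¹ * i
  nor : i ∈ subgroupNormalizer (R6 ω)
  det : i ∈ S3 F
  iso : ∀ σ : F →+* F, σ ω = ω ^ 2 → i ∈ Iso (stdSes σ)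

theorem exists_fou (h : Om ω) : ∃ i, Fou ω i := by
  have hω := h.eq
  have h3 := h.ne
  obtain ⟨t, ht⟩ : ∃ t : F, 3 * t = ω ^ 2 - ω := ⟨_, mul_div_cancel₀ _ h3⟩
  have hd : (!![t * ω, t, t * ω ^ 2; t, t, t; t * ω ^ 2, t, t * ω] : M3 F).det = 1 := by
    simp [det_fin_three]; grind
  obtain ⟨i, hi⟩ : ∃ i : G3 F, i.val = !![t * ω, t, t * ω ^ 2; t, t, t; t * ω ^ 2, t, t * ω] :=
    ⟨GeneralLinearGroup.mkOfDetNeZero _ (hd ▸ one_ne_zero), rfl⟩
  have h1 : i * X ω * i⁻¹ = C ∧ i * C * i⁻¹ = (X ω)⁻¹ := by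
    refine ⟨mul_inv_eq_iff_eq_mul.2 (Units.ext ?_), mul_inv_eq_iff_eq_mul.2 (Units.ext ?_)⟩ <;>
    simp only [Units.val_mul, hi, X, D_inv, D_val, C_val, mul_fin_three, Units.val_inv_eq_inv_val,
      h.inv', inv_inv, inv_one, Units.val_one] <;> apply mat3 <;> grind
  refine ⟨i, Units.ext ?_, h1.1, Units.ext ?_, Units.ext ?_,
    mem_N6 (h1.1 ▸ C_mem_R6) (h1.2 ▸ inv_mem X_mem_R6), mem_specialLinear.2 (hi ▸ hd),
    fun σ hσ u v => ?_⟩
  · rw [Units.val_mul, hi, J_val, mul_fin_three]; apply mat3 <;> grind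
  iterate 2
    simp only [Units.val_mul, hi, D_inv, D_val, mul_fin_three, Units.val_inv_eq_inv_val,
      h.inv', inv_one, Units.val_one]
    apply mat3 <;> grind
  · have h6 : 3 * σ t = (ω ^ 2) ^ 2 - ω ^ 2 := by simpa [hσ, map_ofNat] using congrArg σ ht
    change stdSes σ (_ *ᵥ u) (_ *ᵥ v) = _
    simp [stdSes, hi, mulVec, dotProduct, Fin.sum_univ_three, hσ]; grind

theorem h_mem_N (h : Om ω) : D 1 ω 1 ∈ subgroupNormalizer (R6 ω) := by
  refine mem_N6 (by simpa [X, D_inv, D_mul] using X_mem_R6 (ω := ω)) ?_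
  have := D_mem_R6 h (a := ω⁻¹) (b := ω) (by simp [h.cube]) h.cube
  rw [mul_inv_cancel, inv_inv, ← pow_two, ← h.inv] at this
  simpa [commutatorElement_def] using
    mul_mem (show ⁅D 1 ω 1, C⁆ ∈ R6 ω by simpa [comm_D_C] using this) C_mem_R6

theorem h_J : D 1 ω 1 * J * (D 1 ω 1)⁻¹ = J := by
  rw [mul_inv_eq_iff_eq_mul, ← mul_inv_eq_iff_eq_mul.1 (J_conj_D 1 ω 1)]

theorem Fou.sq' (h : Fou ω i) : D 1 ω 1 * i * (D 1 ω 1)⁻¹ * (D 1 ω 1 * i * (D 1 ω 1)⁻¹) = J := by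
  rw [conj_mul, h.sq, h_J]

theorem Fou.dvd (h : Fou ω i) (hω : Om ω) (h1 : R6 ω ≤ H) (h2 : i ∈ H)
    (h3 : D 1 ω 1 * i * (D 1 ω 1)⁻¹ ∈ H) : 216 ∣ Nat.card H :=
  Nat.Coprime.mul_dvd_of_dvd_of_dvd (by norm_num : Nat.Coprime 27 8)
    (card_R6 hω ▸ Subgroup.card_dvd_of_le h1) (eight_dvd_card h2 h3 h.sq h.sq' h.br)

theorem scal_le (h : Om ω) (hS : S ≤ S3 F) : scalars (Fin 3) F ⊓ S ≤ R6 ω :=
  (inf_le_inf_left _ hS).trans ((scal_le_R6 h).trans (Subgroup.commutator_le.2 fun _ ha _ hb =>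
    commutator_mem_of_normalizer (Subgroup.le_normalizer ha) hb))

theorem Quo.normal {Y : Type*} [Group Y] [IsSimpleGroup Y] (hQ : Quo S Y)
    (h1 : scalars (Fin 3) F ⊓ S ≤ K) (h2 : S ≤ subgroupNormalizer K) :
    S ≤ K ∨ K ⊓ S ≤ scalars (Fin 3) F := by
  obtain ⟨ρ, a1, a2⟩ := hQ
  have : (K.subgroupOf S).Normal := ⟨fun x hx g => (Subgroup.mem_normalizer_iff.1 (h2 g.2) x.1).1 hx⟩
  rcases (Subgroup.Normal.map this ρ a1).eq_bot_or_eq_top with h | h
  · exact Or.inr fun g hg => (a2 ⟨g, hg.2⟩).1 ((Subgroup.map_eq_bot_iff _).1 h hg.1)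
  · refine Or.inl fun g hg => ?_
    obtain ⟨k, hk, e⟩ := h.ge (Subgroup.mem_top (ρ ⟨g, hg⟩))
    have := h1 ⟨(a2 (k⁻¹ * ⟨g, hg⟩)).1 (by simp [e]), (k⁻¹ * ⟨g, hg⟩).2⟩
    simpa using K.mul_mem hk this

theorem bd_of {Y : Type*} [Group Y] [IsSimpleGroup Y] (h : Om ω) (h2 : (2 : F) ≠ 0)
    (hQ : Quo (U₀ ⊓ S3 F) Y) (hR : R6 ω ≤ U₀) (hJ : J ∈ U₀) (hA : D (-1) (-1) 1 ∈ U₀)
    (hk : ∀ Γ, subgroupNormalizer (R6 ω) ⊓ U₀ ≤ Γ → Γ ≤ U₀ →
      Γ ⊓ S3 F ≤ subgroupNormalizer (R6 ω) ∨ U₀ ⊓ S3 F ≤ Γ) : BD ω (U₀ ⊓ S3 F) U₀ := by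
  have hC : (C : G3 F) ∉ scalars (Fin 3) F :=
    not_mem_scalars (i := 1) (j := 0) (by decide) (by simp [C_val])
  have hR' := le_inf hR ((R6_le ω).trans inf_le_right)
  refine ⟨fun Γ h1 h3 => (hk Γ h1 h3).imp (le_N6 h ((le_inf Subgroup.le_normalizer hR).trans h1)
    (h1 ⟨mem_N6 (J_X (ω := ω) ▸ inv_mem X_mem_R6) (J_C (F := F) ▸ inv_mem C_mem_R6), hJ⟩))
    fun h4 => ⟨⟨_, ⟨hA, D_mem (by simp)⟩, by simp [X, D_mul], fun hN => ?_⟩, fun L a1 a2 a3 => ?_⟩,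
    fun e => absurd e h2⟩
  · have := (ext_R6 h).scalar_of_fix hN (by simp [D_mul, D_one]) X_mem_R6 (by
      simp [X, D_mem_scalars, h.ne_one, Units.ext_iff])
      (by simp [commutatorElement_def, X, D_mul, D_inv, D_mem_scalars])
    have := congrArg Units.val (D_mem_scalars.1 this).2
    exact h2 (by simp at this; linear_combination -this)
  have b1 := (hQ.normal ((scal_le h inf_le_right).trans a1) (h4.trans a3)).resolve_right
    fun e => hC (e ⟨a1 C_mem_R6, hR' C_mem_R6⟩)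
  refine (hQ.normal (((inf_le_inf_left _ inf_le_right).trans (scal_le_R6 h)).trans
    (Subgroup.commutator_mono a1 a1)) fun g hg => Subgroup.mem_normalizer_fintype fun x hx => ?_
    ).resolve_right fun e => hC ?_
  · rw [show g * x * g⁻¹ = ⁅g, x⁆ * x by simp [commutatorElement_def]]
    refine mul_mem (Subgroup.commutator_mem_commutator (b1 hg) ?_) hx
    exact Subgroup.commutator_le.2 (fun _ ha _ hb =>
      commutator_mem_of_normalizer (Subgroup.le_normalizer ha) hb) hx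
  · have b2 : ⁅(J : G3 F), (C : G3 F)⁆ = C := by
      rw [commutatorElement_def, J_C, ← mul_inv_rev, inv_eq_iff_mul_eq_one, ← pow_three']
      exact (ext_R6 h).cube _ C_mem_R6
    exact e ⟨b2 ▸ Subgroup.commutator_mem_commutator (b1 ⟨hJ, J_mem⟩) (a1 C_mem_R6), hR' C_mem_R6⟩

theorem quo_SL : Quo (⊤ ⊓ S3 F) PSL(3, F) := by
  let e : ↥(⊤ ⊓ S3 F) →* SL(3, F) := MonoidHom.mk' (fun g => ⟨g.1.val, mem_specialLinear.1 g.2.2⟩)
    fun _ _ => rfl
  refine ⟨(QuotientGroup.mk' _).comp e, (QuotientGroup.mk'_surjective _).comp fun g =>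
    ⟨⟨SpecialLinearGroup.toGL g, trivial, mem_specialLinear.2 g.2⟩, rfl⟩, fun g => ?_⟩
  refine (QuotientGroup.eq_one_iff _).trans (Matrix.SpecialLinearGroup.mem_center_iff.trans ?_)
  rw [mem_scalars_iff]
  refine ⟨fun ⟨a, h1, ha⟩ => ⟨Units.mk0 a (by rintro rfl; simp at h1), ?_⟩, fun ⟨a, ha⟩ => ⟨a, ?_, ?_⟩⟩
  · exact ha.symm.trans (by simp [smul_one_eq_diagonal])
  · simpa [ha] using mem_specialLinear.1 g.2.2
  · exact Eq.trans (by simp [smul_one_eq_diagonal]) ha.symm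

theorem jobBDL : JobBDL.{u} := fun F _ _ ω hp hq h => by
  have := Cfsg.Agent.S0249.result (F := F) 3 le_rfl
  have hM := max6 (linList (fun H => Cfsg.Agent.S5776.result H) resNorm F) hp hq h (card_R6 h)
    ((ext_R6 h).p6 (card_R6 h))
  rw [← top_inf_eq (S3 F)]
  refine bd_of h (two_ne_zero_of_odd (hp.odd_of_ne_two (by omega))) quo_SL le_top trivial trivial
    fun Γ h1 _ => (hM.2 (Γ ⊓ S3 F) (inf_le_inf_right _ (by simpa using h1)) inf_le_right).imp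
      (fun e => e.le.trans inf_le_left) fun e => inf_le_right.trans (e.ge.trans inf_le_left)

theorem not_Q8 {α : Type*} [Fintype α] {a b : Equiv.Perm α} (hc : Fintype.card α < 8)
    (h1 : a * a = b * b) (h2 : a * b * a = b) : a * a = 1 := by
  have h3 : ∀ k : ℕ, a ^ k * b * a ^ k = b := fun k => by
    induction k with
    | zero => simp
    | succ k ih =>
      calc _ = a * (a ^ k * b * a ^ k) * a := by group
        _ = b := by rw [ih, h2]
  have h4 : a ^ 4 = 1 := by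
    have := h3 2
    rw [sq, h1, mul_assoc (b * b), ← mul_assoc b b b, ← mul_assoc, mul_eq_right, ← h1] at this
    rw [← this, show 4 = 2 + 2 from rfl, pow_add, sq]
  by_contra h
  obtain ⟨x, hx⟩ : ∃ x, (a * a) x ≠ x := not_forall.1 fun e => h (Equiv.ext e)
  have k1 : ∀ m y, (a * a) y ≠ y → (a ^ m) y = y → 4 ∣ m := fun m y hy e => by
    rw [pow_eq_pow_mod m h4] at e
    have := Nat.mod_lt m (by norm_num : 0 < 4)
    have e2 : (a ^ (m % 4) * a ^ (m % 4)) y = y := by rw [Equiv.Perm.mul_apply, e, e]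
    interval_cases h : m % 4
    · omega
    · exact absurd (by simpa using e2) hy
    · exact absurd (sq a ▸ e) hy
    · rw [← pow_add, pow_eq_pow_mod _ h4] at e2
      exact absurd (sq a ▸ e2) hy
  have k2 : ∀ m, (a ^ m) (b x) ≠ x := fun m e => hx (by
    rw [h1, ← congrArg (· * b) (h3 m)]
    simp only [Equiv.Perm.mul_apply, e])
  have k3 : (a * a) (b x) ≠ b x := fun e => hx (b.injective (by
    rw [h1] at e ⊢; exact e))
  have k4 : ∀ (k l : ℕ) y z, (a ^ k) y = (a ^ l) z → (a ^ (3 * l + k)) y = z := fun k l y z e => by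
    rw [pow_add, Equiv.Perm.mul_apply, e, ← Equiv.Perm.mul_apply, ← pow_add,
      show 3 * l + l = 4 * l by ring, pow_mul, h4, one_pow, Equiv.Perm.one_apply]
  refine hc.not_ge (Fintype.card_le_of_injective
    (fun p : Fin 4 × Bool => (a ^ p.1.val) (if p.2 then b x else x)) ?_)
  rintro ⟨k, _ | _⟩ ⟨l, _ | _⟩ e
  · have := k1 _ _ hx (k4 _ _ _ _ e)
    exact Prod.ext (Fin.ext (by dsimp only at *; omega)) rfl
  · exact absurd (k4 _ _ _ _ e.symm) (k2 _)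
  · exact absurd (k4 _ _ _ _ e) (k2 _)
  · have := k1 _ _ k3 (k4 _ _ _ _ e)
    exact Prod.ext (Fin.ext (by dsimp only at *; omega)) rfl

theorem Quo.idx (h : Quo H (alternatingGroup (Fin 6))) (hM : M ≤ H)
    (hZ : scalars (Fin 3) F ⊓ H ≤ M) (hi : M.relIndex H ∣ 10) : H ≤ M ∨ M.relIndex H = 10 := by
  obtain ⟨ρ, h1, h2⟩ := h
  have h3 : ρ.ker ≤ M.subgroupOf H := fun g hg => hZ ⟨(h2 g).1 hg, g.2⟩
  have h4 := Subgroup.index_map_eq _ h1 h3
  rw [or_iff_not_imp_left]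
  intro hc'
  have h5 : (M.subgroupOf H).map ρ ≠ ⊤ := fun e => hc' (by
    rwa [e, Subgroup.index_top, eq_comm, Subgroup.index_eq_one, Subgroup.subgroupOf_eq_top] at h4)
  have : IsSimpleGroup (alternatingGroup (Fin 6)) := alternatingGroup.isSimpleGroup (by simp)
  have h6 := H87.two_mul_card_dvd_factorial (fun h => by
    have := (alternatingGroup.isMulCommutative_iff_card_le_three (α := Fin 6)).1 h
    simp at this) _ h5
  rw [h4, card_A6] at h6
  change _ ∣ (M.relIndex H).factorial at h6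
  have := Nat.le_of_dvd (by norm_num) hi
  interval_cases M.relIndex H <;> simp [Nat.factorial] at hi h6 ⊢

theorem mul_mem_iff_of_relIndex {G : Type*} [Group G] {A B : Subgroup G} (h : A.relIndex B ∣ 2)
    {a b : G} (ha : a ∈ B) (hb : b ∈ B) : a * b ∈ A ↔ (a ∈ A ↔ b ∈ A) := by
  rcases (Nat.dvd_prime Nat.prime_two).1 h with h | h
  · have := Subgroup.relIndex_eq_one.1 h
    simp [this ha, this hb, mul_mem]
  · exact Subgroup.mul_mem_iff_of_index_two h (a := ⟨a, ha⟩) (b := ⟨b, hb⟩)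

theorem relIndex_dvd_two {G : Type*} [Group G] {A B E : Subgroup G} (h : A.relIndex B ∣ 2)
    (hE : E ≤ B) : A.relIndex E ∣ 2 := by
  have h0 : A.relIndex B ≠ 0 := fun e => by simp [e] at h
  have h1 := (Subgroup.relIndex_le_of_le_right hE h0).trans (Nat.le_of_dvd two_pos h)
  have h2 := mt (Subgroup.relIndex_eq_zero_of_le_right hE) h0
  interval_cases A.relIndex E <;> simp at h2 ⊢

theorem card_relIndex {G : Type*} [Group G] {A B : Subgroup G} :
    A.relIndex B * Nat.card ↥(A ⊓ B) = Nat.card B := by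
  rw [← (A.subgroupOf B).index_mul_card, ← Subgroup.inf_subgroupOf_right,
    Nat.card_congr (Subgroup.subgroupOfEquivOfLe inf_le_right).toEquiv,
    Subgroup.inf_subgroupOf_right]; rfl

theorem GU_eq (hF : Fintype.card F = q ^ 2) : GU 3 F q = Iso (stdSes (frob hF)) := by
  rw [← herm_eq hF]; rfl

theorem h_mem_GU (hF : Fintype.card F = q ^ 2) (h3 : q % 3 = 2) (h : Om ω) : D 1 ω 1 ∈ GU 3 F q := by
  have := h.eq
  rw [GU_eq hF]
  intro u v
  change stdSes _ (_ *ᵥ u) (_ *ᵥ v) = _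
  simp [stdSes, D_val, mulVec, dotProduct, Fin.sum_univ_three, h.frob_eq hF h3]; grind

theorem R6_le_G0 (hF : Fintype.card F = q ^ 2) (h3 : q % 3 = 2) (h : Om ω) : R6 ω ≤ G0 F q :=
  (Subgroup.closure_le _).2 (by
    rintro _ (rfl | rfl)
    exacts [D1_mem_G0 hF ((mem_normOne' hF).2 (by rw [h.frob_eq hF h3, ← pow_succ,
      ← Units.val_pow_eq_pow_val, h.cube, Units.val_one])), C_mem_G0 hF])

theorem Fou.mem (hi : Fou ω i) (hF : Fintype.card F = q ^ 2) (h3 : q % 3 = 2) (h : Om ω) :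
    i ∈ subgroupNormalizer (R6 ω) ⊓ G0 F q ∧
      D 1 ω 1 * i * (D 1 ω 1)⁻¹ ∈ subgroupNormalizer (R6 ω) ⊓ G0 F q := by
  have h1 : i ∈ GU 3 F q := GU_eq hF ▸ hi.iso _ (h.frob_eq hF h3)
  have h2 := h_mem_GU hF h3 h
  exact ⟨⟨hi.nor, h1, hi.det⟩, (subgroupNormalizer _).mul_mem (mul_mem (h_mem_N h) hi.nor)
    (inv_mem (h_mem_N h)), (GU 3 F q).mul_mem (mul_mem h2 h1) (inv_mem h2),
    Subgroup.Normal.conj_mem inferInstance _ hi.det _⟩

theorem five (hF : Fintype.card F = 5 ^ 2) (h : Om ω)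
    (h1 : subgroupNormalizer (R6 ω) ⊓ GU 3 F 5 ≤ Γ) (h2 : Γ ≤ GU 3 F 5) :
    Γ ⊓ S3 F ≤ subgroupNormalizer (R6 ω) ∨ G0 F 5 ≤ Γ := by
  by_contra! hn
  obtain ⟨K, hK, a1⟩ := exists_max (Ω := G0 F 5) (M := Γ ⊓ S3 F)
    (lt_of_le_of_ne (inf_le_inf_right _ h2) fun e => hn.2 (e.ge.trans inf_le_left))
  obtain ⟨i, hi⟩ := exists_fou h
  obtain ⟨m1, m2⟩ := hi.mem hF rfl h
  have hR := le_inf Subgroup.le_normalizer (R6_le_G0 hF rfl h)
  have hM : subgroupNormalizer (R6 ω) ⊓ G0 F 5 ≤ Γ ⊓ S3 F := fun g hg => ⟨h1 ⟨hg.1, hg.2.1⟩, hg.2.2⟩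
  have hd := hi.dvd h hR m1 m2
  have hd' := (((ext_R6 h).p6 (card_R6 h)).mono (inf_le_inf_left _ inf_le_right)).card_five hF
    inf_le_right
  have hh : D 1 ω 1 ∈ Γ := h1 ⟨h_mem_N h, h_mem_GU hF rfl h⟩
  have hI := irr_DC h.sq_ne_one (a1 (hM (hR X_mem_R6))) (a1 (hM (hR C_mem_R6)))
  have hS : K ≤ S3 F := hK.1.le.trans inf_le_right
  have e1 := hi.sq
  have e2 := hi.sq'
  have e3 := hi.br
  have e4 := hi.cyc
  set j := D 1 ω 1 * i * (D 1 ω 1)⁻¹ with hj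
  rcases uniList (fun q => Cfsg.Agent.S5778.result q) (fun q => Cfsg.Agent.S5779.result q) hF
    (by omega) K hK with ⟨-, h5, -⟩ | hC
  · exact h5 rfl
  cases hC with
  | iso h => exact h.not_irr hI
  | nd h => exact h.not_irr hI
  | c2 h => exact h rfl
  | c5 F₀ r hr ho h1 => exact not_prime_of_odd hF ho hr h1 Nat.prime_five
  | c5o => omega
  | c6 => omega
  | s7 _ h => exact h rfl
  | s6 => omega
  | s75 _ hQ =>
    obtain ⟨ρ, -, b2⟩ := hQ
    let a : K := ⟨i, a1 (hM m1)⟩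
    let b : K := ⟨j, a1 (hM m2)⟩
    have := not_Q8 (a := (ρ a).1) (b := (ρ b).1) (by simp) (by
      rw [← Subgroup.coe_mul, ← Subgroup.coe_mul, ← map_mul, ← map_mul,
        show a * a = b * b from Subtype.ext (e1.trans e2.symm)]) (by
      rw [← Subgroup.coe_mul, ← Subgroup.coe_mul, ← map_mul, ← map_mul,
        show a * b * a = b from Subtype.ext e3])
    exact J_not_scalar (e1 ▸ (show i * i ∈ _ from
      (b2 (a * a)).1 (Subtype.ext (by simpa using this))))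
  | s65 _ H₀ hle hx hQ =>
    have c0 := hQ.card_dvd (hle.trans hS)
    rw [card_A6] at c0
    have c1 : scalars (Fin 3) F ⊓ H₀ ≤ R6 ω := scal_le h (hle.trans hS)
    have c2 : R6 ω ≤ H₀ := fun x hx' => by
      have := sq_mem_of_relIndex hx (a1 (hM (hR hx')))
      have := mul_mem this this
      rwa [mul_assoc, ← pow_three, (ext_R6 h).cube x hx', mul_one] at this
    have c3 := mul_mem_iff_of_relIndex hx (a1 (hM m2)) (a1 (hM m1))
    have c4 : 4 ∣ Nat.card ↥((Γ ⊓ S3 F) ⊓ H₀) := by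
      have key : ∀ g ∈ (Γ ⊓ S3 F) ⊓ H₀, g * g = J → 4 ∣ Nat.card ↥((Γ ⊓ S3 F) ⊓ H₀) :=
        fun g hg e => (orderOf_eq_prime_pow (p := 2) (n := 1) (x := g) (fun e' => J_not_scalar (by
          rw [← e, ← sq, show g ^ 2 = 1 from e']; exact one_mem _))
          (by rw [show 2 ^ (1 + 1) = 2 * 2 from rfl, pow_mul, sq g, e, sq, J_mul_J])).symm.dvd.trans
          (Subgroup.orderOf_dvd_natCard _ hg)
      by_cases k1 : i ∈ H₀
      · exact key i ⟨hM m1, k1⟩ e1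
      by_cases k2 : j ∈ H₀
      · exact key j ⟨hM m2, k2⟩ e2
      exact key _ ⟨hM (mul_mem m2 m1), c3.2 (iff_of_false k2 k1)⟩ (by rw [← e4, conj_mul, e2, h_J])
    have c5 := Nat.Coprime.mul_dvd_of_dvd_of_dvd (by norm_num : Nat.Coprime 27 4)
      (card_R6 h ▸ Subgroup.card_dvd_of_le (le_inf (hR.trans hM) c2)) c4
    have c6 := card_relIndex (A := Γ ⊓ S3 F) (B := H₀)
    have c7 := Nat.dvd_of_mul_dvd_mul_right (by norm_num)
      (((mul_dvd_mul_left _ c5).trans c6.dvd).trans (show _ ∣ 10 * (27 * 4) from c0))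
    rcases hQ.idx (M := (Γ ⊓ S3 F) ⊓ H₀) inf_le_right (le_inf (c1.trans (hR.trans hM)) inf_le_right)
      (by rwa [Subgroup.inf_relIndex_right]) with c8 | c8
    · have d1 : H₀ ≤ cm (D 1 ω 1) K := fun g hg => a1 ⟨Γ.mul_mem (mul_mem hh (c8 hg).1.1)
        (inv_mem hh), Subgroup.Normal.conj_mem inferInstance _ (c8 hg).1.2 _⟩
      have d2 : (cm (D 1 ω 1) H₀ ⊓ H₀).relIndex H₀ ∣ 2 := by
        rw [Subgroup.inf_relIndex_right]
        exact relIndex_dvd_two (by rwa [L3.cm, L3.cm, Subgroup.relIndex_comap,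
          Subgroup.map_comap_eq_self_of_surjective (MulAut.conj _).surjective]) d1
      have d3 := (hQ.idx inf_le_right (le_inf (fun g hg => by
        rw [mem_cm, ← comm_of_mem_scalars hg.1, mul_inv_cancel_right]; exact hg.2) inf_le_right)
        (d2.trans (by norm_num))).resolve_right (fun e => by simp [e] at d2)
      have d4 : cm (D 1 ω 1) H₀ = H₀ := (Subgroup.eq_of_le_of_card_ge (d3.trans inf_le_left)
        (card_cm ..).le).symm
      have d5 : j ∈ H₀ ↔ i ∈ H₀ := by rw [hj, ← mem_cm, d4]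
      have d6 : j ∈ H₀ := by rw [← d4, mem_cm, e4]; exact c3.2 d5
      have d7 : R6 ω ≤ (subgroupNormalizer (R6 ω) ⊓ G0 F 5) ⊓ H₀ := le_inf hR c2
      have d8 := hQ.le_of_A6 (hle.trans hS) inf_le_right (hi.dvd h d7 ⟨m1, d5.1 d6⟩ ⟨m2, d6⟩)
        (c1.trans d7)
      have := (Subgroup.card_dvd_of_le (d8.trans inf_le_left)).trans hd'
      rw [hQ.card_eq, card_A6] at this
      exact absurd (dvd_of_mul_left_dvd this) (by norm_num)
    · rw [Subgroup.inf_relIndex_right] at c8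
      rw [← c6, c8] at c0
      have d1 := Nat.dvd_of_mul_dvd_mul_left (by norm_num) (show _ ∣ 10 * 108 from c0)
      have d2 := mul_dvd_mul (relIndex_dvd_two hx a1) (inf_comm H₀ _ ▸ d1)
      rw [card_relIndex] at d2
      exact hn.1 ((Subgroup.eq_of_le_of_card_ge hM (Nat.le_of_dvd Nat.card_pos
        (d2.trans hd))).ge.trans inf_le_left)

theorem hm_conj (g e : G3 F) : hm ω (g * e * g⁻¹) = g * hm ω e * g⁻¹ := by
  have h1 : 1 + ((ω : F) - 1) • pj (g * e * g⁻¹) = g.val * (1 + ((ω : F) - 1) • pj e) * g⁻¹.val := by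
    simp only [pj, Units.val_mul, mul_add, add_mul, mul_smul_comm, smul_mul_assoc, mul_one,
      Units.mul_inv, mul_assoc, Units.inv_mul_cancel_left]
  unfold hm Cl.un
  rw [h1]
  by_cases h : IsUnit (1 + ((ω : F) - 1) • pj e)
  · rw [dif_pos h, dif_pos ((g.isUnit.mul h).mul g⁻¹.isUnit)]
    exact Units.ext rfl
  · rw [dif_neg h, dif_neg (by simpa using h)]; simp

theorem hm_X (h : Om ω) : hm ω (X ω) = D 1 ω 1 := by
  have h1 : 1 + ((ω : F) - 1) • pj (X ω) = (D 1 ω 1).val := by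
    have := h.eq
    have := h.ne
    ext a b; fin_cases a <;> fin_cases b <;>
      simp [pj, X, D_val, mul_fin_three, h.inv', one_apply] <;> grind
  unfold hm Cl.un
  rw [h1, dif_pos (Units.isUnit _), IsUnit.unit_of_val_units]

theorem bd_two (hF : Fintype.card F = 2 ^ 2) (h : Om ω) : BD ω (G0 F 2) (GU 3 F 2) := by
  obtain ⟨i, hi⟩ := exists_fou h
  obtain ⟨m1, m2⟩ := hi.mem hF rfl h
  have hR := R6_le_G0 hF rfl h
  have key : ∀ L : Subgroup (G3 F), R6 ω ≤ L → i ∈ L → D 1 ω 1 * i * (D 1 ω 1)⁻¹ ∈ L → G0 F 2 ≤ L :=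
    fun L a1 a2 a3 => (Subgroup.eq_of_le_of_card_ge (inf_le_right (a := L)) (Nat.le_of_dvd
      Nat.card_pos (card_SU_GL hF ▸ hi.dvd h (le_inf a1 hR) ⟨a2, m1.2⟩ ⟨a3, m2.2⟩))).ge.trans
      inf_le_left
  have hN := key _ Subgroup.le_normalizer m1.1 m2.1
  refine ⟨fun Γ h1 h2 => Or.inl (le_N6 h ((le_inf Subgroup.le_normalizer (hR.trans inf_le_left)).trans
    h1) (h1 ⟨hN (J_mem_G0 hF), (J_mem_G0 hF).1⟩) ((inf_le_inf_right _ h2).trans hN)),
    fun _ L a1 a2 => ?_⟩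
  have hX : X ω ∉ scalars (Fin 3) F := by simp [X, D_mem_scalars, h.ne_one, Units.ext_iff]
  have hC : (C : G3 F) ∉ scalars (Fin 3) F := hi.xc ▸ mt conj_mem_scalars.1 hX
  have b1 : ⁅hm ω (X ω), hm ω C⁆ = (D 1 ω 1 * i * (D 1 ω 1)⁻¹)⁻¹ := by
    rw [← hi.xc, hm_conj, hm_X h]
    have e1 := hi.sq.trans hi.sq'.symm
    have e2 := hi.cyc
    generalize D 1 ω 1 = d at *
    calc _ = d * i * d⁻¹ * (d * (d * i * d⁻¹) * d⁻¹)⁻¹ * (d * i * d⁻¹) * i⁻¹ := by
          rw [commutatorElement_def]; group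
      _ = d * i * d⁻¹ * (i * i)⁻¹ := by rw [e2]; group
      _ = _ := by rw [e1]; group
  have b2 := (Subgroup.mem_normalizer_iff.1 (inv_mem (h_mem_N h)) _).1 (X_mem_R6 (ω := ω))
  have b3 := (Subgroup.mem_normalizer_iff.1 (inv_mem (h_mem_N h)) _).1 (C_mem_R6 (ω := ω))
  have b4 := a2 _ b2 (mt conj_mem_scalars.1 hX) _ b3 (mt conj_mem_scalars.1 hC)
  rw [hm_conj, hm_conj, ← conjugate_commutatorElement, b1] at b4
  exact key L a1 (by simpa [mul_assoc] using b4) (inv_mem_iff.1 (b1 ▸ a2 _ X_mem_R6 hX _ C_mem_R6 hC))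

theorem jobBDU : JobBDU.{u} := fun F _ _ q ω hF hp hq h => by
  by_cases h2 : q = 2
  · subst h2; exact bd_two hF h
  have := Cfsg.Agent.S0283.result hF 3 le_rfl fun e => h2 e.2
  refine bd_of h (two_ne_zero_of_odd' hF (hp.odd_of_ne_two h2)) (exists_psi hF)
    ((R6_le_G0 hF hq h).trans inf_le_left) (J_mem_G0 hF).1
    (by simpa using (D_mem_G0 hF (neg_one_mem hF) (neg_one_mem hF)).1) fun Γ h1 h3 => ?_
  by_cases h5 : q = 5
  · subst h5; exact five hF h h1 h3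
  have h11 : 11 ≤ q := by
    by_contra hc
    have := hp.two_le
    interval_cases h : q <;> simp_all (config := {decide := true})
  have hM := maxU6 (uniList (fun q => Cfsg.Agent.S5778.result q) (fun q => Cfsg.Agent.S5779.result q)
    hF (by omega)) hp hq h11 h (card_R6 h)
    (((ext_R6 h).p6 (card_R6 h)).mono (inf_le_inf_left _ inf_le_right))
  exact (hM.2 (Γ ⊓ S3 F) (fun g hg => ⟨h1 ⟨hg.1, hg.2.1⟩, hg.2.2⟩) (inf_le_inf_right _ h3)).imp
    (fun e => e.le.trans inf_le_left) fun e => e.ge.trans inf_le_left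

end H60.L3
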