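import Cfsg.Agent.H14.CBSpec
import Cfsg.Agent.H14.FEKit

/-! # S1308, chapter CB: every element of the plane outside `C(P)` lies on a collinear point. -/

set_option autoImplicit false

namespace H60.CbP5

open Cfsg Subgroup MulAction H14 H98 H1.Gold H31.S2 H14.GC H14.FE H14.NF H14.CB
open scoped commutatorElement

universe u

variable {G : Type u} [Group G]

theorem dec {A B : Subgroup G} {x : G} (h : A ≤ cen B) (hx : x ∈ A ⊔ B) :
    ∃ a ∈ A, ∃ b ∈ B, x = a * b := by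
  have h1 : A ≤ nor B := h.trans (centralizer_le_normalizer _)
  have h2 : x ∈ ((A ⊔ B : Subgroup G) : Set G) := hx
  rw [coe_mul_of_left_le_normalizer_right A B h1] at h2
  obtain ⟨a, ha, b, hb, e⟩ := h2
  exact ⟨a, ha, b, hb, e.symm⟩

theorem conj_eq {t : G} (y : G) (h : t * t = 1) : y * t * y⁻¹ = t * ⁅t, y⁆ := by
  have h1 : t⁻¹ = t := inv_eq_of_mul_eq_one_right h
  rw [commutatorElement_def, h1]
  calc y * t * y⁻¹ = (t * t) * (y * t * y⁻¹) := by rw [h, one_mul]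
    _ = t * (t * y * t * y⁻¹) := by group

theorem fix {A : Subgroup G} {g a : G} (hg : g ∈ cen A) (ha : a ∈ A) : g * a * g⁻¹ = a := by
  rw [← mem_centralizer_iff.mp hg a ha, mul_inv_cancel_right]

theorem fix' {A : Subgroup G} {g a : G} (hg : g ∈ cen A) (ha : a ∈ A) : a * g * a⁻¹ = g := by
  rw [mem_centralizer_iff.mp hg a ha, mul_inv_cancel_right]

theorem col_cj [Finite G] {Q E Q₁ T : Subgroup G} (tg : TG Q E) (c : Col Q E Q E Q₁ T) {g : G}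
    (hg : g ∈ cen E) : Col Q E Q E (cj g Q₁) (cj g T) := by
  obtain ⟨d, hd, -, -, d2, -⟩ := tg.four
  have hn : g ∈ nor Q := by
    have := tg.cen_le 1 d (by rw [cj_one]; exact tg.le hd) d2
      (show g ∈ cen1 d from centralizer_le (Set.singleton_subset_iff.mpr hd) hg)
    rwa [cj_one] at this
  obtain ⟨h, e1, e2⟩ := c.p2
  obtain ⟨y, ⟨y1, y2⟩, ⟨n, yn⟩, y3, y4⟩ := c.mv
  have y5 : y ∈ cen E := y2
  have y6 : g * y * g⁻¹ ∈ cen E := mul_mem (mul_mem hg y5) (inv_mem hg)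
  refine ⟨c.p1, ⟨g * h, by rw [e1, cj_cj], by rw [e2, cj_cj]⟩, fun e => c.ne ?_, fun a ha => ?_,
    g * y * g⁻¹, ⟨(mem_normalizer_iff.mp hn y).mp y1, y6⟩,
    ⟨n, by rw [conj_pow, yn, mul_one, mul_inv_cancel]⟩, fun a ha => ?_, fun k => y4 ?_⟩
  · rw [← cj_inj (g := g), cj_eq_self hn]
    exact e
  · have := mul_mem (mul_mem hg (c.comm (mem_cj.mp ha))) (inv_mem hg)
    rwa [show g * (g⁻¹ * a * g) * g⁻¹ = a by group] at this
  · have h1 := y3 _ (mem_cj.mp ha)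
    have h2 := fix hg h1
    rw [show ⁅a, g * y * g⁻¹⁆ = g * ⁅g⁻¹ * a * g, y⁆ * g⁻¹ by
      simp only [commutatorElement_def]; group, h2]
    exact h1
  · refine mem_centralizer_iff.mpr fun a ha => ?_
    have h1 := mem_centralizer_iff.mp k _ (conj_mem_cj (g := g) ha)
    calc a * y = g⁻¹ * (g * a * g⁻¹ * (g * y * g⁻¹)) * g := by group
      _ = g⁻¹ * (g * y * g⁻¹ * (g * a * g⁻¹)) * g := by rw [h1]
      _ = y * a := by group

theorem jobX : JPar5.{u} := by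
  intro G _ _ Q E tg Q₁ T P Z ln pl x hx hc
  have hPE : P ≤ cen E := ln.pg.le.trans inf_le_right
  have hEP : E ≤ cen P := le_centralizer_iff.mp hPE
  have hTE : T ≤ cen E := ln.col.comm
  have hET : E ≤ cen T := le_centralizer_iff.mp hTE
  have hPZ : P ≤ cen Z := le_centralizer_iff.mp pl.cP
  have hTZ : T ≤ cen Z := le_centralizer_iff.mp pl.cT
  have hT : El T := by
    obtain ⟨h, -, e2⟩ := ln.col.p2
    intro a ha
    rw [e2] at ha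
    have := tg.el _ (mem_cj.mp ha)
    calc a * a = h * (h⁻¹ * a * h * (h⁻¹ * a * h)) * h⁻¹ := by group
      _ = 1 := by rw [this, mul_one, mul_inv_cancel]
  obtain ⟨a, ha, z, hz, rfl⟩ := dec (sup_le (ln.pg.lt.le.trans hPZ) hTZ) hx
  obtain ⟨r, hr, t, ht, rfl⟩ := dec hET ha
  have t1 : t ≠ 1 := by
    rintro rfl
    exact hc (mul_mem (mul_mem (hEP hr) (one_mem _)) (pl.cP hz))
  obtain ⟨r0, hr0, -, -, ⟨r1, -⟩, -⟩ := tg.four
  obtain ⟨m, mm⟩ := pl.mv r0 hr0 r1 z hz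
  obtain ⟨y2, hy2, e2⟩ := ln.fu t ht t1 r0 hr0
  obtain ⟨y1, hy1, e1⟩ := ln.fu t ht t1 (r * r0⁻¹) (mul_mem hr (inv_mem hr0))
  have k1 : ∀ s ∈ E, m * s * m⁻¹ = s * ⁅s, m⁆ := fun s hs => conj_eq m (tg.el s hs)
  have k2 : ∀ s ∈ E, m * s * m⁻¹ ∈ cen P := fun s hs => by
    rw [k1 s hs]
    exact mul_mem (hEP hs) (pl.cP (mm.cm s hs))
  have k3 : ∀ s ∈ E, m⁻¹ * s * m ∈ cen P := fun s hs => by
    have h1 := fix (inv_mem mm.cZ) (mm.cm s hs)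
    have h2 : m⁻¹ * s * m = s * ⁅s, m⁆⁻¹ := by
      calc m⁻¹ * s * m = m⁻¹ * (s * ⁅s, m⁆) * m * (m⁻¹ * ⁅s, m⁆ * m⁻¹⁻¹)⁻¹ := by group
        _ = s * ⁅s, m⁆⁻¹ := by rw [h1, ← k1 s hs]; group
    rw [h2]
    exact mul_mem (hEP hs) (inv_mem (pl.cP (mm.cm s hs)))
  have hw : m * y2 * m⁻¹ ∈ cen E := by
    refine mem_centralizer_iff.mpr fun s hs => ?_
    have h1 := mem_centralizer_iff.mp (k3 s hs) y2 hy2
    calc s * (m * y2 * m⁻¹) = m * (m⁻¹ * s * m * y2) * m⁻¹ := by group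
      _ = m * (y2 * (m⁻¹ * s * m)) * m⁻¹ := by rw [h1]
      _ = m * y2 * m⁻¹ * s := by group
  have key : ∀ b ∈ T, y1 * (m * y2 * m⁻¹) * b * (y1 * (m * y2 * m⁻¹))⁻¹ =
      b * ⁅b, y1⁆ * (m * ⁅b, y2⁆ * m⁻¹) := fun b hb => by
    have h1 := fix (inv_mem mm.cT) hb
    have h2 := fix mm.cT hb
    have h3 := fix' (k2 _ (ln.pg.cm b hb y2 hy2)) hy1
    calc y1 * (m * y2 * m⁻¹) * b * (y1 * (m * y2 * m⁻¹))⁻¹
        = y1 * (m * (y2 * (m⁻¹ * b * m⁻¹⁻¹) * y2⁻¹) * m⁻¹) * y1⁻¹ := by group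
      _ = y1 * (m * (b * ⁅b, y2⁆) * m⁻¹) * y1⁻¹ := by rw [h1, conj_eq y2 (hT b hb)]
      _ = y1 * (m * b * m⁻¹) * y1⁻¹ * (y1 * (m * ⁅b, y2⁆ * m⁻¹) * y1⁻¹) := by group
      _ = b * ⁅b, y1⁆ * (m * ⁅b, y2⁆ * m⁻¹) := by rw [h2, h3, conj_eq y1 (hT b hb)]
  refine ⟨y1 * (m * y2 * m⁻¹), col_cj tg ln.col (mul_mem (hPE hy1) hw), ?_, ?_⟩
  · rintro _ ⟨b, hb, rfl⟩
    have hb' : b ∈ T := hb
    have h1 := ln.pg.cm b hb' y2 hy2
    show y1 * (m * y2 * m⁻¹) * b * (y1 * (m * y2 * m⁻¹))⁻¹ ∈ E ⊔ T ⊔ Z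
    rw [key b hb', k1 _ h1]
    exact mul_mem (mem_sup_left (mul_mem (mem_sup_right hb') (mem_sup_left (ln.pg.cm b hb' y1 hy1))))
      (mul_mem (mem_sup_left (mem_sup_left h1)) (mem_sup_right (mm.cm _ h1)))
  · have h1 := conj_mem_cj (g := y1 * (m * y2 * m⁻¹)) ht
    rw [key t ht, e1, e2, mm.mv] at h1
    have h2 := mem_centralizer_iff.mp (hTE ht) r hr
    rwa [show t * (r * r0⁻¹) * (r0 * z) = t * r * z by group, ← h2] at h1

end H60.CbP5
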