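/- STD-2E6: a small kit for computations in `X` (certificates, commutators, automorphisms). -/
import Cfsg.Agent.H78.TEDef

set_option autoImplicit false
set_option linter.unusedSectionVars false

namespace H60.TE

open Cfsg.Lie H63 H65 H64 H64.SG H68 H46.SF Subgroup H78.TE

section Aut
variable {X : Type*} [Group X] {A : Subgroup X} {β : X → X} (h : AutOn A β)
include h

theorem aut_mem {a : X} (ha : a ∈ A) : β a ∈ A := h.1.mapsTo ha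

theorem aut_one : β 1 = 1 := by simpa using h.2 1 (one_mem _) 1 (one_mem _)

theorem aut_inv {a : X} (ha : a ∈ A) : β a⁻¹ = (β a)⁻¹ :=
  eq_inv_of_mul_eq_one_left (by rw [← h.2 _ (inv_mem ha) _ ha, inv_mul_cancel, aut_one h])

theorem aut_cj {a b : X} (ha : a ∈ A) (hb : b ∈ A) : β (a * b * a⁻¹) = β a * β b * (β a)⁻¹ := by
  rw [h.2 _ (mul_mem ha hb) _ (inv_mem ha), h.2 _ ha _ hb, aut_inv h ha]

theorem aut_cm {a b : X} (ha : a ∈ A) (hb : b ∈ A) :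
    β (a * b * a⁻¹ * b⁻¹) = β a * β b * (β a)⁻¹ * (β b)⁻¹ := by
  rw [h.2 _ (mul_mem (mul_mem ha hb) (inv_mem ha)) _ (inv_mem hb), aut_cj h ha hb, aut_inv h hb]

theorem aut_pow {a : X} (ha : a ∈ A) (k : ℕ) : β (a ^ k) = β a ^ k := by
  induction k with
  | zero => simpa using aut_one h
  | succ k ih => rw [pow_succ, h.2 _ (pow_mem ha k) _ ha, ih, pow_succ]

theorem aut_conj {v : X} (hv : v ∈ A) : AutOn A fun p => v * β p * v⁻¹ := by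
  refine ⟨Set.BijOn.comp (g := fun p => v * p * v⁻¹) ⟨fun p hp => mul_mem (mul_mem hv hp) (inv_mem hv),
    fun a _ b _ e => by simpa using e, fun p hp => ⟨v⁻¹ * p * v,
      mul_mem (mul_mem (inv_mem hv) hp) hv, by group⟩⟩ h.1, fun a ha b hb => ?_⟩
  simp only [h.2 a ha b hb]; group

theorem aut_o2 {Q : Subgroup X} (hQ : IsO2 Q A) {v : X} (hv : v ∈ Q) : β v ∈ Q := by
  let D : Subgroup X :=
    { carrier := β '' Q
      one_mem' := ⟨1, one_mem _, aut_one h⟩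
      mul_mem' := by
        rintro _ _ ⟨a, ha, rfl⟩ ⟨b, hb, rfl⟩
        exact ⟨_, mul_mem ha hb, h.2 a (hQ.1 ha) b (hQ.1 hb)⟩
      inv_mem' := by rintro _ ⟨a, ha, rfl⟩; exact ⟨_, inv_mem ha, aut_inv h (hQ.1 ha)⟩ }
  have k : ∀ p ∈ A, ∀ d ∈ D, p * d * p⁻¹ ∈ D := by
    rintro p hp _ ⟨a, ha, rfl⟩
    obtain ⟨p', hp', rfl⟩ := h.1.surjOn hp
    exact ⟨_, (mem_normalizer_iff.1 (hQ.2.1 hp') a).1 ha, aut_cj h hp' (hQ.1 ha)⟩
  refine hQ.2.2.2 D (by rintro _ ⟨a, ha, rfl⟩; exact aut_mem h (hQ.1 ha))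
    (fun p hp => mem_normalizer_iff.2 fun d => ⟨k p hp d, fun e => by
      simpa [mul_assoc] using k _ (inv_mem hp) _ e⟩) ?_ ⟨v, hv, rfl⟩
  rintro ⟨_, a, ha, rfl⟩
  obtain ⟨k, hk⟩ := hQ.2.2.1 ⟨a, ha⟩
  refine ⟨k, Subtype.ext ?_⟩
  have : a ^ 2 ^ k = 1 := congrArg Subtype.val hk
  rw [coe_pow, ← aut_pow h (hQ.1 ha), this, aut_one h, coe_one]

/-- the elements of `B` on which `β` is trivial modulo `N` -/
def triv (B N : Subgroup X) (hB : B ≤ A) (hN : B ≤ Ns N) : Subgroup X where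
  carrier := {p | p ∈ B ∧ β p * p⁻¹ ∈ N}
  one_mem' := ⟨one_mem _, by simp [aut_one h]⟩
  mul_mem' := by
    rintro a b ⟨a1, a2⟩ ⟨b1, b2⟩
    refine ⟨mul_mem a1 b1, ?_⟩
    convert mul_mem a2 ((mem_normalizer_iff.1 (hN a1) _).1 b2) using 1
    rw [h.2 a (hB a1) b (hB b1)]; group
  inv_mem' := by
    rintro a ⟨a1, a2⟩
    refine ⟨inv_mem a1, ?_⟩
    convert (mem_normalizer_iff.1 (hN (inv_mem a1)) _).1 (inv_mem a2) using 1
    rw [aut_inv h (hB a1)]; group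

end Aut

theorem cj_mem {X : Type*} [Group X] {A : Subgroup X} {n a : X} (hn : n ∈ Ns A) (ha : a ∈ A) :
    n * a * n⁻¹ ∈ A := (mem_normalizer_iff.1 hn a).1 ha

/-- the root condition for `S` to normalise `V` -/
abbrev Nr (S V : Set (Rt E6)) : Prop := ∀ r ∈ S, ∀ s ∈ V, s ≠ ng r ∧ (ip r s = -1 → su r s ∈ V)

/-- the root conditions of a certificate -/
abbrev Cert (S S' V P : Set (Rt E6)) : Prop := Cl S ∧ Cl S' ∧ Cl V ∧ (∀ r ∈ S', r ∈ S) ∧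
  (∀ r ∈ P, 36 ≤ r.1) ∧ (∀ r ∈ V, 36 ≤ r.1 ∧ ∀ s, 36 ≤ s.1 → ip r s = -1 → su r s ∈ V) ∧
  (∀ r ∈ S', ∀ s ∈ P, (ip r s = -1 → su r s ∈ V) ∧ (ip r (gm s) = -1 → su r (gm s) ∈ V)) ∧
  ∀ r ∈ S, r ∉ S' → ∃ s ∈ P, ip r s = -1 ∧ su r s ∉ V

theorem ip_cases : ∀ r s : Rt E6, s = ng r ∨ ip r s = -1 ∨ 0 ≤ ip r s := by decide +kernel

section Y
variable {K : Type} [Field K] [CharP K 2]

theorem cmY {r s : Rt E6} (h : ip r s = -1) (a b : K) :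
    xG E6 K r a * xG E6 K s b * (xG E6 K r a)⁻¹ * (xG E6 K s b)⁻¹ = xG E6 K (su r s) (a * b) :=
  e6.commutator_add (stY K).toStN.toSt (su_add h) a b

theorem mem_XY {r : Rt E6} {y : YY K} (h : y ∈ XR E6 (xG E6 K) r) : ∃ a, y = xG E6 K r a :=
  ((stY K).toStN.toSt.mem_XR).1 h

theorem cm_x {V : Set (Rt E6)} {r s : Rt E6} (h : s ≠ ng r ∧ (ip r s = -1 → su r s ∈ V)) (a b : K) :
    xG E6 K r a * xG E6 K s b * (xG E6 K r a)⁻¹ * (xG E6 K s b)⁻¹ ∈ gY K V := by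
  rcases ip_cases r s with e | e | e
  · exact absurd e h.1
  · rw [cmY e]; exact x_mem_gen (h.2 e) _
  · rw [cY e]; simp

theorem nrY {S V : Set (Rt E6)} (h : Nr S V) {g n : YY K} (hg : g ∈ gY K S) :
    n ∈ gY K V → g * n * g⁻¹ ∈ gY K V := by
  refine gen_induction_left (p := fun g => n ∈ gY K V → g * n * g⁻¹ ∈ gY K V) (by simp)
    (fun r hr y hy g _ ih hn => ?_) hg
  obtain ⟨a, rfl⟩ := mem_XY hy
  convert conj_mem_of_gen (n := xG E6 K r a) (K := gY K V) (fun s hs y hy => ?_) (ih hn) using 1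
  · group
  obtain ⟨b, rfl⟩ := mem_XY hy
  simpa using mul_mem (cm_x (h r hr s hs) a b) (x_mem_gen hs b)

theorem cmY_gen {S S' V : Set (Rt E6)} (h : ∀ r ∈ S, ∀ s ∈ S', s ≠ ng r ∧ (ip r s = -1 → su r s ∈ V))
    (h1 : Nr S V) (h2 : Nr S' V) {g k : YY K} (hg : g ∈ gY K S) (hk : k ∈ gY K S') :
    g * k * g⁻¹ * k⁻¹ ∈ gY K V := by
  refine gen_induction_right (p := fun g => g * k * g⁻¹ * k⁻¹ ∈ gY K V) (by simp)
    (fun g hg r hr y hy ih => ?_) hg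
  obtain ⟨a, rfl⟩ := mem_XY hy
  have : xG E6 K r a * k * (xG E6 K r a)⁻¹ * k⁻¹ ∈ gY K V := by
    refine gen_induction_right (p := fun k => xG E6 K r a * k * (xG E6 K r a)⁻¹ * k⁻¹ ∈ gY K V)
      (by simp) (fun k hk s hs y hy ih => ?_) hk
    obtain ⟨b, rfl⟩ := mem_XY hy
    convert mul_mem ih (nrY h2 hk (cm_x (h r hr s hs) a b)) using 1
    group
  convert mul_mem (nrY h1 hg this) ih using 1
  group

end Y

variable {F K : Type} [Field F] [Field K] [CharP K 2] {T : Qd F K} (kb : T.KB)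
include kb

theorem ct' (hc : T.CT) {S S' V P : Set (Rt E6)} (h : Cert S S' V P) {g : T.X} (hg : g ∈ T.gt S)
    (ht : ∀ s ∈ P, ∀ a, g * T.xs s a * g⁻¹ * (T.xs s a)⁻¹ ∈ T.gt V) : g ∈ T.gt S' :=
  (kb.gtY S' h.2.1 g).2 (hc S S' V P h.1.1 h.2.1.1 h.2.2.2.1 h.2.2.2.2.1 h.2.2.2.2.2.1
    h.2.2.2.2.2.2.1 h.2.2.2.2.2.2.2 g ((kb.gtY S h.1 g).1 hg)
    fun s hs a => (kb.gtY V h.2.2.1 _).1 (ht s hs a))

theorem nr_gt {S V : Set (Rt E6)} (hV : Cl V) (h : Nr S V) : T.gt S ≤ Ns (T.gt V) :=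
  T.gt_le.2 fun r hr u => kb.nrm V hV r (h r hr) u

theorem cm_gt {S S' V : Set (Rt E6)} (h : Cl S ∧ Cl S' ∧ Cl V ∧ Nr S V ∧ Nr S' V ∧
    ∀ r ∈ S, ∀ s ∈ S', s ≠ ng r ∧ (ip r s = -1 → su r s ∈ V)) {g k : T.X} (hg : g ∈ T.gt S)
    (hk : k ∈ T.gt S') : g * k * g⁻¹ * k⁻¹ ∈ T.gt V :=
  (kb.gtY V h.2.2.1 _).2 (cmY_gen h.2.2.2.2.2 h.2.2.2.1 h.2.2.2.2.1 ((kb.gtY S h.1 g).1 hg)
    ((kb.gtY S' h.2.1 k).1 hk))

variable [CharP F 2]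

theorem cj_long {r s v : Rt D4} (h : ip (lr r) (lr s) = -1 ∧ lr v = su (lr r) (lr s)) (a b : F) :
    T.x r a * T.x s b * (T.x r a)⁻¹ = T.x s b * T.x v (a * b) :=
  e4.conj_add kb.st (lr_add.2 (add_iff.2 h)) a b

theorem x_inv' (r : Rt D4) (a : F) : (T.x r a)⁻¹ = T.x r a := x_inv kb.st r a

theorem step_long {B : Subgroup T.X} {r s v : Rt D4}
    (h : ip (lr r) (lr s) = -1 ∧ lr v = su (lr r) (lr s)) {a b : F}
    (h1 : T.x r a * T.x s b * (T.x r a)⁻¹ ∈ B) (h2 : T.x s b ∈ B) : T.x v (a * b) ∈ B := by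
  rwa [cj_long kb h, mul_mem_cancel_left h2] at h1

theorem step_short {B : Subgroup T.X} {r v : Rt D4} {s t : Rt E6}
    (h : gm s ≠ s ∧ ip (lr r) s = -1 ∧ t = su (lr r) s ∧ lr v = su (su (lr r) s) (gm s)) {u : K}
    (h1 : T.xs s u * T.x r 1 * (T.xs s u)⁻¹ ∈ B) (h2 : T.x r 1 ∈ B) (h3 : ∀ c, T.x v c ∈ B) :
    T.xs t u ∈ B := by
  obtain ⟨n, hn⟩ := T.exists_nm u
  rwa [kb.cj r v s h.1 h.2.1 h.2.2.2 u n 1 hn, mul_mem_cancel_right (h3 _), mul_mem_cancel_left h2,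
    map_one, one_mul, ← h.2.2.1] at h1

omit kb [CharP F 2] in
theorem gt_le_of {B : Subgroup T.X} {S : Set (Rt E6)} (L : List (Rt D4)) (M : List (Rt E6))
    (h : ∀ r ∈ S, r ∈ L.map lr ∨ r ∈ M ∨ gm r ∈ M) (h1 : ∀ r ∈ L, ∀ c, T.x r c ∈ B)
    (h2 : ∀ r ∈ M, ∀ u, T.xs r u ∈ B) : T.gt S ≤ B := T.gt_le.2 fun r hr u => by
  rcases h r hr with e | e | e
  · obtain ⟨s, hs, rfl⟩ := List.mem_map.1 e
    obtain ⟨c, hc⟩ := T.exists_tr u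
    exact T.xs_lr s hc ▸ h1 s hs c
  · exact h2 r e u
  · rw [← gm_gm r, T.xs_gm]; exact h2 _ e _

end H60.TE
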