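/- STD-2E6, piece AP2, part 1: normalising `β x₄₆(1)`. -/
import Cfsg.Agent.H60.TEK

set_option autoImplicit false
set_option linter.unusedSectionVars false
set_option synthInstance.maxSize 100000

namespace H60.TE

open Cfsg.Lie H63 H65 H64 H64.SG H68 H46.SF Subgroup H78.TE

/-- the `v` such that `x v` is conjugate under `A` into `x W` -/
def orb {X : Type*} [Group X] {A W : Subgroup X} {x : X} (hx : x⁻¹ ∈ Ns A) (hW : A ≤ Ns W)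
    (hc : ∀ a ∈ A, ∀ b ∈ A, a * b * a⁻¹ * b⁻¹ ∈ W) : Subgroup X where
  carrier := {v | v ∈ A ∧ ∃ a ∈ A, x⁻¹ * a * x * a⁻¹ * v ∈ W}
  one_mem' := ⟨one_mem _, 1, one_mem _, by simp⟩
  mul_mem' := by
    rintro v w ⟨hv, a, ha, h1⟩ ⟨hw, b, hb, h2⟩
    have pa := mul_mem (cj_mem hx ha) (inv_mem ha)
    have pb := mul_mem (cj_mem hx hb) (inv_mem hb)
    refine ⟨mul_mem hv hw, _, mul_mem ha hb, ?_⟩
    convert mul_mem (mul_mem (mul_mem (cj_mem (hW pa) (hc _ ha _ pb))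
      (cj_mem (hW pa) (hc _ pb _ hv))) h1) h2 using 1
    group
  inv_mem' := by
    rintro v ⟨hv, a, ha, h1⟩
    have pa := inv_mem (mul_mem (cj_mem hx ha) (inv_mem ha))
    refine ⟨inv_mem hv, _, inv_mem ha, ?_⟩
    convert mul_mem (hc _ (inv_mem ha) _ pa) (cj_mem (hW pa) (inv_mem h1)) using 1
    group

/-- the Levi roots of `A₂ × A₂` -/
abbrev SL : Set (Rt E6) := {r | a2 r = 0 ∧ a4 r = 0}
abbrev PL : Set (Rt E6) := {R6 56, R6 42, R6 36, R6 37}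

variable {F K : Type} [Field F] [Field K] [CharP K 2] {T : Qd F K}

theorem gt_le_of' {B : Subgroup T.X} {S S0 : Set (Rt E6)} (L : List (Rt D4)) (M : List (Rt E6))
    (h : ∀ r ∈ S, r ∈ S0 ∨ r ∈ L.map lr ∨ r ∈ M ∨ gm r ∈ M) (h0 : T.gt S0 ≤ B)
    (h1 : ∀ r ∈ L, ∀ c, T.x r c ∈ B) (h2 : ∀ r ∈ M, ∀ u, T.xs r u ∈ B) : T.gt S ≤ B := by
  refine T.gt_le.2 fun r hr u => ?_
  rcases h r hr with e | e
  · exact h0 (T.xs_mem e u)
  · exact gt_le_of (S := {r}) L M (fun s hs => by rwa [Set.mem_singleton_iff.1 hs]) h1 h2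
      (T.xs_mem (Set.mem_singleton r) u)

theorem mono {S S' : Set (Rt E6)} (h : ∀ r ∈ S, r ∈ S') : T.gt S ≤ T.gt S' := T.gt_mono h

theorem gt_empty {g : T.X} : g ∈ T.gt ∅ ↔ g = 1 :=
  ⟨fun h => mem_bot.1 (T.gt_le.2 (fun _ h => h.elim) h), fun h => h ▸ one_mem _⟩

theorem cj_gt {n : T.X} {w : Rt E6 → Rt E6} (hn : ∀ s u, n * T.xs s u * n⁻¹ = T.xs (w s) u)
    {S S' : Set (Rt E6)} (h : ∀ r ∈ S, w r ∈ S') {g : T.X} (hg : g ∈ T.gt S) :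
    n * g * n⁻¹ ∈ T.gt S' :=
  (T.gt_le (A := (T.gt S').comap (MulAut.conj n).toMonoidHom)).2
    (fun r hr u => show n * T.xs r u * n⁻¹ ∈ _ from hn r u ▸ T.xs_mem (h r hr) u) hg

variable [CharP F 2] (kb : T.KB)
include kb

theorem lf1 (s : Rt E6) {S : Set (Rt E6)} (h : s ∈ S ∧ ng s ∈ S) : ∃ n ∈ T.gt S,
    (∀ r u, n * T.xs r u * n⁻¹ = T.xs (rg s r) u) ∧
      ∀ r v : Rt D4, rg s (lr r) = lr v → ∀ c, n * T.x r c * n⁻¹ = T.x v c := by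
  obtain ⟨n, hn, w, hw, e⟩ := kb.lfw [s]
  refine ⟨n, T.gt_mono (fun r hr => ?_) hn, fun r u => by rw [hw.xs, e]; rfl,
    fun r v hv c => hw.x T ((e _).trans hv) c⟩
  have : ∀ r : Rt E6, ng (ng r) = r := by decide +kernel
  rcases hr with hr | hr
  · exact List.mem_singleton.1 hr ▸ h.1
  · rw [← this r, List.mem_singleton.1 hr]; exact h.2

theorem split1 {S S0 : Set (Rt E6)} (r : Rt D4) (L : List (Rt E6)) (h : Cl S ∧ (lr r :: L).Nodup ∧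
    (∀ s ∈ lr r :: L, s ∈ S) ∧ (∀ s ∈ S, s ∈ lr r :: L ∨ gm s ∈ lr r :: L) ∧ ∀ s ∈ L, s ∈ S0)
    {g : T.X} (hg : g ∈ T.gt S) : ∃ c, ∃ q ∈ T.gt S0, g = T.x r c * q := by
  obtain ⟨u, rfl⟩ := kb.prod S h.1 _ h.2.1 h.2.2.1 h.2.2.2.1 g hg
  obtain ⟨c, hc⟩ := T.exists_tr (u (lr r))
  rw [List.map_cons, List.prod_cons, T.xs_lr r hc]
  refine ⟨c, _, list_prod_mem fun y hy => ?_, rfl⟩
  obtain ⟨s, hs, rfl⟩ := List.mem_map.1 hy
  exact T.xs_mem (h.2.2.2.2 s hs) _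

theorem nW : T.gt {r | 0 ≤ a2 r ∧ 0 ≤ a4 r} ≤ Ns T.W :=
  nr_gt kb (by decide +kernel) (by decide +kernel)

theorem cAA : ∀ a ∈ T.A, ∀ b ∈ T.A, a * b * a⁻¹ * b⁻¹ ∈ T.W := fun _ ha _ hb =>
  cm_gt kb (by decide +kernel) ha hb

theorem nAW : T.A ≤ Ns T.W := (mono (by decide +kernel)).trans (nW kb)

/-- Every `x v`, `v ∈ Q ∩ A`, is conjugate under `A` into `x W`. -/
theorem exA {v : T.X} (hv : v ∈ T.gt (SQ ∩ SA)) :
    ∃ a ∈ T.A, (T.x (R4 14) 1)⁻¹ * (a * (T.x (R4 14) 1 * v) * a⁻¹) ∈ T.W := by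
  have hx : (T.x (R4 14) 1)⁻¹ ∈ Ns T.A := inv_mem (nr_gt kb (S := SU) (by decide +kernel)
    (by decide +kernel) (kb.x_mem _ (by decide +kernel) 1))
  have kl : ∀ r v : Rt D4, lr r ∈ SA ∧ lr v ∈ SA ∧ ip (lr r) (lr (R4 14)) = -1 ∧
      lr v = su (lr r) (lr (R4 14)) → ∀ c, T.x v c ∈ orb hx (nAW kb) (cAA kb) := fun r v h c => by
    refine ⟨kb.x_mem _ h.2.1 c, _, kb.x_mem r h.1 c, ?_⟩
    rw [mul_assoc _ (T.x r c), mul_assoc _ _ (T.x r c)⁻¹, cj_long kb h.2.2, inv_mul_cancel_left,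
      mul_one, x_sq kb.st]
    exact one_mem _
  have ks : ∀ (s t : Rt E6) (v : Rt D4), s ∈ SA ∧ t ∈ SA ∧ lr v ∈ SW ∧ gm s ≠ s ∧
      ip (lr (R4 14)) s = -1 ∧ t = su (lr (R4 14)) s ∧ lr v = su (su (lr (R4 14)) s) (gm s) →
      ∀ u, T.xs t u ∈ orb hx (nAW kb) (cAA kb) := fun s t v h u => by
    obtain ⟨n, hn⟩ := T.exists_nm u
    refine ⟨T.xs_mem h.2.1 u, _, T.xs_mem h.1 u, ?_⟩
    rw [mul_assoc _ (T.xs s u), mul_assoc _ _ (T.xs s u)⁻¹,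
      kb.cj _ v s h.2.2.2.1 h.2.2.2.2.1 h.2.2.2.2.2.2 u n 1 hn, mul_assoc (T.x _ 1),
      inv_mul_cancel_left, map_one, one_mul, ← h.2.2.2.2.2.1]
    have := cj_mem (nAW kb (T.xs_mem h.2.1 u)) (kb.x_mem v h.2.2.1 (1 * n))
    rwa [T.xs_inv] at this
  have : T.gt (SQ ∩ SA) ≤ orb hx (nAW kb) (cAA kb) := by
    refine gt_le_of' (S0 := SW) [R4 19, R4 16, R4 15] [R6 48, R6 49, R6 52] (by decide +kernel)
      (fun w hw => ⟨mono (by decide +kernel) hw, 1, one_mem _, by simpa using hw⟩) ?_ ?_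
    · simp only [List.forall_mem_cons, List.not_mem_nil, false_imp_iff, implies_true, and_true]
      exact ⟨kl (R4 18) _ (by decide +kernel), kl (R4 13) _ (by decide +kernel),
        kl (R4 12) _ (by decide +kernel)⟩
    · simp only [List.forall_mem_cons, List.not_mem_nil, false_imp_iff, implies_true, and_true]
      exact ⟨ks (R6 40) _ (R4 21) (by decide +kernel), ks (R6 41) _ (R4 20) (by decide +kernel),
        ks (R6 45) _ (R4 17) (by decide +kernel)⟩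
  obtain ⟨hA, a, ha, h⟩ := this hv
  refine ⟨a, ha, ?_⟩
  convert mul_mem (cj_mem (nAW kb (mul_mem (cj_mem hx ha) (inv_mem ha))) (cAA kb _ ha _ hA)) h using 1
  group

theorem xs_long (r : Rt D4) (u : K) : ∃ c, T.xs (lr r) u = T.x r c :=
  (T.exists_tr u).imp fun _ h => T.xs_lr r h

theorem L_cs {S : Set (Rt E6)} (h : ∀ r ∈ SL, ∀ s ∈ S, 0 ≤ ip r s ∧ 0 ≤ ip r (gm s)) :
    T.gt SL ≤ Cs (T.gt S) := T.gt_le.2 fun r hr u _ hy =>
  (T.gt_le (A := Cz (T.xs r u))).2 (fun s hs a => mem_Cz.2 (kb.c0 r s (h r hr s hs).1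
    (h r hr s hs).2 u a)) hy _ rfl |>.symm

theorem x23_ne {c : F} (h : T.x (R4 23) c = 1) : c = 0 := kb.inj _ c h

/-- An element of `W` that is fixed by `L₁` modulo `Z` lies in `El`. -/
theorem wEl (hc : T.CT) (pa : T.PA) {w : T.X} (hw : w ∈ T.W)
    (h : ∀ l ∈ T.gt SL, w * l * w⁻¹ * l⁻¹ ∈ T.Z) : w ∈ T.El := by
  have h1 : w ∈ T.gt {R6 69, R6 70, R6 71} := ct' kb hc (V := SZ) (P := PL) (by decide +kernel) hw
    fun s hs a => kb.gtZ ▸ h _ (T.xs_mem ((by decide +kernel : ∀ s ∈ PL, s ∈ SL) s hs) a)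
  obtain ⟨n, hn, e, -⟩ := lf1 kb (R6 57) (S := SL) (by decide +kernel)
  have h2 := cj_gt e (S' := {R6 53, R6 70, R6 71}) (by decide +kernel) h1
  refine ct' kb hc (V := ∅) (P := {R6 47}) (by decide +kernel) h1 fun s hs a => ?_
  have hs' : T.xs s a ∈ T.gt {R6 47} := T.xs_mem hs a
  have h3 := gt_empty.1 (cm_gt kb (V := ∅) (by decide +kernel) h2 hs')
  have h4 : T.xs s a ∈ T.P0 (hi D4) := pa.p0 ▸ mono (by decide +kernel) hs'
  have h5 := h4 _ (h n hn)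
  rw [mul_inv_eq_one, mul_inv_eq_iff_eq_mul] at h3
  refine gt_empty.2 ?_
  calc _ = w * n * w⁻¹ * n⁻¹ * (n * w * n⁻¹ * T.xs s a) * w⁻¹ * (T.xs s a)⁻¹ := by group
    _ = w * n * w⁻¹ * n⁻¹ * T.xs s a * (n * w * n⁻¹) * w⁻¹ * (T.xs s a)⁻¹ := by rw [h3]; group
    _ = 1 := by rw [h5]; group

end H60.TE
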