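/- STD-2E6, piece AP2: automorphisms of `P₀` for `q = 2`. -/
import Cfsg.Agent.H60.TEA1

set_option autoImplicit false
set_option linter.unusedSectionVars false
set_option synthInstance.maxSize 100000

namespace H60.TE

open Cfsg.Lie H63 H65 H64 H64.SG H68 H46.SF Subgroup H78.TE

theorem sq_aux {X : Type*} [Group X] {x e z y : X} (h1 : x * e * x = e * y) (h2 : z * x = x * z)
    (h3 : z * e = e * z) (h4 : y * e = e * y) (he : e * e = 1) (hz : z * z = 1)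
    (h : 1 = x * (e * z) * (x * (e * z))) : y = 1 :=
  calc y = e * e * y * (z * z) := by rw [he, hz]; group
    _ = e * (e * y) * z * z := by group
    _ = e * (y * e) * z * z := by rw [h4]
    _ = (e * y) * (e * z) * z := by group
    _ = x * e * (x * z) * e * z := by rw [← h1, ← h3]; group
    _ = 1 := by rw [← h2, h]; group

variable {F K : Type} [Field F] [Field K] [CharP K 2] {T : Qd F K} [CharP F 2]

/-- The hypotheses. -/
structure Hy (T : Qd F K) (β : T.X → T.X) : Prop where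
  kb : T.KB
  hc : T.CT
  pa : T.PA
  pb : T.PB
  pc : T.PC
  two : ∀ c : F, c = 0 ∨ c = 1
  aut : AutOn (T.P0 (hi D4)) β
  el : ∀ y ∈ T.El, β y = y
  nA : ∀ y ∈ Cs T.El, β y * y⁻¹ ∈ T.A

namespace Hy

variable {β : T.X → T.X} (h : Hy T β)
include h

theorem leP {S : Set (Rt E6)} (e : ∀ r ∈ S, r ∈ SP) : T.gt S ≤ T.P0 (hi D4) := h.pa.p0 ▸ mono e

theorem xP (r : Rt D4) (e : lr r ∈ SP) (c : F) : T.x r c ∈ T.P0 (hi D4) := h.pa.p0 ▸ h.kb.x_mem r e c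

theorem nZ : T.P0 (hi D4) ≤ Ns T.Z := centralizer_le_normalizer _

theorem all {B : Subgroup T.X} {r : Rt D4} (e : T.x r 1 ∈ B) (c : F) : T.x r c ∈ B := by
  rcases h.two c with rfl | rfl
  · exact h.kb.st.x_zero r ▸ one_mem _
  · exact e

theorem xQ : T.x (R4 14) 1 ∈ T.Q := h.kb.x_mem _ (by decide +kernel) 1

theorem vQA : (T.x (R4 14) 1)⁻¹ * β (T.x (R4 14) 1) ∈ T.gt (SQ ∩ SA) := by
  refine ct' h.kb h.hc (V := ∅) (P := {R6 70}) (by decide +kernel)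
    (mul_mem (inv_mem h.xQ) (aut_o2 h.aut h.pb.q0 h.xQ)) fun s hs a => gt_empty.2 ?_
  have he : T.xs s a ∈ T.El := mono (by decide +kernel) (T.xs_mem hs a)
  have h1 := h.el _ (cj_mem (nr_gt h.kb (S := SQ) (by decide +kernel) (by decide +kernel) h.xQ) he)
  rw [aut_cj h.aut (h.pb.q0.1 h.xQ) (h.leP (by decide +kernel) he), h.el _ he] at h1
  calc _ = (T.x (R4 14) 1)⁻¹ * (β (T.x (R4 14) 1) * T.xs s a * (β (T.x (R4 14) 1))⁻¹) *
      T.x (R4 14) 1 * (T.xs s a)⁻¹ := by group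
    _ = 1 := by rw [h1]; group

theorem conj {a : T.X} (ha : a ∈ T.A) : Hy T fun p => a * β p * a⁻¹ :=
  { h with
    aut := aut_conj h.aut (h.leP (by decide +kernel) ha)
    el := fun y hy => by rw [h.el y hy, ← h.pc.nA.1 ha y hy, mul_inv_cancel_right]
    nA := fun y hy => by
      convert mul_mem (mul_mem ha (h.nA y hy)) (cj_mem (h.pc.nA.2.1 hy) (inv_mem ha)) using 1
      group }

variable (hw : (T.x (R4 14) 1)⁻¹ * β (T.x (R4 14) 1) ∈ T.W)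
include hw

theorem lx {l : T.X} (hl : l ∈ T.gt SL) :
    β l * β (T.x (R4 14) 1) * (β l)⁻¹ = β (T.x (R4 14) 1) ∧ T.x (R4 14) 1 * l = l * T.x (R4 14) 1 := by
  have := L_cs h.kb (S := {R6 46}) (by decide +kernel) hl _ (h.kb.x_mem (R4 14) (by decide +kernel) 1)
  exact ⟨by rw [← aut_cj h.aut (h.leP (by decide +kernel) hl) (h.pb.q0.1 h.xQ), ← this,
    mul_inv_cancel_right], this⟩

theorem lQ {l : T.X} (hl : l ∈ T.gt SL) : β l * l⁻¹ ∈ T.Q := by
  have ha := h.nA l (L_cs h.kb (by decide +kernel) hl)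
  refine mono (S := SQ ∩ SA) (fun _ e => e.1) (ct' h.kb h.hc (V := SW) (P := {R6 46})
    (by decide +kernel) ha fun s hs u => ?_)
  obtain ⟨c, hc⟩ := xs_long h.kb (R4 14) u
  rw [show s = lr (R4 14) from hs, hc]
  rcases h.two c with rfl | rfl
  · simp [h.kb.st.x_zero]
  obtain ⟨e1, e2⟩ := h.lx hw hl
  have n1 := nW h.kb (h.kb.x_mem (R4 14) (by decide +kernel) 1)
  have n2 := nW h.kb (mono (by decide +kernel) hl)
  convert cj_mem n1 (mul_mem hw (inv_mem (cj_mem (mul_mem (nAW h.kb ha) n2) hw))) using 1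
  set x := T.x (R4 14) 1
  calc β l * l⁻¹ * x * (β l * l⁻¹)⁻¹ * x⁻¹ = β l * (l⁻¹ * (x * l)) * (β l)⁻¹ * x⁻¹ := by group
    _ = (β l * β x * (β l)⁻¹) * β l * (β x)⁻¹ * x * (β l)⁻¹ * x⁻¹ := by rw [e2]; group
    _ = _ := by rw [e1]; group

theorem xZ : (T.x (R4 14) 1)⁻¹ * β (T.x (R4 14) 1) ∈ T.Z := by
  have hx := h.pb.q0.1 h.xQ
  have bx := aut_o2 h.aut h.pb.q0 h.xQ
  have h1 := wEl h.kb h.hc h.pa hw fun l hl => by
    obtain ⟨e1, e2⟩ := h.lx hw hl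
    have := h.pc.qq _ (h.lQ hw hl) _ (cj_mem (h.pb.q0.2.1 (h.leP (by decide +kernel) hl)) bx)
    convert cj_mem (h.nZ (inv_mem hx)) this using 1
    set x := T.x (R4 14) 1
    calc x⁻¹ * β x * l * (x⁻¹ * β x)⁻¹ * l⁻¹ = x⁻¹ * β x * l * (β x)⁻¹ * l⁻¹ * (l * x) * l⁻¹ := by group
      _ = x⁻¹ * (β l * β x * (β l)⁻¹) * l * (β x)⁻¹ * l⁻¹ * (x * l) * l⁻¹ := by rw [e1, e2]
      _ = _ := by group
  obtain ⟨c, k, e⟩ := (h.pc.el _).1 h1
  have hz : ∀ k, ∀ p ∈ T.P0 (hi D4), T.x (R4 23) k * p = p * T.x (R4 23) k :=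
    fun k p hp => hp _ (x_mem_XR D4 T.x (hi D4) k)
  change _ = T.x (R4 22) c * T.x (R4 23) k at e
  have he := h.xP (R4 22) (by decide +kernel) c
  have h2 := h.aut.2 _ hx _ hx
  have h3 := cj_long h.kb (r := R4 14) (s := R4 22) (v := R4 23) (by decide +kernel) 1 c
  rw [x_sq h.kb.st, aut_one h.aut, inv_mul_eq_iff_eq_mul.1 e] at h2
  have h4 : T.x (R4 23) (1 * c) = 1 :=
    sq_aux (by rwa [x_inv' h.kb] at h3) (hz k _ hx) (hz k _ he) (hz _ _ he) (x_sq h.kb.st _ _)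
      (x_sq h.kb.st _ _) h2
  rw [e, show c = 0 by simpa using x23_ne h.kb h4, h.kb.st.x_zero, one_mul]
  exact x_mem_XR D4 T.x (hi D4) k

theorem x12 : β (T.x (R4 12) 1) * (T.x (R4 12) 1)⁻¹ ∈ T.Q := by
  have hA : T.x (R4 12) 1 ∈ T.A := h.kb.x_mem _ (by decide +kernel) 1
  have hP := h.xP (R4 12) (by decide +kernel) 1
  have h1 : β (T.x (R4 12) 1) ∈ T.gt (insert (R6 60) (SQ ∩ SA)) := by
    refine ct' h.kb h.hc (V := SQ) (P := PL) (by decide +kernel)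
      ((mul_mem_cancel_right (inv_mem hA)).1 (h.nA _ (h.pc.nA.1 hA))) fun s hs a => ?_
    have hl : T.xs s a ∈ T.gt SL := T.xs_mem ((by decide +kernel : ∀ s ∈ PL, s ∈ SL) s hs) a
    have e := aut_cj h.aut hP (h.leP (by decide +kernel) hl)
    rw [h.kb.cx _ s ((by decide +kernel : ∀ s ∈ PL, 0 ≤ ip (lr (R4 12)) s) s hs),
      mul_inv_cancel_right] at e
    have hq := h.lQ hw hl
    convert mul_mem (cj_mem (h.pb.q0.2.1 (aut_mem h.aut hP)) (inv_mem hq)) hq using 1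
    calc _ = β (T.x (R4 12) 1) * (β (T.xs s a) * (T.xs s a)⁻¹)⁻¹ * (β (T.x (R4 12) 1))⁻¹ *
        (β (T.x (R4 12) 1) * β (T.xs s a) * (β (T.x (R4 12) 1))⁻¹ * (T.xs s a)⁻¹) := by group
      _ = _ := by rw [← e]
  obtain ⟨c, q, hq, e⟩ := split1 h.kb (S0 := SQ) (R4 12) ([47, 48, 49, 51, 52, 53, 54, 55, 63, 65, 66,
    69, 70, 71].map R6) (by decide +kernel) h1
  rcases h.two c with rfl | rfl
  · exfalso
    rw [h.kb.st.x_zero, one_mul] at e
    have h2 := h.pc.qq _ hq _ (aut_o2 h.aut h.pb.q0 h.xQ)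
    rw [← e, ← aut_cm h.aut hP (h.pb.q0.1 h.xQ), e4.commutator_add h.kb.st (u := R4 15)
      (lr_add.2 (add_iff.2 (by decide +kernel)))] at h2
    have p21 := h.xP (R4 21) (by decide +kernel) 1
    have h3 := aut_cm h.aut (h.xP (R4 15) (by decide +kernel) (1 * 1)) p21
    rw [aut_mem h.aut p21 _ h2, e4.commutator_add h.kb.st (u := R4 23)
      (lr_add.2 (add_iff.2 (by decide +kernel))), h.el _ (h.kb.x_mem _ (by decide +kernel) _),
      mul_inv_cancel_right, mul_inv_cancel] at h3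
    simpa using x23_ne h.kb h3
  · rw [e]; exact cj_mem (h.pb.q0.2.1 hP) hq

/-- `β` is trivial on `Q A L₁ / Q` -/
theorem aQ : T.A ≤ triv h.aut (T.P0 (hi D4)) T.Q le_rfl h.pb.q0.2.1 := by
  set C := triv h.aut (T.P0 (hi D4)) T.Q le_rfl h.pb.q0.2.1
  have hL : T.gt SL ≤ C := fun l hl => ⟨h.leP (by decide +kernel) hl, h.lQ hw hl⟩
  have cj : ∀ l ∈ T.gt SL, ∀ a ∈ C, l * a * l⁻¹ ∈ C :=
    fun l hl a ha => mul_mem (mul_mem (hL hl) ha) (inv_mem (hL hl))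
  have k12 : ∀ c, T.x (R4 12) c ∈ C := h.all ⟨h.xP _ (by decide +kernel) 1, h.x12 hw⟩
  have kl : ∀ (s : Rt E6) (v : Rt D4), (s ∈ SL ∧ ng s ∈ SL) ∧ rg s (lr (R4 12)) = lr v →
      ∀ c, T.x v c ∈ C := fun s v e c => by
    obtain ⟨n, hn, -, e'⟩ := lf1 h.kb s e.1
    exact e' _ v e.2 c ▸ cj n hn _ (k12 c)
  have k13 := kl (R6 56) (R4 13) (by decide +kernel)
  have k18 := kl (R6 57) (R4 18) (by decide +kernel)
  have ks : ∀ (r v : Rt D4) (s t : Rt E6), s ∈ SL ∧ gm s ≠ s ∧ ip (lr r) s = -1 ∧ t = su (lr r) s ∧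
      lr v = su (su (lr r) s) (gm s) → (∀ c, T.x r c ∈ C) → (∀ c, T.x v c ∈ C) → ∀ u, T.xs t u ∈ C :=
    fun r v s t e h1 h2 u => step_short h.kb e.2 (cj _ (T.xs_mem e.1 u) _ (h1 1)) (h1 1) h2
  refine gt_le_of' (S0 := SQ) [R4 12, R4 13, R4 18] [R6 45, R6 40, R6 41] (by decide +kernel)
    (fun q hq => ⟨h.pb.q0.1 hq, mul_mem (aut_o2 h.aut h.pb.q0 hq) (inv_mem hq)⟩) ?_ ?_
  · simp only [List.forall_mem_cons, List.not_mem_nil, false_imp_iff, implies_true, and_true]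
    exact ⟨k12, k13, k18⟩
  · simp only [List.forall_mem_cons, List.not_mem_nil, false_imp_iff, implies_true, and_true]
    exact ⟨ks _ _ (R6 15) _ (by decide +kernel) k12 k13, ks _ _ (R6 29) _ (by decide +kernel) k13 k18,
      ks _ _ (R6 14) _ (by decide +kernel) k12 k18⟩

/-- `β` is trivial on `Q / Z` -/
theorem qZ : T.Q ≤ triv h.aut T.Q T.Z h.pb.q0.1 (h.pb.q0.1.trans h.nZ) := by
  set B := triv h.aut T.Q T.Z h.pb.q0.1 (h.pb.q0.1.trans h.nZ)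
  have cj : ∀ a ∈ T.A, ∀ v ∈ B, a * v * a⁻¹ ∈ B := fun a ha v hv => by
    obtain ⟨a1, a2⟩ := h.aQ hw ha
    have h1 := cj_mem (h.pb.q0.2.1 a1) hv.1
    refine ⟨h1, ?_⟩
    rw [aut_cj h.aut a1 (h.pb.q0.1 hv.1)]
    convert mul_mem (cj_mem (h.nZ (aut_mem h.aut a1)) hv.2) (h.pc.qq _ a2 _ h1) using 1
    group
  have k14 : ∀ c, T.x (R4 14) c ∈ B := h.all ⟨h.xQ, by
    convert cj_mem (h.nZ (h.pb.q0.1 h.xQ)) (h.xZ hw) using 1
    group⟩
  have hE : T.El ≤ B := fun y hy => ⟨mono (by decide +kernel) hy, by simp [h.el y hy]⟩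
  have k22 : ∀ c, T.x (R4 22) c ∈ B := fun c => hE (h.kb.x_mem _ (by decide +kernel) c)
  have kl : ∀ r s v : Rt D4, lr r ∈ SA ∧ ip (lr r) (lr s) = -1 ∧ lr v = su (lr r) (lr s) →
      (∀ c, T.x s c ∈ B) → ∀ c, T.x v c ∈ B := fun r s v e h1 c =>
    mul_one c ▸ step_long h.kb e.2 (cj _ (h.kb.x_mem r e.1 c) _ (h1 1)) (h1 1)
  have ks : ∀ (r v : Rt D4) (s t : Rt E6), s ∈ SA ∧ gm s ≠ s ∧ ip (lr r) s = -1 ∧ t = su (lr r) s ∧
      lr v = su (su (lr r) s) (gm s) → (∀ c, T.x r c ∈ B) → (∀ c, T.x v c ∈ B) → ∀ u, T.xs t u ∈ B :=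
    fun r v s t e h1 h2 u => step_short h.kb e.2 (cj _ (T.xs_mem e.1 u) _ (h1 1)) (h1 1) h2
  have k19 := kl (R4 18) _ (R4 19) (by decide +kernel) k14
  have k16 := kl (R4 13) _ (R4 16) (by decide +kernel) k14
  have k15 := kl (R4 12) _ (R4 15) (by decide +kernel) k14
  have k21 := kl (R4 13) _ (R4 21) (by decide +kernel) k19
  have k20 := kl (R4 12) _ (R4 20) (by decide +kernel) k19
  have k17 := kl (R4 12) _ (R4 17) (by decide +kernel) k16
  refine gt_le_of' (S0 := SE) [R4 14, R4 19, R4 16, R4 15, R4 21, R4 20, R4 17]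
    [R6 48, R6 49, R6 52, R6 54, R6 55, R6 66] (by decide +kernel) hE ?_ ?_
  · simp only [List.forall_mem_cons, List.not_mem_nil, false_imp_iff, implies_true, and_true]
    exact ⟨k14, k19, k16, k15, k21, k20, k17⟩
  · simp only [List.forall_mem_cons, List.not_mem_nil, false_imp_iff, implies_true, and_true]
    exact ⟨ks _ _ (R6 40) _ (by decide +kernel) k14 k21, ks _ _ (R6 41) _ (by decide +kernel) k14 k20,
      ks _ _ (R6 45) _ (by decide +kernel) k14 k17, ks _ _ (R6 45) _ (by decide +kernel) k19 k22,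
      ks _ _ (R6 41) _ (by decide +kernel) k16 k22, ks _ _ (R6 40) _ (by decide +kernel) k15 k22⟩

theorem pQ {p : T.X} (hp : p ∈ T.P0 (hi D4)) : β p * p⁻¹ ∈ T.Q := by
  have bp := aut_mem h.aut hp
  have hk := mul_mem (inv_mem hp) bp
  have := h.pc.fth _ hk fun v hv => by
    have h1 := (h.qZ hw (cj_mem (h.pb.q0.2.1 hp) hv)).2
    rw [aut_cj h.aut hp (h.pb.q0.1 hv)] at h1
    convert mul_mem (inv_mem (cj_mem (h.nZ hk) (h.qZ hw hv).2)) (cj_mem (h.nZ (inv_mem hp)) h1) using 1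
    group
  convert cj_mem (h.pb.q0.2.1 hp) this using 1
  group

end Hy

theorem jobAP2 : JobAP2 := fun F K _ _ _ _ _ _ T kb hc pa pb pc ap two β aut el nA => by
  have h : Hy T β := ⟨kb, hc, pa, pb, pc, two, aut, el, nA⟩
  obtain ⟨a, ha, hw⟩ := exA kb h.vQA
  rw [mul_inv_cancel_left] at hw
  obtain ⟨m, hm, v, hv, e⟩ := ap _ (h.conj ha).aut fun p hp => (h.conj ha).pQ hw hp
  obtain rfl : m = 1 := (two m).resolve_left hm
  rw [kb.st.hh_one, one_mul] at e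
  refine ⟨a⁻¹ * v, mul_mem (inv_mem (h.leP (by decide +kernel) ha)) (pb.q0.1 hv), fun p hp => ?_⟩
  calc β p = a⁻¹ * (a * β p * a⁻¹) * a := by group
    _ = _ := by rw [e p hp]; group

end H60.TE
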