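import Cfsg.Agent.H26.DP0ASpec
import Cfsg.Agent.H14.Rel

/-! The projections of `⟨y, z⟩` on a component. -/

set_option autoImplicit false

namespace H60.Dp0CA

open Subgroup Cfsg H98 H48.DP H57.DPC H48.DP2 H26.DA

universe u

variable {G : Type*} [Group G] {K : Subgroup G}

theorem comm_of {k c : G} (hk : k ∈ K) (hc : c ∈ Ce K) : Commute k c :=
  mem_centralizer_iff.1 hc k hk

theorem eq_one_of (h : K ⊓ Ce K = ⊥) {k : G} (hk : k ∈ K) (hc : k ∈ Ce K) : k = 1 :=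
  mem_bot.1 (h ▸ (⟨hk, hc⟩ : k ∈ K ⊓ Ce K))

/-- The projection of an element of order dividing 3 has order dividing 3. -/
theorem proj_pow (h : K ⊓ Ce K = ⊥) {k g : G} (hk : k ∈ K) (hc : k⁻¹ * g ∈ Ce K)
    (hg : g ^ 3 = 1) : k ^ 3 = 1 := by
  have e : k ^ 3 * (k⁻¹ * g) ^ 3 = 1 := by
    rw [← (comm_of hk hc).mul_pow, mul_inv_cancel_left, hg]
  refine eq_one_of h (pow_mem hk 3) ?_
  rw [eq_inv_of_mul_eq_one_left e]
  exact inv_mem (pow_mem hc 3)

/-- The projection of `g` commutes with whatever commutes with `g`. -/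
theorem proj_comm (h : K ⊓ Ce K = ⊥) {k g l w : G} (hk : k ∈ K) (hc : k⁻¹ * g ∈ Ce K)
    (hl : l ∈ K) (hd : l⁻¹ * w ∈ Ce K) (hgw : Commute g w) : Commute k w := by
  obtain ⟨c, rfl⟩ : ∃ c, g = k * c := ⟨k⁻¹ * g, by group⟩
  obtain ⟨d, rfl⟩ : ∃ d, w = l * d := ⟨l⁻¹ * w, by group⟩
  rw [inv_mul_cancel_left] at hc hd
  have e1 : k * c * (l * d) = k * l * (c * d) := by
    rw [mul_assoc, ← mul_assoc c, ← (comm_of hl hc).eq]; group
  have e2 : l * d * (k * c) = l * k * (d * c) := by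
    rw [mul_assoc, ← mul_assoc d, ← (comm_of hk hd).eq]; group
  have e3 : k * l * (c * d) = l * k * (d * c) := by rw [← e1, ← e2]; exact hgw.eq
  have e4 : (l * k)⁻¹ * (k * l) = d * c * (c * d)⁻¹ := by
    calc (l * k)⁻¹ * (k * l) = (l * k)⁻¹ * (k * l * (c * d)) * (c * d)⁻¹ := by group
      _ = _ := by rw [e3]; group
  have e5 : (l * k)⁻¹ * (k * l) = 1 :=
    eq_one_of h (mul_mem (inv_mem (mul_mem hl hk)) (mul_mem hk hl))
      (e4 ▸ mul_mem (mul_mem hd hc) (inv_mem (mul_mem hc hd)))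
  have e6 : Commute k l := (inv_mul_eq_one.1 e5).symm
  exact e6.mul_right (comm_of hk hd)

theorem jobCA : H26.DA.JobCA.{u} := by
  intro G _ _ P K y z h hK
  have : Fact (Nat.Prime 3) := ⟨Nat.prime_three⟩
  have hC : Cm ⊤ K := (h.str.cm K hK).2
  have hcen := hC.sm.cen
  have hcp : H14.CP K ⊤ := H14.cp_iff.2 hK
  obtain ⟨-, -, w, wK, -, -, w3, -⟩ := hC.sm.loc
  have w1 : w ≠ 1 := fun e => by rw [e, orderOf_one] at w3; omega
  have w3' : w ^ 3 = 1 := w3 ▸ pow_orderOf_eq_one w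
  have hz : z ∈ No K := by
    have hS := h.syl.inf_subN hcp.subN
    have hne : P ⊓ K ≠ ⊥ := fun e => by
      have := hS.eq_of_le (isPGroup_zpowers (k := 1) (by rw [pow_one, w3'])) (e.le.trans bot_le)
        (zpowers_le.2 wK)
      exact w1 (mem_bot.1 (e ▸ this ▸ mem_zpowers w))
    obtain ⟨⟨s, hs⟩, s1⟩ := ne_bot_iff_exists_ne_one.1 hne
    have s1 : s ≠ 1 := fun e => s1 (Subtype.ext e)
    have hsz : s * z = z * s := mem_centralizer_singleton_iff.1 (h.cz hs.1)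
    have hs2 : s ∈ cj z K := by
      have := conj_mem_cj (g := z) hs.2
      rwa [← hsz, mul_inv_cancel_right] at this
    rcases hcp.eq_or_commute (hcp.cj_of_mem_normalizer (g := z) (le_normalizer (mem_top z))) with
      e | e
    · exact cj_eq_self_iff.1 e.symm
    · rw [commutator_comm, commutator_eq_bot_iff_le_centralizer] at e
      exact absurd (eq_one_of hcen hs.2 (e hs2)) s1
  refine ⟨hz, fun hy => ?_⟩
  have hyz : Commute y z := mem_centralizer_singleton_iff.1 (h.cz h.yP)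
  have y3 : y ^ 3 = 1 := h.y3 ▸ pow_orderOf_eq_one y
  have z3 : z ^ 3 = 1 := h.z3 ▸ pow_orderOf_eq_one z
  obtain ⟨a, aK, ha⟩ := hC.inn y hy
  obtain ⟨b, bK, hb⟩ := hC.inn z hz
  have two : ∀ e ∈ zpowers y ⊔ zpowers z, ∀ k ∈ K, k⁻¹ * e ∈ Ce K → k ∈ zpowers y ⊔ zpowers z := by
    intro e he k kK hk
    obtain ⟨_, ⟨i, rfl⟩, _, ⟨j, rfl⟩, rfl⟩ := (mem_sup_left_norm (H := zpowers y) (N := zpowers z)
      (zpowers_le.2 (centralizer_le_normalizer _ (by
        rintro _ ⟨n, rfl⟩; exact (hyz.zpow_right n).eq.symm)))).1 he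
    have c1 : Commute (y ^ i * z ^ j) y :=
      ((Commute.refl y).zpow_left i).mul_left (hyz.symm.zpow_left j)
    have c2 : Commute (y ^ i * z ^ j) z :=
      (hyz.zpow_left i).mul_left ((Commute.refl z).zpow_left j)
    have c3 : (y ^ i * z ^ j) ^ 3 = 1 := by
      rw [(hyz.zpow_zpow i j).mul_pow, ← zpow_natCast, ← zpow_natCast, ← zpow_mul, ← zpow_mul,
        mul_comm i, mul_comm j, zpow_mul, zpow_mul, zpow_natCast, zpow_natCast, y3, z3]
      simp
    exact h.st k (proj_pow hcen kK hk c3) (proj_comm hcen kK hk aK ha c1)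
      (proj_comm hcen kK hk bK hb c2)
  refine ⟨?_, fun e he => ?_⟩
  · by_cases a1 : a = 1
    · by_cases b1 : b = 1
      · rw [a1, inv_one, one_mul] at ha
        rw [b1, inv_one, one_mul] at hb
        exact ⟨w, ⟨wK, h.st w w3' (comm_of wK ha) (comm_of wK hb)⟩, w1⟩
      · exact ⟨b, ⟨bK, two z (mem_sup_right (mem_zpowers z)) b bK hb⟩, b1⟩
    · exact ⟨a, ⟨aK, two y (mem_sup_left (mem_zpowers y)) a aK ha⟩, a1⟩
  · obtain ⟨k, kK, hk⟩ := hC.inn e (sup_le (zpowers_le.2 hy) (zpowers_le.2 hz) he)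
    exact ⟨k, ⟨kK, two e he k kK hk⟩, hk⟩

end H60.Dp0CA
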