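import Cfsg.Agent.H41.ItSpec

/-! Tower IT (S3193): job RA, the alternating group of degree seven has at least six centraliser
orders. -/

set_option autoImplicit false

open Cfsg Subgroup

namespace H60.ItRA

open H41.IT

/-- the centraliser in a subgroup of index two has index at most two in the full centraliser -/
theorem card_cent {G : Type*} [Group G] [Finite G] (A : Subgroup G) (hA : A.index = 2) (g : A) :
    c g = c (g : G) ∨ 2 * c g = c (g : G) := by
  have hn : A.Normal := normal_of_index_eq_two hA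
  have e1 : c g = Nat.card (A.subgroupOf (C (g : G))) := by
    refine Nat.card_congr ⟨fun x => ⟨⟨x.1.1, ?_⟩, x.1.2⟩, fun x => ⟨⟨x.1.1, x.2⟩, ?_⟩, fun _ => rfl,
      fun _ => rfl⟩
    · exact mem_centralizer_singleton_iff.mpr
        (congrArg Subtype.val (mem_centralizer_singleton_iff.mp x.2))
    · exact mem_centralizer_singleton_iff.mpr
        (Subtype.ext (mem_centralizer_singleton_iff.mp x.1.2))
  have e2 := (A.subgroupOf (C (g : G))).card_mul_index
  have e3 : (A.subgroupOf (C (g : G))).index ∣ 2 := hA ▸ relIndex_dvd_index_of_normal A (C (g : G))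
  rw [← e1] at e2
  rcases (Nat.dvd_prime Nat.prime_two).mp e3 with h | h <;> rw [h] at e2
  · left; simpa using e2
  · right; rw [mul_comm]; exact e2

theorem ex_val (m : Multiset ℕ) (N : ℕ) (h1 : m.sum ≤ 7) (h2 : ∀ a ∈ m, 2 ≤ a)
    (h3 : Even (m.sum + Multiset.card m)) (h4 : m ≠ 0)
    (h5 : (7 - m.sum).factorial * m.prod * ∏ n ∈ m.toFinset, (m.count n).factorial = N) :
    ∃ a ∈ CS (alternatingGroup (Fin 7)), a = N ∨ 2 * a = N := by
  obtain ⟨g, hg⟩ := (Equiv.Perm.exists_with_cycleType_iff (Fin 7) (m := m)).mpr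
    ⟨by simpa using h1, h2⟩
  have hA : g ∈ alternatingGroup (Fin 7) := by
    rw [Equiv.Perm.mem_alternatingGroup, Equiv.Perm.sign_of_cycleType, hg, h3.neg_one_pow]
  have hc : c g = N := by
    rw [← h5, ← hg]
    simpa using Equiv.Perm.nat_card_centralizer g
  refine ⟨c (⟨g, hA⟩ : alternatingGroup (Fin 7)), ⟨_, fun e => h4 ?_, rfl⟩, ?_⟩
  · rw [← hg, Equiv.Perm.cycleType_eq_zero]
    exact congrArg Subtype.val e
  · rw [← hc]
    exact card_cent _ alternatingGroup.index_eq_two ⟨g, hA⟩

theorem jobRA : JobRA := by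
  obtain ⟨a₁, m₁, h₁⟩ := ex_val {2, 2} 48 (by decide) (by decide) (by decide) (by decide) (by decide)
  obtain ⟨a₂, m₂, h₂⟩ := ex_val {3} 72 (by decide) (by decide) (by decide) (by decide) (by decide)
  obtain ⟨a₃, m₃, h₃⟩ := ex_val {3, 3} 18 (by decide) (by decide) (by decide) (by decide) (by decide)
  obtain ⟨a₄, m₄, h₄⟩ := ex_val {4, 2} 8 (by decide) (by decide) (by decide) (by decide) (by decide)
  obtain ⟨a₅, m₅, h₅⟩ := ex_val {5} 10 (by decide) (by decide) (by decide) (by decide) (by decide)
  obtain ⟨a₆, m₆, h₆⟩ := ex_val {7} 7 (by decide) (by decide) (by decide) (by decide) (by decide)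
  have hf : (CS (alternatingGroup (Fin 7))).Finite :=
    (Set.finite_range fun g : alternatingGroup (Fin 7) => c g).subset
      fun _ ⟨g, _, e⟩ => ⟨g, e.symm⟩
  have hs : ((({a₁, a₂, a₃, a₄, a₅, a₆} : Finset ℕ) : Set ℕ)) ⊆ CS (alternatingGroup (Fin 7)) := by
    intro a ha
    simp only [Finset.coe_insert, Finset.coe_singleton, Set.mem_insert_iff,
      Set.mem_singleton_iff] at ha
    rcases ha with rfl | rfl | rfl | rfl | rfl | rfl <;> assumption
  have := Set.ncard_le_ncard hs hf
  rw [Set.ncard_coe_finset] at this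
  refine le_trans (le_of_eq ?_) this
  rw [Finset.card_insert_of_notMem, Finset.card_insert_of_notMem, Finset.card_insert_of_notMem,
    Finset.card_insert_of_notMem, Finset.card_insert_of_notMem, Finset.card_singleton] <;>
  simp only [Finset.mem_insert, Finset.mem_singleton] <;> omega

end H60.ItRA
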