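import Cfsg.Agent.H98.DP0CSpec

/-! The case that `Q ⊓ H` is not contained in `O₂(H)`. -/

set_option autoImplicit false

namespace H60.Dp0KS

open Subgroup Cfsg H98 H48.DP H57.DPC H48.DP2 H98.DP0C

universe u

theorem jobKS : H98.DP0C.JobKS.{u} := by
  intro key G _ _ M Q H y z u h hH yH zH hn hQ
  have : Fact (Nat.Prime 3) := ⟨Nat.prime_three⟩
  have : Fact (Nat.Prime 2) := ⟨Nat.prime_two⟩
  obtain ⟨N, _, hπ⟩ := exists_pj H
  set π := QuotientGroup.mk' N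
  have hQ2 : IsPGroup 2 Q := h.o2 ▸ isPGroup_pCoreOf M
  have hS2 : IsPGroup 2 (Q ⊓ H : Subgroup G) := hQ2.to_le inf_le_left
  have hnor : ∀ g ∈ M, g ∈ H → g ∈ No (Q ⊓ H) := fun g gM gH =>
    le_normalizer_inf (H := zpowers g) (zpowers_le.2 (h.no.ge gM))
      (le_normalizer_of_le (zpowers_le.2 gH)) (mem_zpowers g)
  refine key G (H ⧸ N) M Q H (Q ⊓ H) π y z u h hH yH zH hn hπ inf_le_right hS2
    (hnor y (Bd.mem h).1 yH) (hnor z (Bd.mem h).2.1 zH) hQ ?_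
  have hz3 : IsPGroup 3 (zpowers (⟨z, zH⟩ : H)) :=
    isPGroup_zpowers (k := 1) (Subtype.ext (by
      rw [pow_one]
      change z ^ 3 = 1
      rw [← h.z3, pow_orderOf_eq_one]))
  obtain ⟨R, hR⟩ := hz3.exists_le_sylow
  have hRM : (R : Subgroup H).map H.subtype ≤ M :=
    t3 h.toUb (R.isPGroup'.map _) h.z3 (Bd.good h) (Bd.mem h).2.1 ⟨_, hR (mem_zpowers _), rfl⟩
  have hO3 : IsPGroup 3 (pCoreOf 3 (⊤ : Subgroup (H ⧸ N))) := isPGroup_pCoreOf _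
  have hOn : (pCoreOf 3 (⊤ : Subgroup (H ⧸ N))).Normal :=
    normal_of_top_le_normalizer (le_normalizer_pCoreOf_of_le le_rfl)
  have hle : pCoreOf 3 (⊤ : Subgroup (H ⧸ N)) ≤ (R : Subgroup H).map π := by
    have h1 := (R.mapSurjective hπ.surj).is_maximal'
      (IsPGroup.to_sup_of_normal_left hO3 (R.mapSurjective hπ.surj).isPGroup') le_sup_right
    exact le_sup_left.trans h1.le
  have hB2 : IsPGroup 2 (bar π (Q ⊓ H)) := (hS2.comap_subtype).map π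
  have hdis := IsPGroup.disjoint_of_ne 2 3 (by decide) _ _ hB2 hO3
  rintro _ ⟨s, hs, rfl⟩
  rw [mem_centralizer_iff]
  intro o ho
  obtain ⟨r, hr, rfl⟩ := hle ho
  have hrN : (r : G) ∈ No (Q ⊓ H) := hnor r (hRM ⟨r, hr, rfl⟩) r.2
  have h1 : π r * π s * (π r)⁻¹ * (π s)⁻¹ ∈ bar π (Q ⊓ H) := by
    refine mul_mem ⟨r * s * r⁻¹, ?_, by simp⟩ (inv_mem ⟨s, hs, rfl⟩)
    exact conj_mem_of_mem_normalizer (H := Q ⊓ H) (x := (s : G)) hrN hs
  have h2 : π r * π s * (π r)⁻¹ * (π s)⁻¹ ∈ pCoreOf 3 (⊤ : Subgroup (H ⧸ N)) := by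
    have := hOn.conj_mem _ (inv_mem ho) (π s)
    have e : π r * π s * (π r)⁻¹ * (π s)⁻¹ = π r * (π s * (π r)⁻¹ * (π s)⁻¹) := by group
    rw [e]
    exact mul_mem ho this
  have h3 := disjoint_def.1 hdis h1 h2
  calc π r * π s = π r * π s * (π r)⁻¹ * (π s)⁻¹ * (π s * π r) := by group
    _ = π s * π r := by rw [h3, one_mul]

end H60.Dp0KS
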