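import Cfsg.Agent.H53.KUSpec

/-! Tower KU (S2196): job B2a, a nondegenerate plane spanned by centres of transvection groups. -/

set_option autoImplicit false

namespace H60.KuB2a

open Cfsg H59 H53.WU H53.KU H26.MU Module

section gen
variable {F V : Type*} [Field F] [AddCommGroup V] [Module F V] {σ : F →+* F}
  {B : V →ₛₗ[σ] V →ₗ[F] F}

theorem gram (h : IsHerm B) {x y z : V} (hx : B x x = 0) (hy : B y y = 0) (hz : B z z = 0)
    (hd : B x y * B y z * B z x + σ (B x y * B y z * B z x) ≠ 0) {a b c : F}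
    (h1 : B x (a • x + b • y + c • z) = 0) (h2 : B y (a • x + b • y + c • z) = 0)
    (h3 : B z (a • x + b • y + c • z) = 0) : a = 0 ∧ b = 0 ∧ c = 0 := by
  rw [map_mul, map_mul, h.symm, h.symm, h.symm] at hd
  simp only [map_add, map_smul, smul_eq_mul, hx, hy, hz] at h1 h2 h3
  refine ⟨(mul_eq_zero.1 ?_).resolve_right hd, (mul_eq_zero.1 ?_).resolve_right hd,
    (mul_eq_zero.1 ?_).resolve_right hd⟩
  · linear_combination (-(B y z * B z y)) * h1 + (B z y * B x z) * h2 + (B x y * B y z) * h3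
  · linear_combination (B y z * B z x) * h1 - (B x z * B z x) * h2 + (B y x * B x z) * h3
  · linear_combination (B y x * B z y) * h1 + (B x y * B z x) * h2 - (B x y * B y x) * h3

/-- In dimension three perpendicular isotropic vectors are dependent. -/
theorem dep [FiniteDimensional F V] (h : IsHerm B) (h3 : finrank F V = 3) {a b : V} (ha : a ≠ 0)
    (haa : B a a = 0) (hbb : B b b = 0) (hab : B a b = 0) : ∃ c : F, c • a = b := by
  by_contra hn
  have li : LinearIndependent F ![a, b] := (LinearIndependent.pair_iff' ha).2 fun c e => hn ⟨c, e⟩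
  have h2 : finrank F (Submodule.span F (Set.range ![a, b])) = 2 := by
    rw [finrank_span_eq_card li, Fintype.card_fin]
  have hle : Submodule.span F (Set.range ![a, b]) ≤ perp B (Submodule.span F (Set.range ![a, b])) := by
    refine Submodule.span_le.2 fun v hv => mem_perp_span.2 fun w hw => ?_
    have hba := h.eq_zero_comm.1 hab
    obtain ⟨i, rfl⟩ := hv
    obtain ⟨j, rfl⟩ := hw
    fin_cases i <;> fin_cases j <;> assumption
  have h4 := Submodule.finrank_mono hle
  have h5 := h.finrank_add_finrank_perp (Submodule.span F (Set.range ![a, b]))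
  omega

theorem cl [FiniteDimensional F V] (h : IsHerm B) (M : Subgroup (V ≃ₗ[F] V)) {E : Submodule F V}
    (hE : Disjoint E (perp B E)) (h3 : finrank F E = 3) : Cl B (Sof B M ∩ E) where
  herm := h
  zero := ⟨zero_mem_Sof, E.zero_mem⟩
  iso _ hx := hx.1.1
  smul a _ hx := ⟨smul_mem_Sof a hx.1, E.smul_mem a hx.2⟩
  add x hx y hy hxy := by
    refine ⟨?_, E.add_mem hx.2 hy.2⟩
    by_cases h0 : B x y = 0
    · by_cases hx0 : x = 0
      · rw [hx0, zero_add]; exact hy.1
      obtain ⟨c, hc⟩ := dep (h.restrict hE) h3 (a := ⟨x, hx.2⟩) (b := ⟨y, hy.2⟩)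
        (fun e => hx0 (congrArg Subtype.val e)) hx.1.1 hy.1.1 h0
      rw [← show c • x = y from congrArg Subtype.val hc, show x + c • x = (1 + c) • x by module]
      exact smul_mem_Sof _ hx.1
    · obtain ⟨t, ht1, ht2⟩ := h.exists_transv hy.1.1 (c := (B y x)⁻¹) (by
        rw [map_inv₀, h.symm, ← h.symm x y, eq_neg_of_add_eq_zero_right hxy, inv_neg,
          neg_add_cancel])
      have := apply_mem_Sof (axisGrp_le_isom _ ht1) (hy.1.2 ht1) hx.1
      rwa [ht2, inv_mul_cancel₀ (mt h.eq_zero_comm.1 h0), one_smul] at this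

/-- Products of transvections of `E` extend to elements of `M`. -/
theorem lift (h : IsHerm B) (M : Subgroup (V ≃ₗ[F] V)) {E : Submodule F V}
    (hE : Disjoint E (perp B E)) (hO : ∀ a ∈ E, B a a = 0 → a ∈ Sof B M) {g : E ≃ₗ[F] E}
    (hg : g ∈ tgrp (B.domRestrict₁₂ E E)) :
    ∃ k ∈ M, (∀ v : E, k v = g v) ∧ ∀ w ∈ perp B E, k w = w := by
  induction hg using Subgroup.closure_induction with
  | mem g hg =>
    obtain ⟨p, hp, hg⟩ := hg
    obtain ⟨c, hc, e⟩ := ((h.restrict hE).mem_axisGrp_isotropic hp).1 hg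
    obtain ⟨k, hk, e'⟩ := h.exists_transv (p := (p : V)) hp hc
    refine ⟨k, (hO _ p.2 hp).2 hk, fun v => ?_, fun w hw => ?_⟩
    · rw [e, e']; rfl
    · exact axisGrp_apply_of_perp hk (mem_perp.1 hw _ p.2)
  | one => exact ⟨1, M.one_mem, fun _ => rfl, fun _ _ => rfl⟩
  | mul g g' _ _ h1 h2 =>
    obtain ⟨k, hk, e, f⟩ := h1
    obtain ⟨k', hk', e', f'⟩ := h2
    refine ⟨k * k', M.mul_mem hk hk', fun v => ?_, fun w hw => ?_⟩
    · rw [LinearEquiv.mul_apply, LinearEquiv.mul_apply, e', e]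
    · rw [LinearEquiv.mul_apply, f' w hw, f w hw]
  | inv g _ h1 =>
    obtain ⟨k, hk, e, f⟩ := h1
    refine ⟨k⁻¹, M.inv_mem hk, fun v => k.symm_apply_eq.2 ?_, fun w hw =>
      k.symm_apply_eq.2 (f w hw).symm⟩
    rw [e]
    exact congrArg Subtype.val (g.apply_symm_apply v).symm

end gen

theorem jobB2a : JobB2a := by
  intro S x y z hx hy hz hd
  have h := S.h
  let M : Subgroup (S.V ≃ₗ[S.F] S.V) := S.K.map S.G.subtype
  have hM : ∀ a, S.O a → a ∈ Sof S.B M := fun a ha => ⟨ha.1.2, fun t ht =>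
    ⟨⟨t, axisGrp_le_sisom ha.1.2 ht⟩, ha.2 ht, rfl⟩⟩
  have hM' : ∀ a, S.Iso a → a ∈ Sof S.B M → S.O a := fun a ha h' => ⟨ha, fun t ht => by
    obtain ⟨k, hk, e⟩ := h'.2 ht
    rwa [← show k = t from Subtype.ext e]⟩
  have hg := fun a b c => gram h hx.1.2 hy.1.2 hz.1.2 hd (a := a) (b := b) (c := c)
  have li : LinearIndependent S.F ![x, y, z] := by
    rw [Fintype.linearIndependent_iff]
    intro c hc
    rw [Fin.sum_univ_three] at hc
    change c 0 • x + c 1 • y + c 2 • z = 0 at hc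
    obtain ⟨h0, h1, h2⟩ := hg (c 0) (c 1) (c 2) (by rw [hc, map_zero]) (by rw [hc, map_zero])
      (by rw [hc, map_zero])
    intro i
    fin_cases i <;> assumption
  set E := Submodule.span S.F (Set.range ![x, y, z]) with hEd
  have h3 : finrank S.F E = 3 := by rw [hEd, finrank_span_eq_card li, Fintype.card_fin]
  have hm : ∀ i, ![x, y, z] i ∈ E := fun i => Submodule.subset_span ⟨i, rfl⟩
  have hE : Disjoint E (perp S.B E) := by
    rw [Submodule.disjoint_def]
    intro v hv hv'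
    obtain ⟨c, hc⟩ := (Submodule.mem_span_range_iff_exists_fun _).1 hv
    rw [Fin.sum_univ_three] at hc
    change c 0 • x + c 1 • y + c 2 • z = v at hc
    obtain ⟨h0, h1, h2⟩ := hg (c 0) (c 1) (c 2) (hc ▸ mem_perp.1 hv' _ (hm 0))
      (hc ▸ mem_perp.1 hv' _ (hm 1)) (hc ▸ mem_perp.1 hv' _ (hm 2))
    rw [← hc, h0, h1, h2, zero_smul, zero_smul, zero_smul, add_zero, add_zero]
  have hO : ∀ a ∈ E, S.B a a = 0 → a ∈ Sof S.B M := fun a ha h0 => by
    refine ((cl h M hE h3).mem_of_mem_span (Submodule.span_mono ?_ ha) h0).1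
    rintro _ ⟨i, rfl⟩
    refine ⟨hM _ ?_, hm i⟩
    fin_cases i <;> assumption
  refine ⟨E, h3, hE, fun a ha hi => hM' a hi (hO a ha hi.2), fun a ha a' ha' h0 h0' e => ?_⟩
  have h' := h.restrict hE
  have n0 : (⟨a, ha⟩ : E) ≠ 0 := fun e => h0 (congrArg Subtype.val e)
  have n0' : (⟨a', ha'⟩ : E) ≠ 0 := fun e => h0' (congrArg Subtype.val e)
  obtain ⟨p, hp, hpp⟩ := h'.exists_self_ne_zero_perp_of_lt
    (W := Submodule.span S.F {(⟨a, ha⟩ : E)}) (by rw [finrank_span_singleton n0, h3]; norm_num)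
  obtain ⟨g, hg1, hg2⟩ := h'.witt_family_sisom (ι := Unit) (u := fun _ => ⟨a, ha⟩)
    (w := fun _ => ⟨a', ha'⟩) (linearIndependent_unique_iff.2 n0)
    (linearIndependent_unique_iff.2 n0')
    (fun _ _ => e) hpp fun _ => h'.eq_zero_comm.1 (mem_perp_singleton.1 hp)
  rw [← h'.tgrp_eq_sisom' S.hF fun h2 => by have := S.hq; omega] at hg1
  obtain ⟨_, ⟨k, hk, rfl⟩, e1, e2⟩ := lift h M hE hO hg1
  exact ⟨k, hk, (e1 ⟨a, ha⟩).trans (congrArg Subtype.val (hg2 ())), e2⟩

end H60.KuB2a
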