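import Cfsg.Agent.H54.YSSpec

/-! STD-SP (row S3129), endgame, slot RS for the symplectic model. -/

set_option autoImplicit false
set_option linter.unusedSectionVars false

namespace H60.YRS

open H64.SG (O2 Syl Cz Cs Ns cjs Is2 Inv2 IsO2 fx)
open Subgroup H67.SP H64.YE H54.YS
open H67.UA hiding Par Base FV FW
open H67.SA (cm St la)

variable {n : ℕ} {K : Type} [Field K] [StarRing K] [TrivialStar K] [CharP K 2] [Finite K]

theorem hf_comm (x y : Vn n K) : hf x y = hf y x := by rw [← star_hf, star_trivial]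

variable [Par n K] [Base n K] [KT n K]

theorem sr_alt {g : XU n K} (h : Sr g) : Alt g := ((FR.rk g).2.1.1 h).2.2

/-- An alternating element of `P` whose product with `TT e₀` is of type `c₂` lies in `Q`. -/
theorem key {v : XU n K} (h0 : ac v (ev 0) = ev 0) (h1 : Alt v) (h2 : Cr (v * TT (ev 0))) :
    v ∈ QQ n K := by
  obtain ⟨u, w, huw, -, e⟩ := h2
  have e1 : u + w = ev 0 := eq_of_hf fun t => by
    have a := congrArg (fun g => hf (ac g t) t) e
    simp only [ac_mul, H86.SPI.ac_TT, ac_add, ac_smul, h0, hf_add_left, hf_smul_left, h1 t,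
      hf_symm huw, FV.iso t, hf_comm t] at a
    apply sq_inj
    rw [hf_add_left]
    linear_combination (-1 : K) * a + (hf u t * hf w t) * two0 K
  have c : v * TT (ev 0) = TT (ev 0) * v := by
    rw [← mul_inv_eq_iff_eq_mul, H86.SPI.TT_conj, h0]
  rw [c, H86.SPI.TT_mul huw, e1] at e
  have hw : hf w (ev 0 : Vn n K) = 0 := by rw [← e1, hf_add_right, hf_symm huw, FV.iso w, add_zero]
  have e2 : u = (1 : K) • ev 0 + (1 : K) • w := by
    rw [← e1, one_smul, one_smul, add_assoc, v_add_self, add_zero]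
  have e3 := H86.SPI.qq_comb (hf_symm hw) 1 1 0 1
  rw [← e2, zero_smul, zero_add, one_smul] at e3
  rw [mul_left_cancel e, e3]
  exact (FV.mem_Qv _ _).2 ⟨_, 0, by rw [hf_smul_left, hw, mul_zero], rfl⟩

theorem sq_one {x : XU n K} (hx : x ∈ QQ n K) : x * x = 1 := by
  obtain ⟨y, c, hy, rfl⟩ := (FV.mem_Qv _ _).1 hx
  exact H86.SPI.EE_sq hy c

theorem pat (v : XU n K) (hv : v ∈ Cs (ZL n K)) (x : XU n K) (hx : x ∈ QQ n K)
    (h : ∀ z ∈ ZL n K, Ac (x * z) (v * z)) : v ∈ QQ n K := by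
  obtain ⟨y, c, hy, rfl⟩ := (FV.mem_QQ _).1 hx
  have hz : ∀ d : K, Tc d (ev 0) ∈ ZL n K := fun d => (FV.mem_Zl _ _).2 ⟨d, rfl⟩
  have hq : ∀ d : K, Tc d (ev 0 : Vn n K) ∈ QQ n K := fun d =>
    (FV.mem_Qv _ _).2 ⟨0, d, hf_zero_left _, rfl⟩
  have e1 : EE (ev 0) y c * Tc c (ev 0) = qq y (ev 0) := by
    rw [H86.SPI.EE_mul' hy.1 (hf_zero_left _), add_zero, CharTwo.add_self_eq_zero, hf_zero_left,
      add_zero]
  suffices k : v * Tc c (ev 0) ∈ QQ n K from (mul_mem_cancel_right (hq c)).1 k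
  obtain ⟨β, hβ⟩ := h _ (hz c)
  rw [e1] at hβ
  by_cases h0 : y = 0
  · rw [← hβ, h0, H86.SPI.qq_zero_left, map_one]; exact one_mem _
  have hl := KT.li y hy h0
  obtain ⟨γ, hγ⟩ := h _ (mul_mem (hz c) (hz 1))
  rw [← mul_assoc, ← mul_assoc, e1] at hγ
  rw [KT.cz] at hv
  refine key ?_ (sr_alt (hβ ▸ (FA.cls β _).2.1 ⟨_, _, hf_symm hy.1, hl, rfl⟩))
    (hγ ▸ (FA.cls γ _).2.2 ⟨y, ev 0 + y, ?_, fun a b e => ?_, ?_⟩)
  · rw [ac_mul, ac_EE_self (FV.ok _ _ _ (hf_zero_left _))]; exact hv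
  · rw [hf_add_right, hy.1, FV.iso y, add_zero]
  · obtain ⟨k1, k2⟩ := hl b (a + b) (by rw [← e, add_smul, smul_add]; abel)
    exact ⟨by rwa [k1, add_zero] at k2, k1⟩
  · have e3 := H86.SPI.qq_comb (hf_symm hy.1) 0 1 1 1
    simp only [zero_smul, zero_add, one_smul, mul_one] at e3
    rw [H86.SPI.TT_mul (by rw [hf_add_right, hy.1, FV.iso y, add_zero]), e3, add_comm (ev 0),
      ← add_assoc, v_add_self, zero_add]
    exact H86.SPI.EE_comm hy.1 (hf_zero_left _) 0 1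

omit [Par n K] [Base n K] [KT n K] in
theorem jobRS : JobRS := by
  intro n K _ _ _ _ _ _ _ _ _ _ τ
  exact ⟨fun v hv _ x hx _ h => pat v hv x hx h, fun x hx => subset_closure ⟨hx, sq_one hx⟩,
    fun _ _ x hx h => (h (sq_one hx)).elim⟩

end H60.YRS
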