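import Cfsg.Agent.H57.U2CSpec
import Cfsg.Agent.H92.DP0BSpec
import Cfsg.Agent.H48.Meta

/-! A vector moved like a transvection pair is centralised by a group of order 9. -/

set_option autoImplicit false

namespace H60.DpvTG

open Subgroup Cfsg H98 H96 H97 H48.DP H57.DPC H57.U2C
open scoped commutatorElement

universe u

/-- A 3-element that fixes `u` modulo the central involution `z` commutes with `u`. -/
theorem three_e {G : Type*} [Group G] {f u z : G} {k : ℕ} (hf : f ^ 3 ^ k = 1) (hz : z * z = 1)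
    (hc : Commute f z) (h : ⁅f, u⁆ ∈ zpowers z) : Commute f u := by
  obtain ⟨n, hn⟩ := h
  have hn : z ^ n = ⁅f, u⁆ := hn
  have d2 : z ^ n * z ^ n = 1 := by rw [← (Commute.refl z).mul_zpow, hz, one_zpow]
  have e : f * u * f⁻¹ = z ^ n * u := by rw [hn, commutatorElement_def]; group
  have c2 : Commute (f ^ 2) u := by
    have e2 : f ^ 2 * u * (f ^ 2)⁻¹ = u := by
      calc f ^ 2 * u * (f ^ 2)⁻¹ = f * (f * u * f⁻¹) * f⁻¹ := by rw [pow_two]; group
        _ = f * (z ^ n * u) * f⁻¹ := by rw [e]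
        _ = (f * z ^ n * f⁻¹) * (f * u * f⁻¹) := by group
        _ = u := by rw [(hc.zpow_right n).eq, mul_inv_cancel_right, e, ← mul_assoc, d2, one_mul]
    exact mul_inv_eq_iff_eq_mul.1 e2
  obtain ⟨m, hm⟩ : Odd (3 ^ k) := Odd.pow (by decide)
  have e3 : f = ((f ^ 2) ^ m)⁻¹ := by
    rw [eq_inv_iff_mul_eq_one, ← pow_mul, ← pow_succ', ← hm, hf]
  rw [e3]
  exact (c2.pow_left m).inv_left

/-- A 3-group that is not cyclic contains an elementary abelian group of order at least 9. -/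
theorem e9_of_not_cyclic {G : Type u} [Group G] [Finite G] {J : Subgroup G} (hJ : IsPGroup 3 J)
    (h : ¬ IsCyclic J) : ∃ E : Subgroup G, E ≤ J ∧ IsElementaryAbelian 3 E ∧ 9 ≤ Nat.card E := by
  have : Fact (Nat.Prime 3) := ⟨Nat.prime_three⟩
  rw [H48.isCyclic_iff_pRankLE_one (p := 3) (by decide) hJ] at h
  simp only [PRankLE, not_forall] at h
  obtain ⟨A, hA, hA3, hn⟩ := h
  have hB : IsElementaryAbelian 3 (A.map J.subtype) := by
    refine H92.DPB.el_of ?_ ?_
    · rintro _ ⟨a, ha, rfl⟩ _ ⟨b, hb, rfl⟩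
      exact (H92.DPB.el_comm (A := A) ⟨hA, hA3⟩ ha hb).map _
    · rintro _ ⟨a, ha, rfl⟩
      rw [← map_pow, hA3 a ha, map_one]
  refine ⟨_, map_subtype_le A, hB, ?_⟩
  rw [card_map_of_injective J.subtype_injective]
  obtain ⟨k, hk⟩ := IsPGroup.iff_card.1 (hJ.to_subgroup A)
  rw [hk] at hn ⊢
  have : 2 ≤ k := by
    by_contra h2
    exact hn (Nat.pow_le_pow_right (by decide) (by omega))
  exact Nat.pow_le_pow_right (n := 3) (by decide) this

theorem jobTG : JobTG.{u} := by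
  intro ta G _ _ K F U z u W _ s h hu ⟨x, xF, x3, tp⟩
  classical
  have : Finite W := s.finite
  have sq : ∀ a ∈ U, a * a = 1 := fun a ha => by rw [← pow_two]; exact h.ea.2 a ha
  have two : ∀ w : W, w + w = 0 := fun w => by
    obtain ⟨a, ha, rfl⟩ := s.surj w
    rw [← s.mul a ha a ha, sq a ha, s.one]
  have Fz : ∀ f ∈ F, Commute f z := fun f hf => mem_centralizer_singleton_iff.1 (h.Kz (h.FK hf))
  have Fn : F ≤ nn U (zpowers z) := fun f hf => ⟨h.KU (h.FK hf), centralizer_le_normalizer _ (by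
    rintro _ ⟨n, rfl⟩
    exact ((Fz f hf).zpow_right n).eq.symm)⟩
  have fix : ∀ f ∈ F, s.α f • s.ψ u = s.ψ u → f ∈ C1 u := fun f hf e => by
    obtain ⟨k, hk⟩ := h.F3 ⟨f, hf⟩
    exact mem_centralizer_singleton_iff.2 (three_e (k := k) (congrArg Subtype.val hk) (sq z h.zU)
      (Fz f hf) ((s.smul_eq_iff (Fn hf) hu).1 e))
  obtain ⟨B, BF, hB, h27⟩ := h.e27
  have key := fun b (hb : b ∈ B) => ta W (s.bar F) x (s.α b) (s.ψ u) two (s.isPGroup_bar h.F3) xF
    (s.α_mem Fn (BF hb)) x3 (by rw [← s.α_pow (Fn (BF hb)), hB.2 b hb, s.α_one]) tp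
  by_cases hA : ∀ b ∈ B, s.α b • s.ψ u = s.ψ u ∨ s.α b • s.ψ u = x • s.ψ u ∨
      s.α b • s.ψ u = s.ψ u + x • s.ψ u
  · refine ⟨B ⊓ C1 u, inf_le_left.trans BF, H92.DPB.el_le hB inf_le_left, ?_, inf_le_right⟩
    have h1 : ((B ⊓ C1 u).subgroupOf B).index ≤ 3 := by
      have inj : Function.Injective fun q : B ⧸ (B ⊓ C1 u).subgroupOf B =>
          (⟨s.α (q.out : B) • s.ψ u, by simpa using hA _ q.out.2⟩ :
            ({s.ψ u, x • s.ψ u, s.ψ u + x • s.ψ u} : Finset W)) := by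
        intro q q' e
        have e1 : s.α (q.out : B) • s.ψ u = s.α (q'.out : B) • s.ψ u := congrArg Subtype.val e
        rw [← q.out_eq, ← q'.out_eq]
        refine QuotientGroup.eq.2 ⟨(q.out⁻¹ * q'.out).2, fix _ (BF (q.out⁻¹ * q'.out).2) ?_⟩
        change s.α (((q.out : B) : G)⁻¹ * ((q'.out : B) : G)) • s.ψ u = s.ψ u
        rw [s.α_mul (inv_mem (Fn (BF q.out.2))) (Fn (BF q'.out.2)), s.α_inv (Fn (BF q.out.2)),
          mul_smul, ← e1, inv_smul_smul]
      refine (Nat.card_le_card_of_injective _ inj).trans ?_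
      rw [Nat.card_eq_fintype_card, Fintype.card_coe]
      exact Finset.card_le_three
    have h2 := ((B ⊓ C1 u).subgroupOf B).card_mul_index
    rw [Nat.card_congr (subgroupOfEquivOfLe (inf_le_left : B ⊓ C1 u ≤ B)).toEquiv] at h2
    nlinarith
  · push Not at hA
    obtain ⟨b, hb, n1, n2, n3⟩ := hA
    obtain ⟨c1, c2, c3⟩ := (key b hb).resolve_left fun k => by
      rcases k.1 with k | k | k
      exacts [n1 k, n2 k, n3 k]
    have hβ : s.α b ∈ s.bar F := s.α_mem Fn (BF hb)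
    obtain ⟨f1, f1F, e1⟩ := s.exists_α (mul_mem (mul_mem hβ xF) (inv_mem hβ))
    obtain ⟨f2, f2F, e2⟩ := s.exists_α (mul_mem (mul_mem (inv_mem hβ) xF) hβ)
    have o1 : orderOf (s.α f1) = 3 := by
      rw [e1, ← x3]
      exact (SemiconjBy.orderOf_eq (s.α b) (by simp [SemiconjBy])).symm
    have o2 : orderOf (s.α f2) = 3 := by
      rw [e2, ← x3]
      exact (SemiconjBy.orderOf_eq (s.α b)⁻¹ (by simp [SemiconjBy, mul_assoc])).symm
    rw [← e1] at c1
    rw [← e2] at c2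
    rw [← e1, ← e2] at c3
    have hJ : ¬ IsCyclic ↥(F ⊓ C1 u) := by
      rintro ⟨g, hg⟩
      have gn : (g : G) ∈ nn U (zpowers z) := Fn g.2.1
      have mem : ∀ f ∈ F ⊓ C1 u, s.α f ∈ zpowers (s.α g) := fun f hf => by
        obtain ⟨n, hn⟩ := hg ⟨f, hf⟩
        have e : (g : G) ^ n = f := congrArg Subtype.val hn
        refine ⟨n, ?_⟩
        change s.α g ^ n = s.α f
        rw [← e, s.α_eq gn, s.α_eq (zpow_mem gn n), ← map_zpow]
        rfl
      have m1 := mem f1 ⟨f1F, fix f1 f1F c1⟩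
      have m2 := mem f2 ⟨f2F, fix f2 f2F c2⟩
      have cm : Commute (s.α f2) (s.α f1) := by
        obtain ⟨i, hi⟩ := m1
        obtain ⟨j, hj⟩ := m2
        rw [← hi, ← hj]
        exact Commute.zpow_zpow_self _ j i
      obtain ⟨k1, k2⟩ := H92.DPB.e9 o2 o1 cm c3
      have k3 := H48.card_le_of_cyclic_of_exponent'
        (Subgroup.isCyclic_of_le (sup_le (zpowers_le.2 m2) (zpowers_le.2 m1))) (by decide) k1.2
      omega
    obtain ⟨E, h1, h2, h3⟩ := e9_of_not_cyclic (h.F3.to_le inf_le_left) hJ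
    exact ⟨E, h1.trans inf_le_left, h2, h3, h1.trans inf_le_right⟩

end H60.DpvTG
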