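import Cfsg.Agent.H60.A12LinD

/-! Tower A12 (row S3101), slot LIN: transvections on `E = 2⁵` generate `S₆`. -/

set_option autoImplicit false

namespace H60.A12L

open Subgroup Equiv H51.X12 H20.X16.BV
open H20.X16 (BV pw map_pw)
open H98 (IsSyl)

variable {Y : Subgroup W} {f f' g : W} {y y' : BV 5}

/-- centres of transvections in `Y` -/
def Ga (Y : Subgroup W) (y : BV 5) : Prop := ∃ τ ∈ Y, τ ≠ 1 ∧ Tv τ y

theorem Ga.map (h : Ga Y y) (hg : g ∈ Y) : Ga Y (g y) := by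
  obtain ⟨τ, h1, h2, h3⟩ := h
  exact ⟨_, mul_mem (mul_mem hg h1) (inv_mem hg), conj_ne h2 g, h3.conj g⟩

theorem by_mul {ε : Finset (Fin 6) → BV 5} {σ τ : Perm (Fin 6)} (h : By ε f σ) (h' : By ε g τ) :
    By ε (f * g : W) (σ * τ) := fun I hI => by
  show f (g (ε I)) = _
  rw [h' I hI, h _ (by rwa [Finset.card_map]), Finset.map_map]
  rfl

theorem map_pw' (f : W) (c : Bool) (x : BV 5) : f (pw c x) = pw c (f x) :=
  map_pw f.toMonoidHom c x

variable (hS : IsSyl 2 acH.range Y)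
include hS

theorem mS (m : M) : acH m ∈ Y := hS.le ⟨m, rfl⟩

theorem two (hf : f ∈ Y) (hf' : f' ∈ Y) (n : f ≠ 1) (n' : f' ≠ 1) (t : Tv f y) (t' : Tv f' y')
    (c : f * f' = f' * f) : ∃ g ∈ Y, ∃ i j, g y = zj i ∧ g y' = zj j ∧ (i = j → f = f') := by
  have : Fact (Nat.Prime 2) := ⟨Nat.prime_two⟩
  obtain ⟨g, hg, l⟩ := hS.exists_cj_le (Q := zpowers f ⊔ zpowers f')
    ((H98.isPGroup_zpowers (k := 1) (by rw [pow_one, sq, t.sq])).to_sup_of_normal_right' (H98.isPGroup_zpowers (k := 1) (by rw [pow_one, sq, t'.sq]))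
      (H98.le_normalizer_of_le_centralizer (zpowers_le.2 (by
        rintro _ ⟨k, rfl⟩; exact (Commute.zpow_left c.symm k :)))))
    (sup_le (zpowers_le.2 hf) (zpowers_le.2 hf'))
  have k : ∀ {f : W} {y}, f ∈ zpowers _ ⊔ zpowers _ → f ≠ 1 → Tv f y →
      ∃ i, g y = zj i ∧ g * f * g⁻¹ = acH (aj i) := fun hf n t => by
    obtain ⟨m, e⟩ := l (H98.conj_mem_cj hf)
    rcases tv_S m _ (by have := t.conj g; rw [← e] at this; exact this) with h | ⟨i, h1, h2⟩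
    · exact absurd (e.symm.trans (MulEquiv.ext (g := (1 : W)) h)) (conj_ne n g)
    · exact ⟨i, h1, e.symm.trans (MulEquiv.ext h2)⟩
  obtain ⟨i, h1, h2⟩ := k (mem_sup_left (mem_zpowers f)) n t
  obtain ⟨j, h3, h4⟩ := k (mem_sup_right (mem_zpowers f')) n' t'
  refine ⟨g, hg, i, j, h1, h3, fun e => ?_⟩
  rw [e, ← h4] at h2
  exact mul_left_cancel (mul_right_cancel h2)

theorem uniq (hf : f ∈ Y) (hf' : f' ∈ Y) (n : f ≠ 1) (n' : f' ≠ 1) (t : Tv f y) (t' : Tv f' y) :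
    f = f' := by
  obtain ⟨g, -, i, j, h1, h2, h3⟩ := two hS hf hf' n n' t t' (by
    rw [← inv_eq_of_mul_eq_one_right (t.mul t').sq, mul_inv_rev, inv_eq_of_mul_eq_one_right t.sq,
      inv_eq_of_mul_eq_one_right t'.sq])
  exact h3 (zj_inj i j (h1.symm.trans h2))

theorem comm (hf : f ∈ Y) (hf' : g ∈ Y) (n : f ≠ 1) (t : Tv f y) (e : g y = y) :
    g * f = f * g :=
  mul_inv_eq_iff_eq_mul.1 (uniq hS (mul_mem (mul_mem hf' hf) (inv_mem hf')) hf (conj_ne n g) n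
    (e ▸ t.conj g) t)

theorem symm' (hf : f ∈ Y) (hf' : f' ∈ Y) (n : f ≠ 1) (n' : f' ≠ 1) (t : Tv f y) (t' : Tv f' y')
    (e : f' y = y) : f y' = y' := by
  have := t'.conj f
  rw [← comm hS hf hf' n t e, mul_inv_cancel_right] at this
  exact this.ctr t' n'

omit hS in
theorem a_ne (j : Fin 3) : acH (aj j) ≠ 1 := fun e => by
  obtain ⟨x, hx⟩ := (tv_a j).2
  exact hx (DFunLike.congr_fun e x)

theorem ga_z (j : Fin 3) : Ga Y (zj j) := ⟨_, mS hS (aj j), a_ne j, (tv_a j).1⟩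

theorem t_fix (h1 : ∀ f ∈ Y, f tE = tE ∨ tb (f tE) 4 = true) : ∀ f ∈ Y, f tE = tE := fun f hf => by
  refine (h1 f hf).elim id fun hx => ?_
  obtain ⟨n1, n2, n3, e⟩ := plane _ hx
  have k : ∀ m, acE m (f tE) ≠ f tE → tb (f.symm (acE m (f tE))) 4 = true := fun m n =>
    (h1 _ (mul_mem (mul_mem (inv_mem hf) (mS hS m)) hf)).resolve_left fun e =>
      n (f.symm_apply_eq.1 e)
  refine absurd ?_ (plane' _ _ _ (k _ n1) (k _ n2) (k _ n3))
  have := congrArg f.symm e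
  rwa [map_mul, map_mul, map_mul, f.symm_apply_apply, map_one] at this

variable (ht : ∀ f ∈ Y, f tE = tE)
include ht

theorem not_both (h : Ga Y y) (h' : Ga Y (y * tE)) : False := by
  obtain ⟨f, hf, n, t⟩ := h
  obtain ⟨f', hf', n', t'⟩ := h'
  have e := t'.1
  rw [map_mul, ht f' hf', mul_left_inj] at e
  obtain ⟨g, hg, i, j, h1, h2, -⟩ := two hS hf hf' n n' t t' (comm hS hf hf' n t e).symm
  rw [map_mul, ht g hg, h1] at h2
  exact zj_t i j h2

theorem ga_ne (h : Ga Y y) : y ≠ 1 ∧ y ≠ tE := by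
  obtain ⟨f, hf, n, t⟩ := h
  obtain ⟨g, hg, i, -, h1, -⟩ := two hS hf hf n n t t rfl
  exact ⟨fun e => (zj_ne i).1 (by rw [← h1, e, map_one]), fun e => (zj_ne i).2 (by
    rw [← h1, e, ht g hg])⟩

theorem ga_k (h2 : ∃ f ∈ Y, tb (f (el 16)) 4 = false)
    (h3 : ∃ f ∈ Y, ∃ x, low x = true ∧ low (f x) = false) : ∃ e, Ga Y (kk e) := by
  obtain ⟨f, hf, x, l1, l2⟩ := h3
  obtain ⟨j, hj⟩ : ∃ j, low (f (zj j)) = false := by
    by_contra hn
    push Not at hn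
    simp only [ne_eq, Bool.not_eq_false] at hn
    rw [low_dec x l1, map_mul, map_mul, map_pw', map_pw', map_pw',
      low_pw _ _ _ _ _ _ (hn 0) (hn 1) (hn 2)] at l2
    cases l2
  have hy := (ga_z hS j).map hf
  cases h4 : tb (f (zj j)) 4
  · obtain ⟨g, hg, h5⟩ := h2
    obtain ⟨e, h6⟩ := orb0 _ _ hj h4 h5 (fun e => absurd (g.map_eq_one_iff.1 e) (by decide))
      (fun e => absurd (g.injective (e.trans (ht g hg).symm)) (by decide))
    have h7 : Ga Y (g (el 16) * pw e tE) := by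
      rcases h6 with ⟨i, h6⟩ | ⟨i, i', h6⟩ <;> rw [h6]
      exacts [ga_z hS i, hy.map (mS hS _)]
    have h8 := h7.map (inv_mem hg)
    rw [map_mul, map_pw', ht _ (inv_mem hg)] at h8
    exact ⟨e, by rwa [show g⁻¹ (g (el 16)) = el 16 from g.symm_apply_apply _] at h8⟩
  · obtain ⟨m, e, h5⟩ := orb1 _ h4
    exact ⟨e, h5 ▸ hy.map (mS hS m)⟩

theorem by_tau {e : Bool} (h : Ga Y (kk e)) : ∃ d, ∃ f ∈ Y, By (ep e d) f (swap 0 4) := by
  obtain ⟨τ, hτ, n, t⟩ := h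
  have h1 : τ (el 2) = el 2 := symm' hS hτ (mS hS _) n (a_ne 1) t (tv_a 1).1 (a_k e).1
  have h0 : τ (el 1) = el 1 * kk e := (t.2 _).resolve_left fun e0 =>
    (a_k e).2 (symm' hS (mS hS _) hτ (a_ne 0) n (tv_a 0).1 t e0)
  have h2 : τ (el 4) = el 4 * kk e := by
    have := ht τ hτ
    rw [show tE = el 1 * el 2 * el 4 by decide, map_mul, map_mul, h0, h1,
      mul_right_comm (el 1) (kk e), mul_assoc (el 1 * el 2), mul_right_inj] at this
    rw [mul_comm, ← mul_mul_self (kk e) (τ _), this]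
  have h4 : τ (el 16) = el 16 := by
    have := t.1
    rwa [kk, map_mul, map_pw', ht τ hτ, mul_left_inj] at this
  obtain ⟨d, h3⟩ : ∃ d, τ (el 8) = el 8 * pw (!d) (kk e) :=
    (t.2 _).elim (fun h => ⟨true, h.trans (mul_one _).symm⟩) fun h => ⟨false, h⟩
  refine ⟨d, τ, hτ, fun I hI => ?_⟩
  rw [← by_t e d I hI, ← h0, ← h1, ← h2, ← h3, ← h4]
  exact map5 τ.toMonoidHom _

omit ht in
theorem full {e d : Bool} (h : ∃ f ∈ Y, By (ep e d) f (swap 0 4)) (σ : Perm (Fin 6)) :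
    ∃ f ∈ Y, By (ep e d) f σ := by
  let H : Submonoid (Perm (Fin 6)) :=
    { carrier := {σ | ∃ f ∈ Y, By (ep e d) f σ}
      one_mem' := ⟨1, one_mem _, fun I _ => congrArg (ep e d) (Finset.map_refl (s := I)).symm⟩
      mul_mem' := fun ⟨f, hf, b⟩ ⟨g, hg, b'⟩ => ⟨f * g, mul_mem hf hg, by_mul b b'⟩ }
  have k0 : swap 0 1 ∈ H := ⟨_, mS hS (aj 0), fun I hI => (by_a e d I hI).1⟩
  have k1 : swap 2 3 ∈ H := ⟨_, mS hS (aj 1), fun I hI => (by_a e d I hI).2.1⟩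
  have k2 : swap 4 5 ∈ H := ⟨_, mS hS (aj 2), fun I hI => (by_a e d I hI).2.2.1⟩
  have k3 : sg d ∈ H := ⟨_, mS hS sM, fun I hI => (by_a e d I hI).2.2.2⟩
  have k4 : swap 0 4 ∈ H := h
  have k5 : pw d (swap 4 5) ∈ H := by cases d; exacts [one_mem H, k2]
  have k6 : s24 d ∈ H := mul_mem (mul_mem k5 (mul_mem (mul_mem k3 k4) k3)) k5
  have : Submonoid.closure _ ≤ H := Submonoid.closure_le.2 (by
    rintro _ ⟨i, rfl⟩
    have := adj d i
    simp only [List.mem_cons, List.not_mem_nil, or_false] at this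
    show swap i.castSucc i.succ ∈ H
    rcases this with h | h | h | h | h <;> rw [h]
    exacts [k0, k1, k2, mul_mem (mul_mem k0 (mul_mem (mul_mem k4 k6) k4)) k0,
      mul_mem (mul_mem k1 k6) k1] : Set.range (fun i : Fin 5 => swap i.castSucc i.succ) ⊆ H)
  rw [Perm.mclosure_swap_castSucc_succ] at this
  exact this (Submonoid.mem_top σ)

omit hS ht

theorem jobLIN : JobLIN := by
  intro star Y hS h1 h2 h3
  have ht := t_fix hS h1
  obtain ⟨e, he⟩ := ga_k hS ht h2 h3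
  obtain ⟨d, hd⟩ := by_tau hS ht he
  have fl := full hS hd
  have g1 : ∀ I : Finset (Fin 6), I.card = 2 → Ga Y (ep e d I) := fun I hI => by
    obtain ⟨a, b, rfl⟩ := pairs I hI
    obtain ⟨f, hf, b⟩ := fl (swap 0 a * swap 1 b)
    rw [← b _ (by decide), (by decide : ∀ e d, ep e d {0, 1} = zj 0) e d]
    exact (ga_z hS 0).map hf
  have g2 : ∀ I : Finset (Fin 6), Even I.card → Ga Y (ep e d I) → I.card = 2 := fun I hI h => by
    rcases ep_cases e d I hI with k | k | k | ⟨J, k1, k2⟩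
    · exact k
    · exact absurd k (ga_ne hS ht h).1
    · exact absurd k (ga_ne hS ht h).2
    · exact (not_both hS ht h (k2 ▸ g1 J k1)).elim
  refine ⟨ep e d, ⟨fun I J _ _ => ep_mul e d I J, ep_inj e d, ep_onto e d⟩, fl, fun f hf => ?_⟩
  choose F F1 F2 using fun I => ep_onto e d (f (ep e d I))
  obtain ⟨σ, hσ⟩ := star F (fun I J _ _ => by
      rw [← symmDiff_eq_bot]
      refine ep_inj e d _ (even_sd _ _ (F1 _) (even_sd _ _ (F1 _) (F1 _))) ?_
      rw [ep_mul, ep_mul, F2, F2, F2, ep_mul, map_mul, mul_self])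
    fun I hI => g2 _ (F1 I) (F2 I ▸ (g1 I hI).map hf)
  exact ⟨σ, fun I hI => by rw [← hσ I hI, F2]⟩

end H60.A12L
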