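import Cfsg.Agent.H51.A12Spec

/-! Tower A12 (row S3101), slot LIN, part 1: transvections, finite checks. -/

set_option autoImplicit false

namespace H60.A12L

open Subgroup Equiv H51.X12 H20.X16.BV
open H20.X16 (BV pw map_pw)
open H98 (IsSyl)

/-- automorphisms of `E` -/
abbrev W : Type := MulAut (BV 5)

/-- `f` is trivial or a transvection with centre `y`. -/
def Tv (f : BV 5 → BV 5) (y : BV 5) : Prop := f y = y ∧ ∀ x, f x = x ∨ f x = x * y

instance (f : BV 5 → BV 5) (y : BV 5) : Decidable (Tv f y) := by unfold Tv; infer_instance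

variable {f f' g : W} {y y' : BV 5}

theorem Tv.sq (h : Tv f y) : f * f = 1 := MulEquiv.ext fun x => by
  show f (f x) = x
  rcases h.2 x with e | e
  · rw [e, e]
  · rw [e, map_mul, e, h.1, mul_assoc, mul_self, mul_one]

theorem Tv.mul (h : Tv f y) (h' : Tv f' y) : Tv (f * f' : W) y :=
  ⟨by show f (f' y) = y; rw [h'.1, h.1], fun x => by
    show f (f' x) = x ∨ f (f' x) = x * y
    rcases h'.2 x with e | e
    · rw [e]; exact h.2 x
    · rw [e, map_mul, h.1]
      rcases h.2 x with e' | e' <;> rw [e']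
      · exact Or.inr rfl
      · exact Or.inl (by rw [mul_assoc, mul_self, mul_one])⟩

theorem Tv.conj (h : Tv f y) (g : W) : Tv (g * f * g⁻¹ : W) (g y) :=
  ⟨by show g (f (g.symm (g y))) = g y; rw [g.symm_apply_apply, h.1], fun x => by
    show g (f (g.symm x)) = x ∨ g (f (g.symm x)) = x * g y
    rcases h.2 (g.symm x) with e | e <;> rw [e]
    · exact Or.inl (g.apply_symm_apply x)
    · exact Or.inr (by rw [map_mul, g.apply_symm_apply])⟩

theorem Tv.ctr (h : Tv f y) (h' : Tv f y') (h1 : f ≠ 1) : y = y' := by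
  obtain ⟨x, hx⟩ : ∃ x, f x ≠ x := by
    by_contra hn
    push Not at hn
    exact h1 (MulEquiv.ext hn)
  exact mul_left_cancel (((h.2 x).resolve_left hx).symm.trans ((h'.2 x).resolve_left hx))

theorem conj_ne (h1 : f ≠ 1) (g : W) : g * f * g⁻¹ ≠ 1 := fun e => h1 (by
  rw [mul_inv_eq_one, mul_eq_left] at e; exact e)

/-- `z_j` -/
def zj (j : Fin 3) : BV 5 := el (Nat.pow 2 j.1)
/-- `a_j` -/
def aj (j : Fin 3) : M := iA (el (Nat.pow 4 j.1))
/-- `k₁` or `k₁ t` -/
def kk (e : Bool) : BV 5 := el 16 * pw e tE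
/-- the action of `s₁` on the labels -/
def sg (d : Bool) : Perm (Fin 6) := swap 0 2 * swap 1 3 * pw d (swap 4 5)
/-- the four labellings -/
def ep (e d : Bool) (I : Finset (Fin 6)) : BV 5 :=
  pw (decide (1 ∈ I)) (el 1) * pw (decide (2 ∈ I)) (el 8 * pw d (el 4)) *
    pw (decide (3 ∈ I)) (el 10 * pw d (el 4)) * pw (decide (4 ∈ I)) (kk e) *
    pw (decide (5 ∈ I)) (kk e * el 4)

theorem tv_S : ∀ (m : M) (y : BV 5), Tv (acE m) y →
    (∀ x, acE m x = x) ∨ ∃ j, y = zj j ∧ ∀ x, acE m x = acE (aj j) x := by decide +kernel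
theorem tv_a : ∀ j, Tv (acE (aj j)) (zj j) ∧ ∃ x, acE (aj j) x ≠ x := by decide +kernel
theorem zj_inj : ∀ i j, zj i = zj j → i = j := by decide +kernel
theorem zj_t : ∀ i j, zj i * tE ≠ zj j := by decide +kernel
theorem zj_ne : ∀ i, zj i ≠ 1 ∧ zj i ≠ tE := by decide +kernel
theorem plane : ∀ x : BV 5, tb x 4 = true → acE (aj 0 * aj 1) x ≠ x ∧ acE (aj 2) x ≠ x ∧
    acE (aj 0 * aj 1 * aj 2) x ≠ x ∧
    x * acE (aj 0 * aj 1) x * acE (aj 2) x * acE (aj 0 * aj 1 * aj 2) x = 1 := by decide +kernel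
theorem plane' : ∀ a b c : BV 5, tb a 4 = true → tb b 4 = true → tb c 4 = true →
    tE * a * b * c ≠ 1 := by decide +kernel
theorem low_dec : ∀ x : BV 5, low x = true →
    x = pw (tb x 0) (zj 0) * pw (tb x 1) (zj 1) * pw (tb x 2) (zj 2) := by decide +kernel
theorem low_pw : ∀ (a b c : BV 5) (p q r : Bool), low a = true → low b = true → low c = true →
    low (pw p a * pw q b * pw r c) = true := by decide +kernel
theorem orb1 : ∀ y : BV 5, tb y 4 = true → ∃ m e, acE m y = kk e := by decide +kernel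
theorem orb0 : ∀ y x : BV 5, low y = false → tb y 4 = false → tb x 4 = false → x ≠ 1 → x ≠ tE →
    ∃ e : Bool, (∃ j, x * pw e tE = zj j) ∨ ∃ i j : Bool,
      x * pw e tE = acE (pw i (aj 0) * pw j (aj 1)) y := by decide +kernel
theorem a_k : ∀ e, acE (aj 1) (kk e) = kk e ∧ acE (aj 0) (kk e) ≠ kk e := by decide +kernel
theorem ep_mul : ∀ e d (I J : Finset (Fin 6)), ep e d (symmDiff I J) = ep e d I * ep e d J := by
  decide +kernel
theorem ep_inj : ∀ e d (I : Finset (Fin 6)), Even I.card → ep e d I = 1 → I = ∅ := by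
  decide +kernel
theorem ep_onto : ∀ e d x, ∃ I : Finset (Fin 6), Even I.card ∧ ep e d I = x := by decide +kernel
theorem even_sd : ∀ I J : Finset (Fin 6), Even I.card → Even J.card → Even (symmDiff I J).card := by
  decide +kernel
theorem ep_cases : ∀ e d (I : Finset (Fin 6)), Even I.card → I.card = 2 ∨ ep e d I = 1 ∨
    ep e d I = tE ∨ ∃ J : Finset (Fin 6), J.card = 2 ∧ ep e d J = ep e d I * tE := by decide +kernel
theorem by_a : ∀ e d (I : Finset (Fin 6)), Even I.card →
    acE (aj 0) (ep e d I) = ep e d (I.map (swap 0 1).toEmbedding) ∧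
    acE (aj 1) (ep e d I) = ep e d (I.map (swap 2 3).toEmbedding) ∧
    acE (aj 2) (ep e d I) = ep e d (I.map (swap 4 5).toEmbedding) ∧
    acE sM (ep e d I) = ep e d (I.map (sg d).toEmbedding) := by
  decide +kernel
theorem by_t : ∀ e d (I : Finset (Fin 6)), Even I.card →
    pw (tb (ep e d I) 0) (el 1 * kk e) * pw (tb (ep e d I) 1) (el 2) *
      pw (tb (ep e d I) 2) (el 4 * kk e) * pw (tb (ep e d I) 3) (el 8 * pw (!d) (kk e)) *
      pw (tb (ep e d I) 4) (el 16) = ep e d (I.map (swap 0 4).toEmbedding) := by decide +kernel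
theorem pairs : ∀ I : Finset (Fin 6), I.card = 2 → ∃ a b : Fin 6,
    I = ({0, 1} : Finset (Fin 6)).map (swap 0 a * swap 1 b).toEmbedding := by decide +kernel
/-- the transposition `(2 4)` -/
def s24 (d : Bool) : Perm (Fin 6) := pw d (swap 4 5) * (sg d * swap 0 4 * sg d) * pw d (swap 4 5)
theorem adj : ∀ (d : Bool) (i : Fin 5), swap i.castSucc i.succ ∈ [swap (0 : Fin 6) 1, swap 2 3,
    swap 4 5, swap 0 1 * (swap 0 4 * s24 d * swap 0 4) * swap 0 1, swap 2 3 * s24 d * swap 2 3] := by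
  decide +kernel

end H60.A12L
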