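import Cfsg.Agent.H67.SAH
import Cfsg.Agent.H63.A8Def

/-! A8S (row S3152): job H, the passage to `N(O) / O` and back. -/

set_option autoImplicit false
set_option linter.unusedSectionVars false

namespace H60.A8H

open H64.SG (O2 Syl Cz Cs Ns cjs Is2 Inv2 UF IsO2 fx mem_Cs mem_Cz mem_fx Qt is2_of_sq)
open H67.SA H63.A8 Matrix H57 Subgroup

universe u

/-- An element of an abelian group with three generators, up to the first generator. -/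
theorem two_cos {H : Type*} [Group H] {a b c : H} (ab : a * b = b * a) (ac : a * c = c * a)
    (bc : b * c = c * b) (P : H → Prop) (h1 : P 1)
    (hm : ∀ u ∈ WW a b c, ∀ v ∈ WW a b c, P u → P v → P (u * v)) (hi : ∀ u, P u → P u⁻¹)
    (ha : P (a * a)) (hb : P b) (hc : P c) :
    (∀ u ∈ WW a b c, ∀ v ∈ WW a b c, u * v = v * u) ∧ ∀ v ∈ WW a b c, P v ∨ P (v * a) := by
  have hW : ∀ u ∈ WW a b c, ∀ v ∈ WW a b c, u * v = v * u := fun u hu v hv => by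
    have := isMulCommutative_closure (k := ({a, b, c} : Set H)) (by
      rintro _ (rfl | rfl | rfl) _ (rfl | rfl | rfl) <;> simp [*])
    exact congrArg Subtype.val (this.is_comm.comm ⟨u, hu⟩ ⟨v, hv⟩)
  have ma : a ∈ WW a b c := subset_closure (by simp)
  refine ⟨hW, fun v hv => ?_⟩
  induction hv using closure_induction with
  | mem v hv =>
    rcases hv with rfl | rfl | rfl
    exacts [Or.inr ha, Or.inl hb, Or.inl hc]
  | one => exact Or.inl h1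
  | mul u v hu hv p1 p2 =>
    rcases p1 with p1 | p1 <;> rcases p2 with p2 | p2
    · exact Or.inl (hm u hu v hv p1 p2)
    · exact Or.inr (mul_assoc u v a ▸ hm u hu _ (mul_mem hv ma) p1 p2)
    · refine Or.inr ?_
      rw [mul_assoc, hW v hv a ma, ← mul_assoc]
      exact hm _ (mul_mem hu ma) v hv p1 p2
    · refine Or.inl ?_
      have := hm _ (mul_mem (mul_mem hu ma) (mul_mem hv ma)) _ (inv_mem (mul_mem ma ma))
        (hm _ (mul_mem hu ma) _ (mul_mem hv ma) p1 p2) (hi _ ha)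
      rwa [show u * a * (v * a) * (a * a)⁻¹ = u * (a * v) * a⁻¹ by group, ← hW v hv a ma,
        show u * (v * a) * a⁻¹ = u * v by group] at this
  | inv u hu p =>
    rcases p with p | p
    · exact Or.inl (hi _ p)
    · refine Or.inr ?_
      have := hm _ (mul_mem ma ma) _ (inv_mem (mul_mem hu ma)) ha (hi _ p)
      rwa [show a * a * (u * a)⁻¹ = a * u⁻¹ by group, hW a ma _ (inv_mem hu)] at this

theorem liftHC {F : Type} [Field F] [Finite F] [CharP F 2] {G : Type*} [Group G] [Finite G]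
    {H : Type*} [Group H] {O : Subgroup G} (q : Qt O H) {f : SLn 3 F →* G} {f' : SLn 3 F →* H}
    {t : G} (hf : ∀ s, f s ∈ Cs O) (e1 : ∀ s, f' s = q.p (f s))
    (hk : f'.ker ≤ center (SLn 3 F)) (t1 : t ∈ Cs O) (t3 : Is2 t)
    (mo : ∀ o ∈ Cz t, o ∈ Cs f.range → Odd (orderOf o) → o ∈ O) {v₁ v₂ v₃ : H}
    (hc : HC f' (q.p t) v₁ v₂ v₃) : ∃ w₁ w₂ w₃, HC f t w₁ w₂ w₃ := by
  have cn := H64.SG.Cs_le_Ns O
  have m0 : ∀ s, f' s ∈ q.im (Cs O) := fun s => e1 s ▸ q.p_mem (hf s) (cn (hf s))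
  have m11 : v₁ * v₁ ∈ q.im (Cs O) := hc.s1 ▸ m0 _
  have m2 : v₂ ∈ q.im (Cs O) := by
    have h1 := q.conj_mem_C v₁⁻¹ (m0 (x 1 2 1))
    rw [inv_inv, mul_assoc, mul_assoc, ← mul_assoc (f' _), hc.a1] at h1
    have := mul_mem (mul_mem m11 h1) (inv_mem (hc.s3 ▸ m0 _ : v₃ * v₃ ∈ q.im (Cs O)))
    rwa [show v₁ * v₁ * (v₁⁻¹ * (v₁⁻¹ * v₂ * v₃ * v₃)) * (v₃ * v₃)⁻¹ = v₂ by group] at this
  have m3 : v₃ ∈ q.im (Cs O) := by
    have h1 := mul_mem (mul_mem (m0 (x 2 (la 3) 1)) m2) (inv_mem (m0 (x 2 (la 3) 1)))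
    rw [hc.b2] at h1
    have := mul_mem (mul_mem m2 h1) (inv_mem m11)
    rwa [show v₂ * (v₂⁻¹ * v₃ * v₁ * v₁) * (v₁ * v₁)⁻¹ = v₃ by group] at this
  have q4 : ∀ {v : H} {s : SLn 3 F}, v * v = f' s → s * s = 1 → v * v * (v * v) = 1 := fun h hs => by
    rw [h, ← map_mul, hs, map_one]
  obtain ⟨hW, hP⟩ := two_cos hc.c12 hc.c13 hc.c23
    (fun v => v ∈ q.im (Cs O) ∧ Commute (v * v) (f' (x 1 2 1))) ⟨one_mem _, by simp⟩
    (fun a ha b hb h1 h2 => ⟨mul_mem h1.1 h2.1, by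
      have := (two_cos hc.c12 hc.c13 hc.c23 (fun _ => True) trivial (fun _ _ _ _ _ _ => trivial)
        (fun _ _ => trivial) trivial trivial trivial).1 a ha b hb
      rw [show a * b * (a * b) = a * (b * a) * b by group, ← this,
        show a * (a * b) * b = a * a * (b * b) by group]
      exact h1.2.mul_left h2.2⟩)
    (fun a h1 => ⟨inv_mem h1.1, by rw [← _root_.mul_inv_rev]; exact h1.2.inv_left⟩)
    ⟨m11, by rw [q4 hc.s1 (x_mul_self ..)]; exact Commute.one_left _⟩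
    ⟨m2, by rw [hc.s2]; exact Commute.map (x_comm (by decide) (by decide) _ _) f'⟩
    ⟨m3, by rw [hc.s3]; exact Commute.map (x_comm (by decide) (by decide) _ _) f'⟩
  have m1 : v₁ ∈ q.im (Cs O) := by
    have hp : pm (F := F) (Equiv.swap (1 : Fin (3 + 1)) 2) ∈ Pr 3 F :=
      pm_mem _ fun a b _ hb => by rintro rfl; exact hb (by decide)
    have h1 := H98.conj_mem_of_mem_normalizer (hc.pr ⟨_, hp, rfl⟩)
      (subset_closure (by simp) : v₂ ∈ WW v₁ v₂ v₃)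
    have h2 := mul_mem (mul_mem (m0 (pm (Equiv.swap 1 2))) m2) (inv_mem (m0 (pm (Equiv.swap 1 2))))
    rcases hP _ h1 with h3 | h3
    · exfalso
      have h4 := h3.2
      rw [conj_mul, hc.s2, ← map_inv, ← map_mul, ← map_mul, pm_conj,
        show Equiv.swap (1 : Fin (3 + 1)) 2 0 = 0 by decide,
        show Equiv.swap (1 : Fin (3 + 1)) 2 2 = 1 by decide] at h4
      have h5 : x 0 2 (1 * 1 : F) ∈ f'.ker := by
        rw [← x_cm (j := 1) (by decide) (by decide) (by decide), MonoidHom.mem_ker]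
        simp only [map_mul, map_inv]
        exact cm_eq_one.2 h4.eq
      exact one_ne_zero ((mul_one (1 : F)).symm.trans ((x_mem_center (by decide)).1 (hk h5)))
    · exact (mul_mem_cancel_left h2).1 h3.1
  have lf : ∀ {v : H} {s : SLn 3 F}, v ∈ q.im (Cs O) → v * v = f' s → s * s = 1 →
      ∃ w : Cs O, Is2 w.1 ∧ q.p w = v := fun {v s} h1 h2 h3 => by
    obtain ⟨g, g1, -, rfl⟩ := q.mem_im.1 h1
    obtain ⟨l, l1, l2, l3⟩ := q.lift2 g1 ⟨2, by rw [← q4 h2 h3]; simp [pow_succ, mul_assoc]⟩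
    exact ⟨⟨l, l1⟩, l2, l3⟩
  obtain ⟨w₁, a1, b1⟩ := lf m1 hc.s1 (x_mul_self ..)
  obtain ⟨w₂, a2, b2⟩ := lf m2 hc.s2 (x_mul_self ..)
  obtain ⟨w₃, a3, b3⟩ := lf m3 hc.s3 (x_mul_self ..)
  obtain ⟨ψ, hψ⟩ : ∃ ψ : Cs O →* H, ∀ g, ψ g = q.p g :=
    ⟨q.φ.comp (inclusion cn), fun g => q.eq ⟨g, cn g.2⟩⟩
  have inj : ∀ a b : Cs O, Is2 a.1 → Is2 b.1 → ψ a = ψ b → a.1 = b.1 := fun a b h1 h2 h3 =>
    q.eq2 a.2 (cn b.2) h1 h2 (by rw [← hψ, ← hψ, h3])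
  obtain ⟨E, hE⟩ : ∃ E : SLn 3 F → Cs O, ∀ s, (E s).1 = f s := ⟨fun s => ⟨f s, hf s⟩, fun _ => rfl⟩
  have hE' : ∀ s, ψ (E s) = f' s := fun s => by rw [hψ, hE, e1]
  obtain ⟨T, rfl⟩ : ∃ T : Cs O, T.1 = t := ⟨⟨t, t1⟩, rfl⟩
  rw [← hψ] at b1 b2 b3 hc
  have c12 := q.comm2 w₁.2 (cn w₂.2) a1 (by rw [← hψ, ← hψ, b1, b2, hc.c12])
  have c13 := q.comm2 w₁.2 (cn w₃.2) a1 (by rw [← hψ, ← hψ, b1, b3, hc.c13])
  have c23 := q.comm2 w₂.2 (cn w₃.2) a2 (by rw [← hψ, ← hψ, b2, b3, hc.c23])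
  have sq : ∀ (w : Cs O) (i j : Fin (3 + 1)), Is2 w.1 → ψ w * ψ w = f' (x i j 1) →
      w.1 * w.1 = f (x i j 1) := fun w i j h1 h2 => (inj (w * w) (E _) (h1.mul h1 rfl)
    (hE _ ▸ (is2_of_sq (x_mul_self ..)).map f) (by rw [map_mul, h2, hE'])).trans (hE _)
  have cj : ∀ g w w' : Cs O, Is2 w.1 → Is2 w'.1 → ψ g * ψ w * (ψ g)⁻¹ = ψ w' →
      g.1 * w.1 * g.1⁻¹ = w'.1 := fun g w w' h1 h2 h3 =>
    inj (g * w * g⁻¹) w' (h1.conj _) h2 (by rw [map_mul, map_mul, map_inv, h3])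
  have ce : ∀ (s : SLn 3 F) (w w' : Cs O), Is2 w.1 → Is2 w'.1 → f' s * ψ w * (f' s)⁻¹ = ψ w' →
      f s * w.1 * (f s)⁻¹ = w'.1 := fun s w w' h1 h2 h3 =>
    hE s ▸ cj (E s) w w' h1 h2 (by rw [hE', h3])
  have i3 : ∀ {a b c : G}, Is2 a → Is2 b → Is2 c → Commute a b → Commute a c → Commute b c →
      Is2 (a⁻¹ * b * c * c) := fun ha hb hc h1 h2 h3 =>
    ((ha.inv.mul hb h1.inv_left).mul hc (h2.inv_left.mul_left h3)).mul hc
      ((h2.inv_left.mul_left h3).mul_left (Commute.refl _))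
  have wc : WW w₁.1 w₂.1 w₃.1 ≤ Cs O := (closure_le _).2 (by
    rintro _ (rfl | rfl | rfl) <;> exact Subtype.prop _)
  subst b1 b2 b3
  refine ⟨w₁, w₂, w₃, c12, c13, c23, sq _ _ _ a1 hc.s1, sq _ _ _ a2 hc.s2, sq _ _ _ a3 hc.s3,
    cj T w₁ w₁⁻¹ a1 a1.inv (by rw [map_inv, hc.t1]), cj T w₂ w₂⁻¹ a2 a2.inv (by rw [map_inv, hc.t2]),
    cj T w₃ w₃⁻¹ a3 a3.inv (by rw [map_inv, hc.t3]),
    ce _ w₁ (w₁⁻¹ * w₂ * w₃ * w₃) a1 (i3 a1 a2 a3 c12 c13 c23)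
      (by simp only [map_mul, map_inv]; exact hc.a1),
    ce _ w₂ w₂ a2 a2 hc.a2, ce _ w₃ w₃⁻¹ a3 a3.inv (by rw [map_inv, hc.a3]),
    ce _ w₁ w₁⁻¹ a1 a1.inv (by rw [map_inv, hc.b1]),
    ce _ w₂ (w₂⁻¹ * w₃ * w₁ * w₁) a2 (i3 a2 a3 a1 c23 c12.symm c13.symm)
      (by simp only [map_mul, map_inv]; exact hc.b2),
    ce _ w₃ w₃ a3 a3 hc.b3, ?_, fun o h1 h2 h3 g hg => (wc hg o (mo o h1 h2 h3)).symm⟩
  rintro _ ⟨s, hs, rfl⟩
  refine q.mem_Ns wc (closure_mono ?_) (cn (hf s)) ?_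
  · rintro _ (rfl | rfl | rfl) <;> exact ⟨subset_closure (by simp), ‹_›⟩
  · have : q.im (WW w₁.1 w₂.1 w₃.1) = WW (ψ w₁) (ψ w₂) (ψ w₃) := by
      refine le_antisymm (fun h hh => ?_) ((closure_le _).2 ?_)
      · obtain ⟨g, hg, -, rfl⟩ := q.mem_im.1 hh
        induction hg using closure_induction with
        | mem g hg => rcases hg with rfl | rfl | rfl <;> exact hψ _ ▸ subset_closure (by simp)
        | one => rw [q.one]; exact one_mem _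
        | mul a b ha hb h1 h2 =>
          rw [q.mul (cn (wc ha)) (cn (wc hb))]
          exact mul_mem (h1 (q.p_mem ha (cn (wc ha)))) (h2 (q.p_mem hb (cn (wc hb))))
        | inv a ha h1 => rw [q.inv (cn (wc ha))]; exact inv_mem (h1 (q.p_mem ha (cn (wc ha))))
      · rintro _ (rfl | rfl | rfl) <;>
          exact hψ _ ▸ q.p_mem (subset_closure (by simp)) (cn (Subtype.prop _))
    rw [this, ← e1]
    exact hc.pr ⟨s, hs, rfl⟩

theorem jobH (hA : J8FA) (_ : J8FC) : J8H.{u} := by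
  intro hH n F _ _ _ hp G _ _ e t h
  have hn := hp.two_le
  obtain ⟨o1, ko⟩ := h.toCE.odd_core
  have ole := H64.SG.O2_le (Cs e.range ⊓ Cz t)
  have ct : Cz t ≤ Ns (O2 (Cs e.range ⊓ Cz t)) := (H98.le_normalizer_inf
    (h.cz.trans (H98.normalizer_le_normalizer_centralizer _)) le_normalizer).trans
      (H64.SG.Ns_le_Ns_O2 _)
  have no : Ns ((UU n F).map e ⊔ zpowers t) ≤ Ns (O2 (Cs e.range ⊓ Cz t)) := fun g hg =>
    H98.mem_normalizer_of_cj_le (by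
      rintro _ ⟨a, ha, rfl⟩
      have h1 : a ∈ Cs ((UU n F).map e ⊔ zpowers t) := by
        rw [Cs, H98.centralizer_sup]
        exact ⟨Cs_range_le _ (ole ha).1, H64.SG.mem_Cs_zpowers.2 (mem_Cz.1 (ole ha).2)⟩
      have h2 := H98.conj_mem_of_mem_normalizer (H98.normalizer_le_normalizer_centralizer _ hg) h1
      have h3 : g * a * g⁻¹ ∈ Cz t := mem_Cz.2 (h2 t (mem_sup_right (mem_zpowers t)))
      have h4 : Odd (orderOf (g * a * g⁻¹)) := H64.SG.odd_orderOf_of_pow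
        (H64.SG.odd_orderOf_of_mem o1 ha) (by rw [conj_pow, pow_orderOf_eq_one]; simp)
      exact H64.SG.mem_O2_of_odd ⟨H64.SG.mem_of_sq_mem ((hA n F hp).cq2 hn h.ker (h.cz h3)
        (centralizer_le ((map_mono QQ_le_UU).trans le_sup_left) h2)) h4, h3⟩ h4)
  have mo : ∀ o ∈ Cz t, o ∈ Cs e.range → Odd (orderOf o) → o ∈ O2 (Cs e.range ⊓ Cz t) :=
    fun o h1 h2 h3 => H64.SG.mem_O2_of_odd ⟨h2, h1⟩ h3
  generalize O2 (Cs e.range ⊓ Cz t) = O at o1 ko ole ct no mo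
  obtain ⟨q⟩ := H64.SG.exists_qt o1
  have hL : e.range ≤ Cs O := le_centralizer_iff.1 (ole.trans inf_le_left)
  have hN : e.range ≤ Ns O := hL.trans (H64.SG.Cs_le_Ns O)
  have t1 : t ∈ Cs O := fun o ho => (mem_Cz.1 (ole ho).2).symm
  have t2 := H64.SG.Cs_le_Ns O t1
  have t3 := H64.SG.is2_of_sq h.inv.1
  have x1 : ∀ s, e s ∈ Ns O := fun s => hN ⟨s, rfl⟩
  let e' := q.φ.comp (e.codRestrict (Ns O) x1)
  have e1 : ∀ s, e' s = q.p (e s) := fun s => q.eq _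
  have e2 : ∀ A : Subgroup (SLn n F), A.map e' = q.im (A.map e) := fun A => by
    ext g
    refine ⟨?_, fun hg => ?_⟩
    · rintro ⟨s, hs, rfl⟩
      exact e1 s ▸ q.p_mem ⟨s, hs, rfl⟩ (x1 s)
    · obtain ⟨_, ⟨s, hs, rfl⟩, -, rfl⟩ := q.mem_im.1 hg
      exact ⟨s, hs, e1 s⟩
  have e3 : e'.range = q.im e.range := by rw [MonoidHom.range_eq_map, e2, ← MonoidHom.range_eq_map]
  have H : CH e' (q.p t) := by
    refine ⟨⟨fun s hs => (e_mem_Cs hn h.ker).1 (ole ((q.ker _ (x1 s)).1 (e1 s ▸ hs))).1,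
      ⟨by rw [← q.mul t2 t2, h.inv.1, q.one], fun e => h.inv.2 (t3.eq_one
        (H64.SG.odd_orderOf_of_mem o1 ((q.ker t t2).1 e)))⟩, e3 ▸ q.p_mem_Cs h.cen t2,
      fun g hg => ?_⟩, fun g g1 g2 => ?_, fun z z1 z2 => ?_, ?_⟩
    · obtain ⟨g, g1, g2, rfl⟩ := q.lift_Cz t2 t3 hg
      exact e3 ▸ q.p_mem_Ns (h.cz g2) g1
    · obtain ⟨g, g3, g4, rfl⟩ := q.lift_Cz t2 t3 g1
      have g5 : g ∈ Cs e.range := mem_Cs_of_cm hn h.ker (h.cz g4) fun s => (ole ((q.ker _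
        (mul_mem (mul_mem (mul_mem g3 (x1 s)) (inv_mem g3)) (inv_mem (x1 s)))).1 (by
          rw [q.mul (mul_mem (mul_mem g3 (x1 s)) (inv_mem g3)) (inv_mem (x1 s)), q.conj g3 (x1 s),
            q.inv (x1 s), ← e1, ← g2 _ ⟨s, rfl⟩]; group))).1
      refine (ko g g5 g4).imp (q.ker g g3).2 fun e => ?_
      have := (q.ker _ (mul_mem g3 t2)).2 e
      rw [q.mul g3 t2] at this
      rw [eq_inv_of_mul_eq_one_left this, ← q.inv t2, inv_eq_of_mul_eq_one_right h.inv.1]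
    · obtain ⟨g, hg⟩ := isConj_iff.1 z2
      obtain ⟨g, g1, rfl⟩ := q.surj g
      exact h.nr z z1 (isConj_iff.2 ⟨g, (q.eq2 (hL ⟨z, rfl⟩) (mul_mem (mul_mem g1 t2)
        (inv_mem g1)) ((H64.SG.is2_of_sq z1.sq).map e) (t3.conj g)
          (by rw [q.conj g1 t2, hg, e1])).symm⟩)
    · obtain ⟨g, g1, c, hc, g2⟩ := h.mv
      have g3 := no g1
      refine ⟨q.p g, ?_, c, hc, by rw [← q.conj g3 t2, g2, q.mul t2 (x1 _), e1]⟩
      have : zpowers (q.p t) = q.im (zpowers t) := by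
        rw [H64.SG.Qt.im, show (zpowers t).subgroupOf (Ns O) = zpowers ⟨t, t2⟩ from
          map_injective (subtype_injective _) (by
            rw [subgroupOf_map_subtype, inf_eq_left.2 (zpowers_le.2 t2), MonoidHom.map_zpowers]; rfl),
          MonoidHom.map_zpowers, q.eq]
      rw [e2, this, ← q.im_sup ((map_le_range _ _).trans hN) (zpowers_le.2 t2)]
      exact q.p_mem_Ns g1 g3
  rcases hH n F hp _ e' _ H with ⟨δ, z, B, b1, b2⟩ | ⟨β, v₁, v₂, v₃, hc⟩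
  swap
  · obtain rfl := hp.three
    have hr : (tw e β).range = e.range := by
      rw [MonoidHom.range_comp, MonoidHom.range_eq_top.2 β.surjective, ← MonoidHom.range_eq_map]
    obtain ⟨w₁, w₂, w₃, hw⟩ := liftHC q (f := tw e β) (fun s => hL ⟨_, rfl⟩) (fun s => e1 _)
      (fun s hs => mem_center_iff.2 fun a => β.injective (by
        rw [map_mul, map_mul]; exact mem_center_iff.1 (H.ker hs) _)) t1 t3
      (fun o h1 h2 => mo o h1 (hr ▸ h2)) hc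
    exact Or.inr ⟨β, w₁, w₂, w₃, hw⟩
  left
  have : ∀ i j a, ∃ l ∈ Cs O, i ≠ j → Is2 l ∧ q.p l = z i j a := fun i j a => by
    by_cases hij : i ≠ j
    · obtain ⟨k, k1, k2⟩ := exists_third hn i j
      have h1 := q.conj_mem_C (z i k a) (c := z k j 1) (by
        rw [← map_one (algebraMap F _), b1 k j k2, e1]; exact q.p_mem (hL ⟨_, rfl⟩) (x1 _))
      have h2 := B.mul i k j k1.symm k2 hij a 1
      rw [cm, mul_one] at h2
      obtain ⟨g, g1, -, e⟩ := q.mem_im.1 (h2 ▸ h1)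
      obtain ⟨l, l1, l2, l3⟩ := q.lift2 g1 (e ▸ H64.SG.is2_of_sq (B.sq hij a))
      exact ⟨l, l1, fun _ => ⟨l2, l3.trans e⟩⟩
    · exact ⟨1, one_mem _, fun h => absurd h hij⟩
  choose y y0 hy using this
  have y1 : ∀ i j a, y i j a ∈ Ns O := fun i j a => H64.SG.Cs_le_Ns O (y0 i j a)
  have y2 : ∀ {i j}, i ≠ j → ∀ a, Is2 (y i j a) := fun h a => (hy _ _ a h).1
  have y3 : ∀ {i j}, i ≠ j → ∀ a, q.p (y i j a) = z i j a := fun h a => (hy _ _ a h).2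
  have hc : ∀ i j k l, i ≠ j → k ≠ l → j ≠ k → i ≠ l → ∀ a b,
      y i j a * y k l b = y k l b * y i j a := fun i j k l h1 h2 h3 h4 a b =>
    q.comm2 (y0 _ _ _) (y1 _ _ _) (y2 h1 _) (by rw [y3 h1, y3 h2, B.comm i j k l h1 h2 h3 h4])
  refine ⟨δ, y, ⟨fun i j h1 a b => q.eq2 (y0 _ _ _) (mul_mem (y1 _ _ _) (y1 _ _ _)) (y2 h1 _)
    ((y2 h1 _).mul (y2 h1 _) (hc i j i j h1 h1 h1.symm h1 a b))
    (by rw [q.mul (y1 _ _ _) (y1 _ _ _), y3 h1, y3 h1, y3 h1, B.add i j h1]), hc,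
    fun i j k h1 h2 h3 a b => ?_⟩, fun i j h1 c => q.eq2 (y0 _ _ _) (x1 _) (y2 h1 _)
      ((H64.SG.is2_of_sq (x_mul_self ..)).map e) (by rw [y3 h1, b1 i j h1, e1]),
    fun i j h1 a => (q.eq2 (y0 _ _ _) (mul_mem (mul_mem t2 (y1 _ _ _)) (inv_mem t2)) (y2 h1 _)
      ((y2 h1 _).conj t) (by rw [q.conj t2 (y1 _ _ _), y3 h1, y3 h1, b2 i j h1])).symm⟩
  rw [cm, mul_inv_eq_iff_eq_mul]
  exact q.eq2 (mul_mem (mul_mem (y0 _ _ _) (y0 _ _ _)) (inv_mem (y0 _ _ _))) (mul_mem (y1 _ _ _) (y1 _ _ _))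
    ((y2 h2 _).conj _) ((y2 h3 _).mul (y2 h2 _) (hc i k j k h3 h2 h2.symm h3 _ _))
    (by rw [q.conj (y1 _ _ _) (y1 _ _ _), q.mul (y1 _ _ _) (y1 _ _ _), y3 h1, y3 h2, y3 h3,
      ← B.mul i j k h1 h2 h3, cm, inv_mul_cancel_right])

end H60.A8H
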