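/- D3 tower (row S5261): the action of `Y₁` on `V = Q₁ / Z` in coordinates; piece Gc. -/
import Cfsg.Agent.H90.D3Kit

set_option autoImplicit false
set_option linter.unusedSectionVars false
set_option linter.unusedSimpArgs false

open Subgroup H90.RF H90.D3

universe v

namespace H60.D3

variable {K : Type*} [Field K] {T : CF K}

/-- `Q₁ / Z` -/
abbrev V (T : CF K) : Type _ := T.k × K × K × T.k

theorem V.ext' {v w : V T} (h1 : (v.1 : K) = w.1) (h2 : v.2.1 = w.2.1) (h3 : v.2.2.1 = w.2.2.1)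
    (h4 : (v.2.2.2 : K) = w.2.2.2) : v = w :=
  Prod.ext (Subtype.ext h1) (Prod.ext h2 (Prod.ext h3 (Subtype.ext h4)))

/-- the coordinates -/
def vec (u : Co T) : V T := (u.bk, u.c, u.d, u.ek)
/-- a lift -/
def lf (v : V T) : Co T := w1 T v.1 v.2.1 v.2.2.1 v.2.2.2

theorem lf_mem (v : V T) : lf v ∈ sQ1 T := rfl
theorem vec_lf (v : V T) : vec (lf v) = v := rfl

theorem eqV_iff {u w : Co T} : EqV u w ↔ vec u = vec w :=
  ⟨fun h => V.ext' h.1 h.2.1 h.2.2.1 h.2.2.2, fun h => ⟨congrArg (fun v : V T => (v.1 : K)) h,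
    congrArg (·.2.1) h, congrArg (·.2.2.1) h, congrArg (fun v : V T => (v.2.2.2 : K)) h⟩⟩

theorem vec_map {β : Co T → Co T} (a : Au (sQ1 T) β) {u : Co T} (hu : u ∈ sQ1 T) :
    vec (β u) = vec (β (lf (vec u))) :=
  eqV_iff.1 (EqV.map a hu (lf_mem _) (eqV_iff.2 rfl))

theorem vec_mul {u w : Co T} (hw : w ∈ sQ1 T) : vec (u * w) = vec u + vec w := by
  rw [mem_sQ1] at hw
  apply V.ext' <;> simp [vec, hw]

/-- the action of `xa t` -/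
def uV (t : K) (v : V T) : V T := (v.1, v.2.1 + t * v.1, v.2.2.1 + T.cr t v.2.1 + T.sh t * v.1,
  v.2.2.2 + T.trk (t * v.2.2.1) + T.trk (T.sh t * v.2.1) + T.nmk t * v.1)
/-- the action of `n₁` -/
def nV (v : V T) : V T := (v.2.2.2, -v.2.2.1, v.2.1, -v.1)
/-- the diagonal action -/
def dV (x : K) (y : T.k) (v : V T) : V T :=
  (y * v.1, x * y * v.2.1, T.sh x * y * v.2.2.1, T.nmk x * y * v.2.2.2)
/-- the symplectic form -/
def fm (v w : V T) : K := v.1 * w.2.2.2 - w.1 * v.2.2.2 + T.tr (w.2.1 * v.2.2.1) - T.tr (v.2.1 * w.2.2.1)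

theorem vec_cj (s : Co T) {u : Co T} (hu : u ∈ sQ1 T) : vec (s⁻¹ * u * s) = uV s.a (vec u) := by
  obtain ⟨h1, h2, h3, h4⟩ := cj_Q1 s hu
  exact V.ext' h1 h2 h3 h4

/-- `f` is induced by `Y` -/
def In (Y : Subgroup (Equiv.Perm (Co T))) (f : V T → V T) : Prop :=
  ∃ α ∈ Y, ∀ v, vec (α (lf v)) = f v

/-- `f` keeps the line `D` -/
def KD (f : V T → V T) : Prop := ∀ e, ∃ e', f (0, 0, 0, e) = (0, 0, 0, e')

theorem pr_W {β : Co T → Co T} (a : Au (sQ1 T) β) {f : V T → V T} (e : ∀ v, vec (β (lf v)) = f v) :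
    Pr β (sW T) ↔ KD f := by
  refine ⟨fun h x => ⟨(β (lf (0, 0, 0, x))).ek, ?_⟩, fun h z hz => ?_⟩
  · obtain ⟨-, h1, h2, h3⟩ := h (lf (0, 0, 0, x)) ⟨rfl, rfl, rfl, rfl⟩
    rw [← e]; exact V.ext' h1 h2 h3 rfl
  · obtain ⟨x, hx⟩ := h z.ek
    have : vec z = (0, 0, 0, z.ek) := V.ext' hz.2.1 hz.2.2.1 hz.2.2.2 rfl
    rw [← e, ← this, ← vec_map a hz.1] at hx
    have k := eqV_iff.2 (hx.trans (vec_lf _).symm)
    exact ⟨a.mem z hz.1, k.1, k.2.1, k.2.2.1⟩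

variable [Finite K] {p : ℕ} {Y0 Y1 Y2 : Subgroup (Equiv.Perm (Co T))} (h : Tri T p Y0 Y1 Y2)
  {f g : V T → V T}
include h

theorem in_iff {β : Co T → Co T} (e : ∀ u ∈ sQ1 T, vec (β u) = f (vec u)) :
    (∃ α ∈ Y1, Eq1 T α β) ↔ In Y1 f :=
  exists_congr fun α => and_congr_right fun hα => ⟨fun k v => (eqV_iff.1 (k _ (lf_mem v))).trans
    (e _ (lf_mem v)), fun k u hu => eqV_iff.2 (by rw [vec_map (h.l1.au α hα) hu, k, e u hu])⟩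

theorem in_comp (hf : In Y1 f) (hg : In Y1 g) : In Y1 fun v => f (g v) := by
  obtain ⟨α, hα, e⟩ := hf
  obtain ⟨β, hβ, e'⟩ := hg
  exact ⟨_, mul_mem hα hβ, fun v => by
    rw [Equiv.Perm.mul_apply, vec_map (h.l1.au α hα) ((h.l1.au β hβ).mem _ (lf_mem v)), e, e']⟩

theorem in_inv (hf : In Y1 f) : ∃ g, In Y1 g ∧ (∀ v, f (g v) = v) ∧ ∀ v, g (f v) = v := by
  obtain ⟨α, hα, e⟩ := hf
  have hi := inv_mem hα
  refine ⟨fun v => vec (α⁻¹ (lf v)), ⟨_, hi, fun _ => rfl⟩, fun v => ?_, fun v => ?_⟩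
  · rw [← e, ← vec_map (h.l1.au α hα) ((h.l1.au _ hi).mem _ (lf_mem v))]; simp [vec_lf]
  · beta_reduce
    rw [← e, ← vec_map (h.l1.au _ hi) ((h.l1.au _ hα).mem _ (lf_mem v))]; simp [vec_lf]

theorem in_of {y : Equiv.Perm (Co T)} (hy : y ∈ Y0) (e : ∀ v, vec (y (lf v)) = f v) : In Y1 f := by
  obtain ⟨α, hα, k⟩ := h.res1 y hy
  exact ⟨α, hα, fun v => by rw [k _ (lf_mem v), e]⟩

theorem in_u (t : K) : In Y1 (uV t) := by
  obtain ⟨y, hy, e⟩ := h.inn (xa T t)⁻¹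
  exact in_of h hy fun v => by rw [e, inv_inv, vec_cj _ (lf_mem v)]; rfl

theorem in_d {x : K} {y : T.k} (k : HT T Y0 x y) : In Y1 (dV x y) := by
  obtain ⟨η, hη, e⟩ := k
  exact in_of h hη fun v => by rw [e]; rfl

theorem in_add (hf : In Y1 f) (v w : V T) : f (v + w) = f v + f w := by
  obtain ⟨α, hα, e⟩ := hf
  have a := h.l1.au α hα
  rw [← e v, ← e w, ← vec_mul (a.mem _ (lf_mem w)), ← a.mul _ (lf_mem v) _ (lf_mem w),
    vec_map a (mul_mem (lf_mem v) (lf_mem w)), vec_mul (lf_mem w), e]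
  rfl

theorem in_neg (hf : In Y1 f) (v : V T) : f (-v) = -f v :=
  map_neg (AddMonoidHom.mk' f (in_add h hf)) v

theorem in_sm (hA : A1 T) (hf : In Y1 f) : ∃ ψ : T.k ≃+* T.k, ∀ l v, f (l • v) = ψ l • f v := by
  obtain ⟨α, hα, e⟩ := hf
  obtain ⟨ψ, k⟩ := hA α (h.l1.au α hα)
  refine ⟨ψ, fun l v => ?_⟩
  rw [← e, ← e]
  exact eqV_iff.1 (k l _ (lf_mem v))

theorem in_perp (hf : In Y1 f) {v w : V T} (k : fm v w = 0) : fm (f v) (f w) = 0 := by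
  obtain ⟨α, hα, e⟩ := hf
  have a := h.l1.au α hα
  have h1 : cm (lf v) (lf w) = 1 :=
    eq_of_Z (cm_Q1 (lf_mem v) (lf_mem w)) (one_mem _) ((cm_g1 (lf_mem v) (lf_mem w)).trans k)
  have h2 := a.cm (lf_mem v) (lf_mem w)
  rw [h1, a.one] at h2
  rw [← e, ← e]
  exact (cm_g1 (a.mem _ (lf_mem v)) (a.mem _ (lf_mem w))).symm.trans (congrArg Co.g h2.symm)

theorem in_om (ho : Om T 0 Y1) (hf : In Y1 f) :
    KD f ∨ ∃ s, ∀ e, ∃ b, uV s (f (0, 0, 0, e)) = (b, 0, 0, 0) := by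
  obtain ⟨α, hα, e⟩ := hf
  have a := h.l1.au α hα
  refine (ho α hα).imp (pr_W a e).1 fun ⟨s, k⟩ => ⟨s.a, fun x => ⟨(f (0, 0, 0, x)).1, ?_⟩⟩
  obtain ⟨h1, h2, h3⟩ := k (lf (0, 0, 0, x)) ⟨rfl, rfl, rfl, rfl⟩
  rw [← e, ← vec_cj _ (a.mem _ (lf_mem _))]
  exact V.ext' (cj_Q1 s (a.mem _ (lf_mem _))).1 h1 (h2.trans (zero_mul _)) h3

theorem in_std (hs : Std T Y0) (hf : In Y1 f) (k : KD f) : ∃ δ : Pm T,
    (∀ v, ((f v).1 : K) = δ.y * δ.φ v.1) ∧ (∀ c d e, (f (0, c, d, e)).2.1 = δ.x * δ.y * δ.φ c) ∧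
      ∀ e, ((f (0, 0, 0, e)).2.2.2 : K) = T.nm δ.x * δ.y * δ.φ e := by
  obtain ⟨α, hα, e⟩ := hf
  obtain ⟨y, hy, e'⟩ := h.ext1 α hα ((pr_W (h.l1.au α hα) e).2 k)
  obtain ⟨δ, hδ⟩ := hs y hy
  obtain ⟨-, h1, h2, -, h4, -⟩ := Cg_sd hδ
  refine ⟨δ, fun v => ?_, fun c d x => ?_, fun x => ?_⟩ <;> rw [← e, e' _ (lf_mem _)]
  exacts [h1 _ (lf_mem v), h2 _ ⟨rfl, rfl⟩, h4 _ ⟨rfl, rfl, rfl, rfl⟩]

theorem g0_iff : G0 T Y1 ↔ In Y1 nV := in_iff h fun _ _ => rfl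

omit h [Finite K] in
theorem torus {s : K} (hs : s ≠ 0) (v : V T) :
    uV s (nV (uV s⁻¹ (nV (nV (nV (uV s (nV v))))))) = dV (s ^ 2) (T.nmk s)⁻¹ v := by
  have h1 : T.σ s ≠ 0 := (map_ne_zero _).2 hs
  have h2 : T.σ (T.σ s) ≠ 0 := (map_ne_zero _).2 h1
  apply V.ext' <;>
    simp [uV, nV, dV, CF.tr, CF.nm, CF.sh, CF.cr, T.cube] <;> field_simp <;> ring

omit h [Finite K] in
theorem jobGc : JobGc.{v} := fun _ _ _ _ _ _ T _ _ _ h h0 s hs => by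
  have n := (g0_iff h).1 h0
  refine (in_iff h (f := dV (s ^ 2) (T.nmk s)⁻¹) fun _ _ => rfl).2 ?_
  simpa only [torus hs] using in_comp h (in_u h s) (in_comp h n (in_comp h (in_u h s⁻¹)
    (in_comp h n (in_comp h n (in_comp h n (in_comp h (in_u h s) n))))))

end H60.D3
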