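/- D3 tower (row S5261), piece Ga: `Y₁` induces `n₁` on `Q₁ / Z` for odd `p`. -/
import Cfsg.Agent.H60.D3V

set_option autoImplicit false
set_option linter.unusedSectionVars false
set_option linter.unusedSimpArgs false

open Subgroup H90.RF H90.D3

universe v

namespace H60.D3

theorem sur {A B : Type*} [Finite A] {f : B → B} (hf : Function.Injective f) {i j : A → B}
    (hi : Function.Injective i) (h : ∀ a, ∃ a', f (i a) = j a') (a' : A) : ∃ a, f (i a) = j a' := by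
  choose φ hφ using h
  obtain ⟨a, rfl⟩ := Finite.surjective_of_injective (f := φ)
    (fun a b e => hi (hf (by rw [hφ, hφ, e]))) a'
  exact ⟨a, hφ a⟩

variable {K : Type*} [Field K] {T : CF K}

/-- `g` swaps the lines `D` and `k p₀` -/
def Sw (g : V T → V T) : Prop :=
  (∀ e, ∃ b, g (0, 0, 0, e) = (b, 0, 0, 0)) ∧ ∀ b, ∃ e, g (b, 0, 0, 0) = (0, 0, 0, e)

theorem injb : Function.Injective fun b : T.k => ((b, 0, 0, 0) : V T) := fun _ _ e => congrArg (·.1) e
theorem injc : Function.Injective fun c : K => ((0, c, 0, 0) : V T) := fun _ _ e => congrArg (·.2.1) e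
theorem inje : Function.Injective fun e : T.k => ((0, 0, 0, e) : V T) :=
  fun _ _ e => congrArg (·.2.2.2) e

theorem uV_D (s : K) (e : T.k) : uV s ((0, 0, 0, e) : V T) = (0, 0, 0, e) := by
  apply V.ext' <;> simp [uV]

theorem uV_neg (s : K) (v : V T) : uV (-s) (uV s v) = v := by
  apply V.ext' <;> simp [uV, CF.tr, CF.nm, CF.sh, CF.cr, T.cube] <;> ring

/-- the lower unipotent element -/
def lV (v : V T) : V T := (v.1 + T.trk v.2.1 + T.trk v.2.2.1 + v.2.2.2,
  v.2.1 + T.cr 1 v.2.2.1 + v.2.2.2, v.2.2.1 + v.2.2.2, v.2.2.2)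

theorem ulu (v : V T) : uV (-1) (lV (uV (-1) v)) = nV v := by
  apply V.ext' <;> simp [uV, lV, nV, CF.tr, CF.nm, CF.sh, CF.cr, T.cube] <;> ring

/-- the shape of a swap -/
def gV (φ : RingAut K) (β : T.k) (f : K) (v : V T) : V T :=
  (β * T.φk φ v.2.2.2, f * φ v.2.2.1, T.sh f / β * φ v.2.1, T.nmk f / β ^ 2 * T.φk φ v.1)

theorem gu (φ : RingAut K) {β : T.k} (hβ : (β : K) ≠ 0) (f : K) (v : V T) :
    gV φ β f (uV (φ.symm (f / β)) v) = lV (gV φ β f v) := by
  have h1 : T.σ (φ v.1) = φ v.1 := (T.φk φ v.1).2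
  have h2 : T.σ (φ v.2.2.2) = φ v.2.2.2 := (T.φk φ v.2.2.2).2
  apply V.ext' <;> simp only [gV, uV, lV, CF.coe_trk, CF.coe_nmk, CF.coe_φk, Subfield.coe_add,
    Subfield.coe_mul, Subfield.coe_div, SubmonoidClass.coe_pow, map_add, map_mul, T.map_tr, T.map_sh,
    T.map_cr, T.map_nm, RingEquiv.apply_symm_apply] <;>
    simp [CF.tr, CF.nm, CF.sh, CF.cr, T.cube, h1, h2] <;> field_simp

variable [Finite K] {p : ℕ} {Y0 Y1 Y2 : Subgroup (Equiv.Perm (Co T))} (h : Tri T p Y0 Y1 Y2)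
  {g i : V T → V T}

theorem Sw.inv (s : Sw g) (e : ∀ v, i (g v) = v) : Sw i := by
  have hg : Function.Injective g := Function.LeftInverse.injective e
  exact ⟨fun x => (sur hg injb s.2 x).imp fun b k => by rw [← k, e],
    fun x => (sur hg inje s.1 x).imp fun b k => by rw [← k, e]⟩

include h

theorem exists_sw (ho : Om T 0 Y1) (hα : ∃ α ∈ Y1, ¬ Pr α (sW T)) : ∃ g, In Y1 g ∧ Sw g := by
  obtain ⟨α, hα, hn⟩ := hα
  have h0 : In Y1 fun v => vec (α (lf v)) := ⟨α, hα, fun _ => rfl⟩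
  obtain ⟨s, hs⟩ := (in_om h ho h0).resolve_left (mt (pr_W (h.l1.au α hα) fun _ => rfl).2 hn)
  obtain ⟨i, hi, e1, e2⟩ := in_inv h (in_comp h (in_u h s) h0)
  obtain ⟨r, hr⟩ := (in_om h ho hi).resolve_left fun k => by
    obtain ⟨x, hx⟩ := k 1
    obtain ⟨b, hb⟩ := hs x
    have := e1 (0, 0, 0, 1)
    rw [hx, hb] at this
    exact zero_ne_one (congrArg (·.2.2.2) this)
  refine ⟨_, in_comp h (in_u h r) hi, hr, fun b => ?_⟩
  obtain ⟨x, hx⟩ := sur (Function.LeftInverse.injective e2) inje hs b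
  exact ⟨x, by beta_reduce; rw [← hx, e2, uV_D]⟩

theorem sw_mid (hg : In Y1 g) (s : Sw g) (c d : K) : ∃ c' d', g (0, c, d, 0) = (0, c', d', 0) := by
  obtain ⟨i, -, -, e⟩ := in_inv h hg
  have hi : Function.Injective g := Function.LeftInverse.injective e
  obtain ⟨x, hx⟩ := sur hi inje s.1 1
  obtain ⟨y, hy⟩ := sur hi injb s.2 1
  have h1 := in_perp h hg (v := (0, c, d, 0)) (w := (0, 0, 0, x)) (by simp [fm])
  have h2 := in_perp h hg (v := (0, c, d, 0)) (w := (y, 0, 0, 0)) (by simp [fm])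
  rw [hx] at h1
  rw [hy] at h2
  exact ⟨_, _, V.ext' (by simpa [fm] using h2) rfl rfl (by simpa [fm] using h1)⟩

theorem sw_c (h2 : (2 : K) ≠ 0) (hs : Std T Y0) (ht : H2 T Y0) (hg : In Y1 g) (hi : In Y1 i)
    (e1 : ∀ v, g (i v) = v) (e2 : ∀ v, i (g v) = v) (s : Sw g) (r : K) :
    ∃ d, i (0, r, 0, 0) = (0, 0, d, 0) := by
  obtain ⟨τ, hτ, tv⟩ : ∃ τ, In Y1 τ ∧ ∀ b c d e, τ (b, c, d, e) = (b, -c, d, -e) :=
    ⟨_, in_d h (ht (-1) (by simp)), fun b c d e => by
      apply V.ext' <;> simp [dV, CF.nm, CF.sh]⟩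
  have hD : ∀ e, i (τ (g (0, 0, 0, e))) = (0, 0, 0, e) := fun e => by
    obtain ⟨b, k⟩ := s.1 e
    rw [k, tv, neg_zero, neg_zero, ← k, e2]
  obtain ⟨δ, k1, k2, k3⟩ := in_std h hs (in_comp h hi (in_comp h hτ hg)) fun e => ⟨e, hD e⟩
  have hb : ∀ b : T.k, δ.y * δ.φ b = -b := fun b => by
    obtain ⟨e, k⟩ := s.2 b
    have : τ (g (b, 0, 0, 0)) = -g (b, 0, 0, 0) := by rw [k, tv]; simp
    rw [← k1 (b, 0, 0, 0), this, in_neg h hi, e2]; simp
  have hy : (δ.y : K) = -1 := by simpa using hb 1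
  have hφ : ∀ l : T.k, δ.φ l = l := fun l => by simpa [hy] using hb l
  have hx : T.nm δ.x = -1 := by
    have := k3 1
    rw [hD, hy] at this
    simp only [OneMemClass.coe_one, map_one] at this
    linear_combination this
  have hc : ∀ c, δ.x * δ.φ δ.x * δ.φ (δ.φ c) = c := fun c => by
    have hb := k1 (0, c, 0, 0)
    have hc := k2 c 0 0
    have := k2 (i (τ (g (0, c, 0, 0)))).2.1 (i (τ (g (0, c, 0, 0)))).2.2.1 (i (τ (g (0, c, 0, 0)))).2.2.2
    rw [show ((0, _, _, _) : V T) = i (τ (g (0, c, 0, 0))) from V.ext' (by simp [hb]) rfl rfl rfl, e1,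
      show τ (τ (g (0, c, 0, 0))) = g (0, c, 0, 0) by rw [tv, tv, neg_neg, neg_neg], e2, hc, hy] at this
    simp only [map_mul, map_neg, map_one] at this
    linear_combination -this
  have h1 : δ.x * δ.φ δ.x = 1 := by simpa using hc 1
  have h3 := T.gal_two δ.φ hφ fun t => by simpa [h1] using hc t
  have hx1 : δ.x = -1 := by
    rw [h3] at h1
    rcases mul_self_eq_one_iff.1 h1 with e | e
    · rw [e, T.nm_one] at hx; exact absurd (by linear_combination hx) h2
    · exact e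
  obtain ⟨c, d, k⟩ := sw_mid h hi (s.inv e2) r 0
  have h4 := k2 c d 0
  have : τ (0, r, 0, 0) = -(0, r, 0, 0) := by rw [tv]; simp
  rw [← k, e1, this, in_neg h hi, k, hx1, hy, h3] at h4
  obtain rfl : c = 0 := mul_left_cancel₀ h2 (by simp at h4; linear_combination -h4)
  exact ⟨d, k⟩

theorem sw_shape (h2 : (2 : K) ≠ 0) (hA : A1 T) (hs : Std T Y0) (ht : H2 T Y0) (ho : Om T 0 Y1)
    (hg : In Y1 g) (s : Sw g) : ∃ (φ : RingAut K) (β : T.k) (f : K), (β : K) ≠ 0 ∧
      ∀ v, g v = gV φ β f v := by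
  obtain ⟨i, hi, e1, e2⟩ := in_inv h hg
  have gi : Function.Injective g := Function.LeftInverse.injective e2
  choose G hG using sw_c h h2 hs ht hi hg e2 e1 (s.inv e2)
  have hF : ∀ d, ∃ c, g (0, 0, d, 0) = (0, c, 0, 0) := fun d =>
    (sur (j := fun d => (0, 0, d, 0)) (Function.LeftInverse.injective e1) injc
      (sw_c h h2 hs ht hg hi e1 e2 s) d).imp fun c k => by rw [← k, e1]
  choose F hF using hF
  obtain ⟨ψ, hψ⟩ := in_sm h hA hg
  obtain ⟨β, hβ⟩ := s.1 1
  obtain ⟨γ, hγ⟩ := s.2 1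
  have g0 : g 0 = 0 := by simpa using hψ 0 0
  have gv : ∀ b c d e, g (b, c, d, e) = (ψ e * β, F d, G c, ψ b * γ) := fun b c d e => by
    rw [show ((b, c, d, e) : V T) = b • (1, 0, 0, 0) + (0, c, 0, 0) + (0, 0, d, 0) + e • (0, 0, 0, 1) by
      simp, in_add h hg, in_add h hg, in_add h hg, hψ, hψ, hβ, hγ, hF, hG]
    simp
  have b0 : (β : K) ≠ 0 := fun e => one_ne_zero (inje (gi (hβ.trans
    ((V.ext' e rfl rfl rfl : ((β, 0, 0, 0) : V T) = 0).trans g0.symm))))
  have c0 : (γ : K) ≠ 0 := fun e => one_ne_zero (injb (gi (hγ.trans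
    ((V.ext' rfl rfl rfl e : ((0, 0, 0, γ) : V T) = 0).trans g0.symm))))
  have Fa : ∀ x y, F (x + y) = F x + F y := fun x y => by
    have := in_add h hg (0, 0, x, 0) (0, 0, y, 0)
    simpa [hF] using this
  have Ga : ∀ x y, G (x + y) = G x + G y := fun x y => by
    have := in_add h hg (0, x, 0, 0) (0, y, 0, 0)
    simpa [hG] using this
  have Fs : ∀ (l : T.k) x, F (l * x) = ψ l * F x := fun l x => by
    have := hψ l (0, 0, x, 0)
    simpa [hF, Subfield.smul_def] using this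
  have F0 : ∀ x, F x = 0 → x = 0 := fun x e => by
    have := hF x
    rw [e] at this
    exact congrArg (·.2.2.1) (gi (this.trans g0.symm))
  obtain ⟨e0, he⟩ := sur gi inje s.1 1
  have key : ∀ t, t ≠ 0 → ∃ r, F (T.sh t) = ψ (T.nmk t) * β * r ∧ G t = ψ (T.nmk t) * β * T.sh r ∧
      (γ : K) = ψ (T.nmk t) * β * T.nm r := fun t h0 => by
    have e : g (uV t (g (0, 0, 0, e0))) = (ψ (T.nmk t) * β, F (T.sh t), G t, γ) := by
      rw [he, show uV t (1, 0, 0, 0) = (1, t, T.sh t, T.nmk t) from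
        V.ext' rfl (by simp [uV]) (by simp [uV]) (by simp [uV]), gv, map_one, one_mul]
    rcases in_om h ho (in_comp h hg (in_comp h (in_u h t) hg)) with k | ⟨r, k⟩
    · obtain ⟨x, k⟩ := k e0
      beta_reduce at k
      rw [e] at k
      have := congrArg (·.1) k
      simp only [mul_eq_zero, map_eq_zero, show β ≠ 0 from fun e => b0 (by simp [e]), or_false] at this
      exact absurd (T.nm_eq_zero.1 (congrArg Subtype.val this)) h0
    · obtain ⟨b, k⟩ := k e0
      have k' := congrArg (uV (-r)) k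
      rw [uV_neg, e] at k'
      obtain rfl : ψ (T.nmk t) * β = b := congrArg (·.1) k'
      refine ⟨-r, ?_, ?_, ?_⟩
      · simpa [uV, mul_comm] using congrArg (·.2.1) k'
      · simpa [uV, mul_comm] using congrArg (·.2.2.1) k'
      · simpa [uV, mul_comm] using congrArg (fun v : V T => (v.2.2.2 : K)) k'
  have f0 : F 1 ≠ 0 := mt (F0 1) one_ne_zero
  have hN : T.nm (F 1) = β ^ 2 * γ := by
    obtain ⟨r, k1, -, k3⟩ := key 1 one_ne_zero
    rw [show T.nmk 1 = 1 from Subtype.ext T.nm_one, map_one, OneMemClass.coe_one, one_mul] at k1 k3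
    rw [T.sh_one] at k1
    rw [k1, k3, T.nm_mul, T.nm_of_fix β.2]; ring
  obtain ⟨φ, hφ⟩ := hua_inv (fun x => F x / F 1) (fun x => F 1 * G x / (β * γ))
    (fun x y => by rw [Fa, add_div]) (fun x y => by rw [Ga, mul_add, add_div])
    (fun x e => F0 x (by simpa [f0] using e)) (div_self f0) fun x hx => by
      obtain ⟨r, k1, k2, k3⟩ := key x⁻¹ (inv_ne_zero hx)
      have n0 := T.nm_eq_zero.not.2 hx
      have k4 := Fs (T.nmk x) (T.sh x⁻¹)
      have k5 : (ψ (T.nmk x) : K) * ψ (T.nmk x⁻¹) = 1 := by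
        rw [← Subfield.coe_mul, ← map_mul, show T.nmk x * T.nmk x⁻¹ = 1 from Subtype.ext (by
          simp [T.nm_inv, n0]), map_one, OneMemClass.coe_one]
      rw [show (T.nmk x : K) * T.sh x⁻¹ = x by
        rw [CF.coe_nmk, T.sh_inv, ← T.mul_sh, mul_inv_cancel_right₀ (T.sh_eq_zero.not.2 hx)]] at k4
      have k6 : F x * G x⁻¹ = β * γ := by
        rw [k4, k1, k2, k3, ← T.mul_sh]
        linear_combination (β : K) ^ 2 * ψ (T.nmk x⁻¹) * r * T.sh r * k5
      have := mt (F0 x) hx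
      generalize G x⁻¹ = X at k6 ⊢
      field_simp
      linear_combination k6
  have hk : ∀ l : T.k, (ψ l : K) = φ l := fun l => by
    rw [← (hφ l).1, eq_div_iff f0, ← Fs, mul_one]
  refine ⟨φ, β, F 1, b0, fun ⟨b, c, d, e⟩ => ?_⟩
  rw [gv]
  apply V.ext'
  · simp [gV, hk, mul_comm]
  · simp only [gV]; rw [← (hφ d).1]; field_simp
  · simp only [gV]
    rw [← (hφ c).2]
    field_simp
    rw [← T.mul_sh] at hN
    linear_combination -G c * hN
  · simp only [gV, Subfield.coe_mul, Subfield.coe_div, SubmonoidClass.coe_pow, CF.coe_nmk, CF.coe_φk,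
      hN, hk]
    field_simp

omit h [Finite K] in
theorem jobGa : JobGa.{v} := fun _ _ _ _ _ _ T h2 hA _ _ _ h hs ht ho hα => by
  obtain ⟨g, hg, s⟩ := exists_sw h ho hα
  obtain ⟨φ, β, f, hβ, e⟩ := sw_shape h h2 hA hs ht ho hg s
  obtain ⟨i, hi, e1, -⟩ := in_inv h hg
  have hl := in_comp h hg (in_comp h (in_u h (φ.symm (f / β))) hi)
  simp only [e, gu φ hβ] at hl
  simp only [← e, e1] at hl
  exact (g0_iff h).2 (by simpa only [ulu] using in_comp h (in_u h (-1)) (in_comp h hl (in_u h (-1))))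

end H60.D3
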