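import Cfsg.Agent.H68.EaSpec

/-! Tower EA (S4546, S4577), job NA: non-abelian defect groups of order sixteen. -/

set_option autoImplicit false

open scoped MonoidAlgebra

namespace H60.EaNA

open Cfsg H28 H34 H35 H36 H39 H24.KB Subgroup H68.EA

universe u

variable {G : Type u} [Group G] [Fintype G] {M : Ideal AlgInt} [M.IsMaximal]
  {B : Set (IrrCharacter G)} {D : Subgroup G} {e : (F M)[G]}

theorem low (h : BD 2 M B D e) (h16 : Nat.card D = 16) {v : D} (hv : v ∈ center D)
    (h2 : v ^ 2 = 1) {χ : IrrCharacter G} (hχ : χ ∈ B) {k : ℕ} (hk : 0 < k)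
    (hh : k ≤ blockHeight 2 B (χ : G → ℂ)) :
    (2 : ℝ) ^ (k + 1) ≤ 16 * ((h.s v).con χ χ).re := by
  obtain ⟨A, hA, hM, -⟩ := h.exists_maj hv h2
  have hd : (2 : ℂ) ^ blockDefect 2 B = 16 := by
    have := h.card_eq
    rw [h16] at this
    exact_mod_cast this.symm
  have h1 := (hM.dvd_iff χ (mem_bF.2 hχ) χ (mem_bF.2 hχ)).2 (by omega)
  have h3 : (2 : ℤ) ^ (k + 1) ≤ A χ χ :=
    Int.le_of_dvd (hM.pos χ (mem_bF.2 hχ)) ((pow_dvd_pow 2 (by omega)).trans h1)
  have h4 := congrArg Complex.re (hA χ χ)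
  rw [hd] at h4
  have h5 : (A χ χ : ℝ) = 16 * ((h.s v).con χ χ).re := by simpa using h4
  rw [← h5]
  exact_mod_cast h3

theorem con_pos (h : BD 2 M B D e) {v : D} (hv : v ∈ center D) {χ : IrrCharacter G}
    (hχ : χ ∈ B) : 0 < ((h.s v).con χ χ).re := by
  have h1 := mem_bF.2 hχ
  rw [← nzF_eq_of_major h.hM (h.s v).sec (h.s v).ind (h.defect_central hv)] at h1
  exact classInner_self_re_pos (mem_nzF.1 h1).2

theorem ncj_one (h : BD 2 M B D e) {v : D} (hv : v ≠ 1) : ¬ (h.s v).Cj (h.s 1) := by
  rintro ⟨g, hg, -⟩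
  refine hv (Subtype.ext ?_)
  simpa using hg

theorem jobNA : H68.EA.JobNA.{u} := by
  classical
  intro hCF hGN G _ _ M _ B D e h h16 hna χ hχ
  obtain ⟨z, hz, z1, z2, hi⟩ := hGN D h16 hna
  by_contra hc
  have hc := not_lt.1 hc
  rcases hi with hi | ⟨hi, w, hw, w1, hα⟩
  · have hf : (8 : ℕ).factorization 2 = 3 := by
      rw [show (8 : ℕ) = 2 ^ 3 by norm_num, Nat.Prime.factorization_pow Nat.prime_two]
      simp
    rw [hi, hf] at hc
    have hn : NCj ({1, z} : Finset D) h.s := by
      intro i hi j hj hij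
      simp only [Finset.mem_insert, Finset.mem_singleton] at hi hj
      rcases hi with rfl | rfl <;> rcases hj with rfl | rfl
      · rfl
      · exact (ncj_one h z1 hij.symm).elim
      · exact (ncj_one h z1 hij).elim
      · rfl
    have h1 := hn.sum_con_le h.hM hχ
    rw [Finset.sum_pair z1.symm] at h1
    have h2 := low h h16 (one_mem _) (one_pow 2) hχ (by norm_num) hc
    have h3 := low h h16 hz z2 hχ (by norm_num) hc
    norm_num at h2 h3
    linarith
  · have hf : (4 : ℕ).factorization 2 = 2 := by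
      rw [show (4 : ℕ) = 2 ^ 2 by norm_num, Nat.Prime.factorization_pow Nat.prime_two]
      simp
    rw [hi, hf] at hc
    have zw : z ≠ w := hα 1
    have hzw : ¬ (h.s z).Cj (h.s w) := fun m => by
      obtain ⟨α, hα'⟩ := hCF G 2 M B D e h z w hz hw m
      exact hα α hα'
    have hn : NCj ({1, z, w} : Finset D) h.s := by
      intro i hi j hj hij
      simp only [Finset.mem_insert, Finset.mem_singleton] at hi hj
      rcases hi with rfl | rfl | rfl <;> rcases hj with rfl | rfl | rfl
      · rfl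
      · exact (ncj_one h z1 hij.symm).elim
      · exact (ncj_one h w1 hij.symm).elim
      · exact (ncj_one h z1 hij).elim
      · rfl
      · exact (hzw hij).elim
      · exact (ncj_one h w1 hij).elim
      · exact (hzw hij.symm).elim
      · rfl
    have h1 := hn.sum_con_le h.hM hχ
    rw [Finset.sum_insert (by simp [z1.symm, w1.symm]), Finset.sum_pair zw] at h1
    have h2 := low h h16 (one_mem _) (one_pow 2) hχ (by norm_num) hc
    have h3 := low h h16 hz z2 hχ (by norm_num) hc
    have h4 := con_pos h hw hχ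
    norm_num at h2 h3
    linarith

end H60.EaNA
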