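import Cfsg.Agent.H14.FESpec
import Cfsg.Agent.S1911

/-! Tower FE (S1308), job P3: one vertex at each point. -/

set_option autoImplicit false
set_option linter.unusedSectionVars false

namespace H60.FeP3

open Cfsg Subgroup MulAction H14 H98 H1.Gold H31.S2 H14.GC H14.FE
open scoped commutatorElement

universe u

section Gen
variable {G : Type u} [Group G] [Finite G]

theorem odd_of_NI {Y : Subgroup G} (h : NI Y) : Odd (Nat.card Y) := by
  rw [← Nat.not_even_iff_odd, even_iff_two_dvd]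
  intro h2
  have := Fact.mk Nat.prime_two
  obtain ⟨x, hx⟩ := exists_prime_orderOf_dvd_card' (G := Y) 2 h2
  exact h x x.2 (inv_iff.2 (by rw [Subgroup.orderOf_coe, hx]))

theorem even_of_inv {Y : Subgroup G} {d : G} (hd : d ∈ Y) (h : Inv d) : Even (Nat.card Y) := by
  rw [even_iff_two_dvd, ← inv_iff.1 h]
  exact Y.orderOf_dvd_natCard hd

theorem exists_inv_pow {x : G} {k : ℕ} (hx : x ^ 2 ^ k = 1) (h1 : x ≠ 1) : ∃ m : ℕ, Inv (x ^ m) := by
  obtain ⟨n, -, hn⟩ := (Nat.dvd_prime_pow Nat.prime_two).1 (orderOf_dvd_of_pow_eq_one hx)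
  have h2 : 2 ∣ orderOf x := by
    rw [hn]
    exact dvd_pow_self 2 fun m => h1 (orderOf_eq_one_iff.1 (by rw [hn, m, pow_zero]))
  exact ⟨_, inv_iff.2 (orderOf_pow_orderOf_div (orderOf_pos x).ne' h2)⟩

theorem se_of_top {M K : Subgroup G} (hK : K = ⊤) (h : IsStronglyEmbedded (M.subgroupOf K))
    (h1 : M ≠ ⊤) (h2 : Even (Nat.card M)) : IsStronglyEmbedded M := by
  subst hK
  refine ⟨h1, h2, fun g hg => odd_of_NI fun d hd hi => ?_⟩
  have h3 := h.2.2 ⟨g, mem_top g⟩ hg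
  rw [← Nat.not_even_iff_odd] at h3
  have h4 : g⁻¹ * d * g ∈ M := mem_cj.1 (mem_inf.1 hd).2
  refine h3 (even_of_inv (d := ⟨d, mem_top d⟩) (mem_inf.2 ⟨(mem_inf.1 hd).1, mem_cj.2 h4⟩)
    ⟨fun m => hi.1 (congrArg Subtype.val m), Subtype.ext hi.2⟩)

end Gen

section Geo
variable {X : Type u} [Group X] [Finite X] {J Ω : Type u} [Finite Ω] [MulAction X J]
  [MulAction X Ω] {pt : J → Ω} {B : J → Subgroup X} {β : Subgroup X → Prop}

/-- the map onto the permutation group -/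
abbrev ph (X Ω : Type u) [Group X] [MulAction X Ω] : X →* (toPermHom X Ω).range :=
  (toPermHom X Ω).rangeRestrict

omit [Finite X] [Finite Ω] in
theorem ph_eq_one {x : X} : ph X Ω x = 1 ↔ Triv Ω x :=
  ⟨fun h a => congrArg (fun y : (toPermHom X Ω).range => y • a) h |>.trans (one_smul _ a),
    fun h => Subtype.ext (Equiv.ext h)⟩

omit [Finite X] [Finite Ω] in
theorem B_le (h : PG pt B β) (k : J) : B k ≤ stabilizer X (pt k) := fun g hg => by
  rw [mem_stabilizer_iff, ← h.pt_smul, mem_stabilizer_iff.1 (h.mn k k rfl hg)]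

omit [Finite Ω] in
theorem faithful (h : PG pt B β) {k : J} {x : X} (hx : x ∈ B k) {n : ℕ} (h2 : x ^ 2 ^ n = 1)
    (ht : ph X Ω x = 1) : x = 1 := by
  by_contra h1
  obtain ⟨m, hm⟩ := exists_inv_pow h2 h1
  have h3 : Triv Ω (x ^ m) := ph_eq_one.1 (by rw [map_pow, ht, one_pow])
  obtain ⟨a, b, hab⟩ := h.two
  exact hab ((h.fix k _ (pow_mem hx m) hm a (h3 a)).trans (h.fix k _ (pow_mem hx m) hm b (h3 b)).symm)

omit [Finite X] [Finite Ω] in
theorem exists_inv (h : PG pt B β) (k : J) : ∃ d ∈ B k, Inv d := by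
  obtain ⟨U, hU, -, hb⟩ := h.big k
  obtain ⟨s, hs, -, -, hi, -⟩ := h.bt.four U hb
  exact ⟨s, hU hs, hi⟩

omit [Finite X] [Finite Ω] in
theorem conj_fix (h : PG pt B β) {k : J} {d g : X} (hd : d ∈ B k) (hi : Inv d) {a : Ω}
    (ha : (g * d * g⁻¹) • a = a) : g • pt k = a := by
  rw [← h.pt_smul]
  exact (h.fix (g • k) _ (by rw [h.B_smul]; exact conj_mem_cj hd) (hi.conj g) a ha).symm

omit [Finite X] [Finite Ω] in
theorem B_le_Yp {k : J} {a : Ω} (hk : pt k = a) : B k ≤ Yp pt B a :=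
  le_iSup₂_of_le (f := fun j (_ : pt j = a) => B j) k hk le_rfl

omit [Finite X] [Finite Ω] in
theorem Yp_le (h : PG pt B β) (a : Ω) : Yp pt B a ≤ stabilizer X a :=
  iSup₂_le fun k hk => hk ▸ B_le h k

omit [Finite Ω] in
theorem Yp_nor (h : PG pt B β) (a : Ω) : stabilizer X a ≤ nor (Yp pt B a) := fun g hg => by
  refine mem_normalizer_of_cj_le (cj_le_iff.2 (iSup₂_le fun k hk => cj_le_iff.1 ?_))
  rw [← h.B_smul]
  exact B_le_Yp (by rw [h.pt_smul, hk, mem_stabilizer_iff.1 hg])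

omit [Finite Ω] in
theorem comm_mem (h : PG pt B β) {k l : J} (hkl : pt k = pt l) {x y : X} (hx : x ∈ B k)
    (hy : y ∈ B l) : ⁅x, y⁆ ∈ B k ⊓ B l := by
  have h1 : x * y * x⁻¹ ∈ B l := by
    have := conj_mem_cj (g := x) hy
    rwa [← h.B_smul, mem_stabilizer_iff.1 (h.mn k l hkl hx)] at this
  have h2 : y * x⁻¹ * y⁻¹ ∈ B k := by
    have := conj_mem_cj (g := y) (inv_mem hx)
    rwa [← h.B_smul, mem_stabilizer_iff.1 (h.mn l k hkl.symm hy)] at this
  refine mem_inf.2 ⟨?_, mul_mem h1 (inv_mem hy)⟩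
  have := mul_mem hx h2
  simpa [commutatorElement_def, mul_assoc] using this

theorem se (h : PG pt B β) (hY : YG pt B) (a : Ω) :
    IsStronglyEmbedded (stabilizer (toPermHom X Ω).range a) := by
  have hs : Function.Surjective (ph X Ω) := (toPermHom X Ω).rangeRestrict_surjective
  obtain ⟨i, rfl⟩ := h.surj a
  obtain ⟨d, hd, hi⟩ := exists_inv h i
  set Q := (Yp pt B (pt i)).map (ph X Ω) with hQ
  set M := stabilizer (toPermHom X Ω).range (pt i) with hM
  have mM : ∀ g : X, ph X Ω g ∈ M ↔ g • pt i = pt i := fun g => Iff.rfl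
  have QM : Q ≤ M := by
    rintro _ ⟨x, hx, rfl⟩
    exact (mM x).2 (Yp_le h _ hx)
  have dQ : ph X Ω d ∈ Q := mem_map_of_mem _ (B_le_Yp rfl hd)
  have di : Inv (ph X Ω d) := hi.map _ fun m => hi.1 (faithful h hd (n := 1) (by
    rw [pow_one, sq, hi.2]) m)
  have hn : nor Q = M := by
    refine le_antisymm (fun y hy => ?_) fun y hy => ?_
    · obtain ⟨g, rfl⟩ := hs y
      have h1 := QM (conj_mem_of_mem_normalizer hy dQ)
      rw [← map_inv, ← map_mul, ← map_mul] at h1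
      exact (mM g).2 (conj_fix h hd hi ((mM _).1 h1))
    · obtain ⟨g, rfl⟩ := hs y
      exact map_le_normalizer_map _ (Yp_nor h (pt i)) (mem_map_of_mem _ ((mM g).1 hy))
  have M1 : M ≠ ⊤ := fun m => by
    obtain ⟨b, c, hbc⟩ := h.two
    obtain ⟨g, hg⟩ := h.trans (pt i) b
    obtain ⟨g', hg'⟩ := h.trans (pt i) c
    exact hbc (by rw [← hg, ← hg', (mM g).1 (m ▸ mem_top _), (mM g').1 (m ▸ mem_top _)])
  have hodd : ∀ y ∉ M, NI (cj y Q ⊓ M) := by
    intro y hy t ht ti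
    obtain ⟨u, hu, hu'⟩ := mem_cj.1 ht.1
    have ui : Inv (ph X Ω u) := by
      rw [hu']
      simpa using ti.conj y⁻¹
    have hg := hY (pt i) u (mem_sup_left hu) (fun m => ui.1 (ph_eq_one.2 m))
      (ph_eq_one.1 (by rw [map_mul, ui.2]))
    have h1 : u • (y⁻¹ • pt i) = y⁻¹ • pt i := by
      have h2 : ph X Ω u • (y⁻¹ • pt i) = y⁻¹ • pt i := by
        rw [hu', mul_smul, mul_smul, smul_inv_smul, mem_stabilizer_iff.1 ht.2]
      exact h2
    have h2 := hg _ _ h1 (Yp_le h _ hu)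
    exact hy (inv_mem_iff.1 (mem_stabilizer_iff.2 h2))
  have te : IsTightlyEmbedded Q := ⟨even_of_inv dQ di, fun y hy => odd_of_NI fun t ht =>
    hodd y (hn ▸ hy) t ⟨ht.2, QM ht.1⟩⟩
  rcases Cfsg.Agent.S1911.result Q te (fun y hy => by
    rw [show normalizer (Q : Set (toPermHom X Ω).range) = M from hn] at hy ⊢
    exact odd_of_NI (hodd y hy)) with h1 | h1
  · exact (M1 (hn ▸ normalizer_eq_top Q)).elim
  rw [show normalizer (Q : Set (toPermHom X Ω).range) = M from hn] at h1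
  refine se_of_top ?_ h1 M1 (even_of_inv (QM dQ) di)
  have hB : ∀ k, pt k = pt i → B k ≤ (normalClosure (Q : Set (toPermHom X Ω).range)).comap (ph X Ω) :=
    fun k hk x hx => le_normalClosure (H := Q) (mem_map_of_mem _ (B_le_Yp hk hx))
  rcases h.home ((normalClosure (Q : Set (toPermHom X Ω).range)).comap (ph X Ω)) (pt i)
    (fun x hx => by
      rw [mem_comap, show ph X Ω x = 1 from Subtype.ext hx]
      exact one_mem _)
    (fun k hk => by rw [inf_eq_right.2 (hB k hk)]; exact h.big k) with h2 | h2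
  · rw [eq_top_iff]
    intro y _
    obtain ⟨g, rfl⟩ := hs y
    exact mem_comap.1 (h2 ▸ mem_top g)
  · refine (M1 (eq_top_iff.2 fun y _ => ?_)).elim
    obtain ⟨g, rfl⟩ := hs y
    exact (mM g).2 (conj_fix h hd hi
      (h2 (Normal.conj_mem inferInstance d (hB i rfl hd) g)))

end Geo

theorem jobP3 : JobP3.{u} := by
  intro hSE hSEM X _ _ J Ω _ _ _ _ pt B β h hO hY i j hij
  by_contra hne
  have hs : Function.Surjective (ph X Ω) := (toPermHom X Ω).rangeRestrict_surjective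
  have hM := se h hY (pt i)
  have hodd : oddCore (toPermHom X Ω).range = ⊥ := by
    have h1 := hO ((oddCore (toPermHom X Ω).range).map (toPermHom X Ω).range.subtype)
      (map_subtype_le _) (le_normalizer_map_subtype _) (by
        rw [card_map_of_injective (subtype_injective _)]
        exact Nat.coprime_two_right.1 (H2.coprime_card_pPrimeCore 2 _))
    exact (map_eq_bot_iff_of_injective _ (subtype_injective _)).1 h1
  obtain ⟨P, hP, hPM, hMP, hE⟩ := hSE _ _ hM hodd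
  have hcomm : ∀ k l, pt k = pt i → pt l = pt i → k ≠ l → ∀ p ∈ P ⊓ (B k).map (ph X Ω),
      ∀ q ∈ P ⊓ (B l).map (ph X Ω), p * q = q * p := by
    rintro k l hk hl hkl _ ⟨hp, x, hx, rfl⟩ _ ⟨hq, y, hy, rfl⟩
    have h1 := comm_mem h (hk.trans hl.symm) hx hy
    have h2 : Odd (orderOf (ph X Ω ⁅x, y⁆)) :=
      ((odd_of_NI (h.ti k l hkl)).of_dvd_nat ((B k ⊓ B l).orderOf_dvd_natCard h1)).of_dvd_nat
        (orderOf_map_dvd _ _)
    have h3 : ph X Ω ⁅x, y⁆ ∈ P := by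
      rw [map_commutatorElement, commutatorElement_def]
      exact mul_mem (mul_mem (mul_mem hp hq) (inv_mem hp)) (inv_mem hq)
    obtain ⟨n, hn⟩ := isPGroup_iff_forall.1 hP.isPGroup _ h3
    by_contra hc
    have h4 : ph X Ω ⁅x, y⁆ ≠ 1 := by
      rw [map_commutatorElement]
      exact fun m => hc (commutatorElement_eq_one_iff_mul_comm.1 m)
    obtain ⟨m, hm⟩ := exists_inv_pow hn h4
    have h5 := orderOf_pow_dvd (x := ph X Ω ⁅x, y⁆) m
    rw [inv_iff.1 hm] at h5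
    exact Nat.not_even_iff_odd.2 h2 (even_iff_two_dvd.2 h5)
  have hnel : ∀ k, pt k = pt i → ¬ El (P ⊓ (B k).map (ph X Ω)) := by
    intro k hk hel
    obtain ⟨U, hU, hU2, hb⟩ := h.big k
    refine h.bt.ne U hb fun x hx => ?_
    have h1 : U.map (ph X Ω) ≤ P := hP.le_of_le_normalizer' (hU2.map _) le_top (le_trans (by
      rintro _ ⟨y, hy, rfl⟩
      exact (hk ▸ B_le h k (hU hy) : y ∈ stabilizer X (pt i))) hMP)
    obtain ⟨n, hn⟩ := isPGroup_iff_forall.1 hU2 _ (mul_mem hx hx)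
    refine faithful h (hU (mul_mem hx hx)) hn ?_
    rw [map_mul]
    exact hel _ ⟨h1 (mem_map_of_mem _ hx), mem_map_of_mem _ (hU hx)⟩
  have hS : IsSuzukiTwoGroup P := hE.resolve_left fun m => hnel i rfl fun x hx => m x hx.1
  obtain ⟨h1, h2⟩ := hSEM _ _ P {U | ∃ k, pt k = pt i ∧ U = P ⊓ (B k).map (ph X Ω)} hM hodd hP hPM
    hMP hS (by rintro _ ⟨k, hk, rfl⟩; exact ⟨inf_le_left, hnel k hk⟩)
    (by
      rintro m hm _ ⟨k, hk, rfl⟩
      obtain ⟨g, rfl⟩ := hs m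
      refine ⟨g • k, by rw [h.pt_smul, hk]; exact hm, ?_⟩
      rw [cj_inf, cj_eq_self (hMP hm), h.B_smul, map_cj])
    (by
      rintro _ ⟨k, hk, rfl⟩ _ ⟨l, hl, rfl⟩ hkl
      exact hcomm k l hk hl fun m => hkl (by rw [m]))
  have h3 := h2 ⟨i, rfl, rfl⟩ ⟨j, hij.symm, rfl⟩
  exact h1 _ ⟨i, rfl, rfl⟩ fun p hp q hq => hcomm i j rfl hij.symm hne p hp q (h3 ▸ hq)

end H60.FeP3
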