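import Cfsg.Agent.H63.KgvSpec

/-! # Tower KGV: values of `gam` at an induced character -/

set_option autoImplicit false

namespace H60.KgvVL

open Finset Cfsg H63.Kgv

universe u

theorem orb {α : Type} [Fintype α] (σ : Equiv.Perm α) (A B : α → ℂ) (hA : ∀ a, A (σ a) = A a)
    (hB : ∀ a, B (σ a) = B a)
    (h : ∀ a, A a ^ Function.minimalPeriod σ a = B a ^ Function.minimalPeriod σ a) :
    ∏ a, A a = ∏ a, B a := by
  classical
  have key : ∀ C : α → ℂ, (∀ a, C (σ a) = C a) → ∀ a : α,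
      ∏ b ∈ univ.filter (fun b => (Quotient.mk (MulAction.orbitRel (Subgroup.zpowers σ) α) b) =
        Quotient.mk _ a), C b = C a ^ Function.minimalPeriod σ a := by
    intro C hC a
    have h1 : ∀ (k : ℕ) b, C ((σ ^ k) b) = C b := fun k => by
      induction k with
      | zero => simp
      | succ k ih => intro b; rw [pow_succ', Equiv.Perm.mul_apply, hC, ih]
    have h2 : univ.filter (fun b => (Quotient.mk (MulAction.orbitRel (Subgroup.zpowers σ) α) b) =
        Quotient.mk _ a) = (MulAction.orbit (Subgroup.zpowers σ) a).toFinset := by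
      ext b
      simp only [mem_filter, mem_univ, true_and, Set.mem_toFinset, Quotient.eq]
      exact MulAction.orbitRel_apply
    rw [h2, prod_eq_pow_card (b := C a), Set.toFinset_card, ← MulAction.minimalPeriod_eq_card]
    · rfl
    · intro b hb
      obtain ⟨⟨g, hg⟩, rfl⟩ := Set.mem_toFinset.1 hb
      obtain ⟨k, rfl⟩ := (mem_powers_iff_mem_zpowers.2 hg)
      exact h1 k a
  rw [← prod_fiberwise univ (fun b => Quotient.mk (MulAction.orbitRel (Subgroup.zpowers σ) α) b) A,
    ← prod_fiberwise univ (fun b => Quotient.mk (MulAction.orbitRel (Subgroup.zpowers σ) α) b) B]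
  refine prod_congr rfl fun q _ => ?_
  induction q using Quotient.inductionOn with
  | h a => rw [key A hA, key B hB, h]

open Classical in
theorem fib {K : Type} [Field K] [Fintype K] {r : ℕ} (hr : 0 < r) {ω : Kˣ} (hω : orderOf ω = r)
    (s : Kˣ) : univ.filter (fun w : Kˣ => w ^ r = s ^ r) = (range r).image (fun i => s * ω ^ i) ∧
      Set.InjOn (fun i => s * ω ^ i) (range r : Set ℕ) := by
  have : NeZero r := ⟨hr.ne'⟩
  have hp : IsPrimitiveRoot ω r := hω ▸ IsPrimitiveRoot.orderOf ω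
  have hp' : IsPrimitiveRoot (ω : K) r := IsPrimitiveRoot.coe_units_iff.2 hp
  refine ⟨?_, fun i hi j hj e => ?_⟩
  · ext w
    simp only [mem_filter, mem_univ, true_and, mem_image, mem_range]
    constructor
    · intro e
      have e1 : (s⁻¹ * w) ^ r = 1 := by rw [mul_pow, e, inv_pow, inv_mul_cancel]
      obtain ⟨i, hi, e2⟩ := hp'.eq_pow_of_pow_eq_one (ξ := ((s⁻¹ * w : Kˣ) : K))
        (by rw [← Units.val_pow_eq_pow_val, e1, Units.val_one])
      refine ⟨i, hi, ?_⟩
      have e3 : ω ^ i = s⁻¹ * w := Units.ext (by rw [Units.val_pow_eq_pow_val, e2])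
      rw [e3, mul_inv_cancel_left]
    · rintro ⟨i, -, rfl⟩
      rw [mul_pow, ← pow_mul, mul_comm i, pow_mul, hp.pow_eq_one, one_pow, mul_one]
  · exact hp.pow_inj (by simpa using hi) (by simpa using hj) (mul_left_cancel e)

theorem cls {H : Type u} [Group H] {φ : H → ℂ} (h : IsCharacter H φ) (a b : H) :
    φ (a * b * a⁻¹) = φ b := by
  obtain ⟨n, ρ, rfl⟩ := h
  exact ρ.char_conj b a

theorem gen {E : Type u} [Group E] [Finite E] (H : Subgroup E) [H.Normal] {r : ℕ} (hr : r.Prime)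
    (hi : H.index = r) {y : E} (hy : y ∉ H) :
    (∀ j : ℕ, y ^ j ∈ H → r ∣ j) ∧ ∀ z : E, ∃ (u : H) (l : ℕ), z = u * y ^ l := by
  have : Fact r.Prime := ⟨hr⟩
  have hc : Nat.card (E ⧸ H) = r := hi
  have h1 : (y : E ⧸ H) ≠ 1 := fun e => hy ((QuotientGroup.eq_one_iff y).1 e)
  have ho : orderOf (y : E ⧸ H) = r :=
    orderOf_eq_prime (by rw [← hc]; exact pow_card_eq_one') h1
  refine ⟨fun j hj => ?_, fun z => ?_⟩
  · rw [← ho, orderOf_dvd_iff_pow_eq_one, ← QuotientGroup.mk_pow]
    exact (QuotientGroup.eq_one_iff _).2 hj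
  · obtain ⟨l, hl⟩ := mem_powers_of_prime_card hc h1 (g' := (z : E ⧸ H))
    have hl' : ((z * (y ^ l)⁻¹ : E) : E ⧸ H) = 1 := by
      rw [QuotientGroup.mk_mul, QuotientGroup.mk_inv, QuotientGroup.mk_pow, ← hl]
      simp
    exact ⟨⟨_, (QuotientGroup.eq_one_iff _).1 hl'⟩, l, by simp⟩

theorem supp {K : Type} [Field K] [Fintype K] (θ : Kˣ →* ℂˣ) (hθ : Function.Injective θ)
    (m : Kˣ → ℕ) {r N : ℕ} (hr : 0 < r) (hN : r * N = Nat.card Kˣ) [Fintype Kˣ]
    (h : ∑ x : Kˣ, (m x : ℂ) * (θ x : ℂ) ^ N = ∑ x : Kˣ, (m x : ℂ) * (θ x : ℂ) ^ 0) (μ : Kˣ)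
    (hμ : m μ ≠ 0) : ∃ w : Kˣ, w ^ r = μ := by
  have hpos : 0 < Nat.card Kˣ := Nat.card_pos
  have n1 : ∀ x : Kˣ, ‖(θ x : ℂ) ^ N‖ = 1 := fun x =>
    Complex.norm_eq_one_of_pow_eq_one (n := r) (by
      rw [← pow_mul, mul_comm, hN, ← Units.val_pow_eq_pow_val, ← map_pow, pow_card_eq_one',
        map_one, Units.val_one]) hr.ne'
  have h0 : ∑ x : Kˣ, (m x : ℝ) * (1 - ((θ x : ℂ) ^ N).re) = 0 := by
    have := congrArg Complex.re h
    simp only [Complex.re_sum, pow_zero, mul_one, Complex.natCast_re, Complex.mul_re,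
      Complex.natCast_im, zero_mul, sub_zero] at this
    simp only [mul_sub, mul_one, sum_sub_distrib, this, sub_self]
  have h1 := (sum_eq_zero_iff_of_nonneg (fun x _ => mul_nonneg (Nat.cast_nonneg _)
    (sub_nonneg.2 ((Complex.re_le_norm _).trans (n1 x).le)))).1 h0 μ (mem_univ _)
  have h2 : ((θ μ : ℂ) ^ N).re = 1 := by
    have : (m μ : ℝ) ≠ 0 := by exact_mod_cast hμ
    have := (mul_eq_zero.1 h1).resolve_left this
    linarith
  have h3 : (θ μ : ℂ) ^ N = 1 := by
    have h4 := Complex.sq_norm_sub_sq_re ((θ μ : ℂ) ^ N)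
    rw [n1, h2] at h4
    exact Complex.ext h2 (by simpa using (pow_eq_zero_iff two_ne_zero).1 (by linarith))
  have h5 : μ ^ N = 1 := hθ (Units.ext (by rw [map_pow, Units.val_pow_eq_pow_val, h3]; simp))
  obtain ⟨g, hg⟩ := IsCyclic.exists_monoid_generator (α := Kˣ)
  obtain ⟨k, rfl⟩ := hg μ
  have ho : orderOf g = r * N := by
    rw [hN]; exact orderOf_eq_card_of_forall_mem_powers hg
  have h6 : r * N ∣ k * N := by rw [← ho, orderOf_dvd_iff_pow_eq_one, pow_mul]; exact h5
  have hN0 : 0 < N := Nat.pos_of_mul_pos_left (hN ▸ hpos : 0 < r * N)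
  obtain ⟨c, rfl⟩ := Nat.dvd_of_mul_dvd_mul_right hN0 h6
  exact ⟨g ^ c, by rw [← pow_mul, mul_comm]⟩

theorem job : JVL.{u} := by
  intro eg p _ M K _ _ θ a Hf hs E _ _ hE H _ r d x χ φ ω id hd hr hω hχ
  classical
  let _ : Fintype H := Fintype.ofFinite H
  have hp : p.Prime := Fact.out
  have hr0 : 0 < r := id.pr.pos
  have hKc : Nat.card Kˣ = p ^ M - 1 := by
    rw [Nat.card_units, Nat.card_eq_fintype_card, hs.card]
  have hEe : ∀ y : E, y ^ (p ^ M - 1) = 1 := fun y => by
    obtain ⟨c, hc⟩ := hE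
    rw [hc, pow_mul, pow_card_eq_one', one_pow]
  obtain ⟨uE, -⟩ := eg K θ E hs.inj
  obtain ⟨-, eH⟩ := eg K θ H hs.inj
  have eH' : ∀ h : H, Eg θ φ h (em θ φ h) := fun h =>
    eH φ h id.ch (Subtype.ext (by rw [hs.card]; simpa using hEe h))
  have hn : ∀ h : H, φ 1 = ((∑ w, em θ φ h w : ℕ) : ℂ) := fun h => by
    have := eH' h 0
    simpa using this
  refine ⟨∑ w, em θ φ 1 w, hn 1, fun t ht => ⟨fun h => ?_, fun y h hy hh => ?_⟩⟩
  · have e : em θ χ (h : E) = fun w => ∑ j ∈ range r, em θ φ (MulAut.conjNormal (x ^ j) h) w := by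
      refine uE χ h _ fun k => ?_
      rw [← Subgroup.coe_pow, id.on]
      simp only [Nat.cast_sum, sum_mul]
      rw [sum_comm]
      refine sum_congr rfl fun j _ => ?_
      rw [map_pow (MulAut.conjNormal (x ^ j)) h k]
      exact eH' _ k
    unfold gam
    rw [e, prod_comm]
    refine prod_congr rfl fun w _ => ?_
    rw [mul_sum, prod_pow_eq_pow_sum]
  · set m := em θ φ h with hm
    obtain ⟨g1, g2⟩ := gen H id.pr id.idx hy
    have hrM : r ∣ Nat.card Kˣ := hω ▸ orderOf_dvd_natCard ω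
    obtain ⟨N, hN⟩ := hrM
    have hhN : h ^ N = 1 := Subtype.ext (by
      rw [Subgroup.coe_pow, hh, ← pow_mul, ← hN, hKc, hEe]; rfl)
    have sp : ∀ μ, m μ ≠ 0 → ∃ w : Kˣ, w ^ r = μ :=
      supp θ hs.inj m hr0 hN.symm (by
        have e1 := eH' h N
        have e2 := eH' h 0
        rw [hhN] at e1
        rw [pow_zero] at e2
        exact e1.symm.trans e2)
    have hω1 : ω ^ r = 1 := hω ▸ pow_orderOf_eq_one ω
    have e : Eg θ χ y fun w => m (w ^ r) := by
      intro j
      by_cases hj : r ∣ j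
      · obtain ⟨k, rfl⟩ := hj
        have e1 : ∀ i : ℕ, φ (MulAut.conjNormal (x ^ i) (h ^ k)) = φ (h ^ k) := fun i => by
          obtain ⟨u, l, hl⟩ := g2 (x ^ i)
          rw [← cls id.ch u (h ^ k)]
          congr 1
          apply Subtype.ext
          rw [MulAut.conjNormal_apply, hl]
          simp only [Subgroup.coe_mul, Subgroup.coe_inv, Subgroup.coe_pow, hh]
          group
        rw [pow_mul, ← hh, ← Subgroup.coe_pow, id.on]
        simp only [e1, sum_const, card_range, nsmul_eq_mul]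
        rw [eH' h k, mul_sum, ← hm, eq_comm, ← sum_fiberwise univ (fun w : Kˣ => w ^ r)]
        refine sum_congr rfl fun μ _ => ?_
        rw [sum_congr rfl (g := fun _ => (m μ : ℂ) * (θ μ : ℂ) ^ k) (fun w hw => by
          rw [← (mem_filter.1 hw).2, pow_mul, map_pow, Units.val_pow_eq_pow_val])]
        by_cases h0 : m μ = 0
        · simp [h0]
        · obtain ⟨s, rfl⟩ := sp μ h0
          obtain ⟨f1, f2⟩ := fib hr0 hω s
          rw [sum_const, f1, card_image_of_injOn (by simpa using f2), card_range, nsmul_eq_mul]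
      · rw [id.off _ fun e => hj (g1 j e)]
        have e1 : ∑ w : Kˣ, (m (w ^ r) : ℂ) * (θ w : ℂ) ^ j =
            (θ ω : ℂ) ^ j * ∑ w : Kˣ, (m (w ^ r) : ℂ) * (θ w : ℂ) ^ j := by
          rw [mul_sum, ← Equiv.sum_comp (Equiv.mulLeft ω)]
          refine sum_congr rfl fun w _ => ?_
          simp only [Equiv.coe_mulLeft, mul_pow, hω1, one_mul, map_mul, Units.val_mul]
          ring
        have e2 : (θ ω : ℂ) ^ j ≠ 1 := fun e => hj (by
          rw [← hω, orderOf_dvd_iff_pow_eq_one]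
          exact hs.inj (Units.ext (by rw [map_pow, Units.val_pow_eq_pow_val, e]; simp)))
        have e3 : (1 - (θ ω : ℂ) ^ j) * ∑ w : Kˣ, (m (w ^ r) : ℂ) * (θ w : ℂ) ^ j = 0 := by
          rw [sub_mul, one_mul, ← e1, sub_self]
        exact ((mul_eq_zero.1 e3).resolve_left (sub_ne_zero.2 e2.symm)).symm
    have hco : (Nat.card Kˣ).Coprime (p ^ d) := by
      rw [hKc]
      refine Nat.Coprime.pow_right d ?_
      have := (Nat.coprime_self_sub_left (Nat.one_le_pow M p hp.pos)).2 (Nat.coprime_one_left (p ^ M))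
      exact this.coprime_dvd_right (dvd_pow_self p hs.pos.ne')
    let σ : Equiv.Perm Kˣ := powCoprime hco
    have hσ : ∀ w, σ w = w ^ p ^ d := fun w => rfl
    have hσr : ∀ w, σ w ^ r = σ (w ^ r) := fun w => by rw [hσ, hσ, ← pow_mul, ← pow_mul, mul_comm]
    have e' : Eg θ χ y fun w => m (σ.symm w ^ r) := by
      intro j
      rw [← hχ, ← pow_mul, e, ← Equiv.sum_comp σ (fun w => (m (σ.symm w ^ r) : ℂ) * (θ w : ℂ) ^ j)]
      refine sum_congr rfl fun w _ => ?_
      rw [Equiv.symm_apply_apply, hσ, map_pow, Units.val_pow_eq_pow_val, ← pow_mul, mul_comm j]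
    have mi : ∀ μ, m (σ μ) = m μ := fun μ => by
      have e4 : ∀ w, m (σ (w ^ r)) = m (w ^ r) := fun w => by
        have := congrFun ((uE χ y _ e).symm.trans (uE χ y _ e')) (σ w)
        simpa only [Equiv.symm_apply_apply, hσr] using this
      by_cases h0 : ∃ w : Kˣ, w ^ r = μ
      · obtain ⟨w, rfl⟩ := h0
        exact e4 w
      · have h1 : m μ = 0 := by_contra fun h1 => h0 (sp μ h1)
        rw [h1]
        by_contra h2
        obtain ⟨w, hw⟩ := sp _ h2
        exact h0 ⟨σ.symm w, σ.injective (by rw [← hσr, Equiv.apply_symm_apply, hw])⟩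
    have fr : ∀ s : ZMod p, s ≠ 0 → ∀ w, Hf s (σ w) = Hf s w := fun s hs0 w => by
      rw [hσ]
      generalize d = k
      induction k with
      | zero => simp
      | succ k ih => rw [pow_succ, pow_mul, hs.frob s _ hs0, ih]
    have hrt : (r : ZMod p) * t ≠ 0 := by
      refine mul_ne_zero (fun e0 => ?_) ht
      have h1 : p ∣ r := (ZMod.natCast_eq_zero_iff r p).1 e0
      have h2 : p ∣ p ^ M - 1 := by rw [← hKc, hN]; exact h1.mul_right N
      have h3 : p ∣ p ^ M := dvd_pow_self p hs.pos.ne'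
      have h4 := Nat.dvd_sub h3 h2
      rw [Nat.sub_sub_self (Nat.one_le_pow M p hp.pos)] at h4
      exact hp.one_lt.ne' (Nat.dvd_one.1 h4)
    have it : ∀ (k : ℕ) w, σ^[k] w = w ^ p ^ (d * k) := fun k => by
      induction k with
      | zero => simp
      | succ k ih => intro w; rw [Function.iterate_succ_apply', ih, hσ, ← pow_mul, ← pow_add, mul_add, mul_one]
    have hn' : ∑ w, em θ φ 1 w = ∑ w, m w := by exact_mod_cast (hn 1).symm.trans (hn h)
    unfold gam
    rw [uE χ y _ e, hn', ← hm, ← prod_pow_eq_pow_sum, ← prod_mul_distrib,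
      ← prod_fiberwise univ (fun w : Kˣ => w ^ r)]
    refine orb σ _ _ (fun μ => ?_) (fun μ => by rw [mi, fr _ hrt]) fun μ => ?_
    · rw [prod_filter, prod_filter, ← Equiv.prod_comp σ]
      refine prod_congr rfl fun w _ => ?_
      simp only [hσr, mi, fr t ht, σ.injective.eq_iff]
    · rw [prod_congr rfl (g := fun w => Hf t w ^ (d * m μ)) (fun w hw => by
        rw [← (mem_filter.1 hw).2])]
      by_cases h0 : m μ = 0
      · simp [h0]
      · obtain ⟨s, rfl⟩ := sp μ h0
        obtain ⟨f1, f2⟩ := fib hr0 hω s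
        obtain ⟨c, hc⟩ := hd
        set e0 := Function.minimalPeriod σ (s ^ r)
        have h1 : e0 ∣ c := Function.IsPeriodicPt.minimalPeriod_dvd (by
          change σ^[c] (s ^ r) = s ^ r
          rw [it, ← hc, ← Nat.sub_add_cancel (Nat.one_le_pow M p hp.pos), pow_succ, ← hKc,
            pow_card_eq_one', one_mul])
        have h2 : (s ^ r) ^ p ^ (d * e0) = s ^ r := by
          rw [← it]; exact Function.isPeriodicPt_minimalPeriod σ (s ^ r)
        have h3 := hs.prod r d ω id.pr ⟨c, hc⟩ hr hω t (d * e0) s ht (dvd_mul_right _ _)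
          (hc ▸ Nat.mul_dvd_mul_left d h1) h2
        rw [f1, prod_image f2]
        have h4 := congrArg (· ^ m (s ^ r)) h3
        simp only [mul_pow, ← prod_pow, ← pow_mul] at h4 ⊢
        simp only [mul_right_comm d (m (s ^ r)) e0]
        exact h4

end H60.KgvVL
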