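import Cfsg.Agent.H23.NDSpec

/-! Tower ND (S4780): job A, a non-abelian quotient of prime power order. -/

set_option autoImplicit false

open Cfsg H28 H32 H44 H55.Nd

namespace H60.NdA

open H23.ND

universe u

theorem jobA : JobA.{u} := by
  intro G _ _ nd h
  simp only [NQP, not_forall] at h
  obtain ⟨r, hr, K, hK, hp, hne⟩ := h
  have := Fact.mk hr
  obtain ⟨e, e1, e2⟩ : ∃ e ∈ charDegrees (G ⧸ K), e ≠ 1 := by
    by_contra h
    push Not at h
    exact hne (commutator_le_of_cd_quot K h)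
  obtain ⟨β, hβ, hk, rfl⟩ := exists_irr_of_mem_cd_quot e1
  obtain ⟨j, hj⟩ := IsPGroup.iff_card.1 hp
  have dv : ∀ d ∈ charDegrees G, d ≠ 1 → r ∣ d := fun d hd d1 => by
    by_contra hn
    obtain ⟨χ, hχ, rfl⟩ := exists_of_mem_cd hd
    cases nonempty_fintype K
    obtain ⟨θ, hθ, hc⟩ := exists_constituent_res (H := K) hχ.isCharacter hχ.apply_one_ne_zero
    obtain ⟨k, hk1, hk2⟩ := exists_degree_mul hχ hθ hc
    obtain rfl : k = 1 := Nat.eq_one_of_dvd_coprimes
      (((Nat.Prime.coprime_iff_not_dvd hr).2 hn).pow_left j) (hk1.trans (dvd_of_eq hj))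
      (hk2 ▸ dvd_mul_right _ _)
    have h1 : (fun n : K => χ n) = θ := (hχ.isCharacter.restrict K).eq_irr_of_degree_eq hθ hc (by
      rw [← hθ.cast_charDegree, ← one_mul (charDegree θ), ← hk2, hχ.cast_charDegree]; rfl)
    have h2 := mem_cd (gallagher_irr hχ.isCharacter (h1 ▸ hθ) hβ hk)
    rw [hβ.isCharacter.charDegree_mul hχ.isCharacter] at h2
    exact d1 (nd.mul (mem_cd hβ) h2 e2 dvd_rfl)
  obtain ⟨L, hL, l1, k, l2⟩ := exists_npc hr dv
  have hLK : L ≤ K := fun g hg => by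
    rw [← QuotientGroup.eq_one_iff, ← orderOf_eq_one_iff]
    exact Nat.eq_one_of_dvd_coprimes (((Nat.Prime.coprime_iff_not_dvd hr).2 l1).pow_left j)
      (hj ▸ orderOf_dvd_natCard _)
      ((orderOf_map_dvd (QuotientGroup.mk' K) g).trans (L.orderOf_dvd_natCard hg))
  exact ⟨charDegree β, fun d hd => (em _).imp_right fun d1 =>
    nd.caseA hr l1 l2 (fun h => hne (h.trans hLK)) d hd _ (mem_cd hβ) d1 e2⟩

end H60.NdA
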