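/- Commutators in special unitary groups (row S2446): interface and assembly. -/
import Cfsg.Agent.H53.GUClass
import Cfsg.Agent.H68.CNCP
import Cfsg.Agent.H59.Para

set_option autoImplicit false
set_option linter.unusedSectionVars false

namespace H60.OU
open Polynomial Module H53 H68.CN H60.Ore
open H59 (IsHerm perp)
open LinearMap (transvection)

universe u

section Defs
variable {F : Type u} [Field F] {σ : F →+* F} {V W : Type u} [AddCommGroup V] [Module F V]
  [AddCommGroup W] [Module F W]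

/-- the field involution -/
structure Cj (σ : F →+* F) : Prop where
  ne : σ ≠ RingHom.id F
  inv : ∀ a, σ (σ a) = a

/-- admissible polynomials -/
structure Pol (σ : F →+* F) (χ : F[X]) : Prop where
  mon : χ.Monic
  c0 : χ.coeff 0 ≠ 0
  cop : IsCoprime χ (pstar σ χ)
  irr : ∃ φ q : F[X], φ.Monic ∧ Irreducible φ ∧ IsCoprime φ q ∧ χ = φ * q
  det : χ.natDegree = 1 ∨ dt χ = 1

/-- `c` is cyclic with characteristic polynomial `χ` -/
def CyP (c : End F W) (χ : F[X]) : Prop :=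
  χ.natDegree = finrank F W ∧ ∃ v, Cy c v ∧ aeval c χ v = 0

def Good (σ : F →+* F) (D : End F W) : Prop :=
  ∃ (c : End F W) (χ : F[X]), Pol σ χ ∧ CyP c χ ∧
    (CyP (c * D) χ ∨ Irreducible χ ∧ CyP (c * D) (pstar σ χ))

def T3 (D : End F W) : Prop :=
  ∃ e, D e ∉ F ∙ e ∧ (3 ≤ finrank F W → D (D e) ∉ Submodule.span F {e, D e})

/-- `g` is a commutator in the special unitary group -/
def Cm (B : V →ₛₗ[σ] V →ₗ[F] F) (g : End F V) : Prop :=
  ∃ x h : End F V, Inv B x ∧ Inv B h ∧ LinearMap.det x = 1 ∧ LinearMap.det h = 1 ∧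
    g * h * x = x * h

/-- a maximal totally isotropic subspace -/
structure Fr (B : V →ₛₗ[σ] V →ₗ[F] F) (ι : W →ₗ[F] V) : Prop where
  inj : Function.Injective ι
  iso : ∀ x y, B (ι x) (ι y) = 0
  dim : finrank F V ≤ 2 * finrank F W + 1

/-- `D` is the compression of `g` along an opposite maximal isotropic subspace -/
def Rl (B : V →ₛₗ[σ] V →ₗ[F] F) (g : End F V) (ι : W →ₗ[F] V) (D : End F W) : Prop :=
  ∃ L : Submodule F V, L ≤ perp B L ∧ finrank F L = finrank F W ∧ Disjoint (LinearMap.range ι) L ∧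
    ∀ x, g (ι x) - ι (D x) ∈ perp B L

end Defs

/-- From a good compression to a commutator. -/
def JobM : Prop := ∀ (F : Type u) [Field F] [Finite F] (σ : F →+* F) (V W : Type u) [AddCommGroup V]
  [Module F V] [FiniteDimensional F V] [AddCommGroup W] [Module F W] [FiniteDimensional F W]
  (B : V →ₛₗ[σ] V →ₗ[F] F) (g : End F V) (ι : W →ₗ[F] V) (D : End F W), IsHerm B → Inv B g →
  LinearMap.det g = 1 → 3 ≤ finrank F V → Fr B ι → Rl B g ι D → LinearMap.det D = 1 → Good σ D →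
  Cm B g

/-- Gauss decomposition with control. -/
def JobG : Prop := ∀ (F : Type u) [Field F] [Finite F] (σ : F →+* F) (V : Type u) [AddCommGroup V]
  [Module F V] [FiniteDimensional F V] (B : V →ₛₗ[σ] V →ₗ[F] F) (g : End F V), IsHerm B → Inv B g →
  LinearMap.det g = 1 → 3 ≤ finrank F V → NS g → ∃ L : Submodule F V, Fr B L.subtype ∧
    ((∃ D : End F L, Rl B g L.subtype D ∧ LinearMap.det D = 1 ∧ T3 D) ∨
      ∃ (E : End F L) (ψ : Dual F L), LinearMap.det E ≠ 0 ∧ ψ ≠ 0 ∧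
        ∀ z, LinearMap.det (E * transvection ψ z) = 1 → Rl B g L.subtype (E * transvection ψ z))

/-- Scalars. -/
def JobZ : Prop := ∀ (F : Type u) [Field F] [Finite F] (σ : F →+* F) (V : Type u) [AddCommGroup V]
  [Module F V] [FiniteDimensional F V] (B : V →ₛₗ[σ] V →ₗ[F] F) (z : F), IsHerm B →
  σ z * z = 1 → z ^ finrank F V = 1 → Cm B (z • 1)

/-- Polynomials, more than four elements. -/
def JobP : Prop := ∀ (F : Type u) [Field F] [Finite F] (σ : F →+* F), Cj σ → 4 < Nat.card F →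
  ∀ m : ℕ, 1 ≤ m → ∃ (β : F) (q : F[X]), Pol σ ((X - C β) * q) ∧ q.Monic ∧ q.natDegree + 1 = m ∧
    q.eval β ≠ 0

/-- Polynomials, four elements. -/
def JobP4 : Prop := ∀ (F : Type u) [Field F] [Finite F] (σ : F →+* F), Cj σ → Nat.card F = 4 →
  ∀ m : ℕ, 4 ≤ m → ∃ f q : F[X], Pol σ (f * q) ∧ f.Monic ∧ q.Monic ∧ f.natDegree = 2 ∧
    q.natDegree + 2 = m ∧ IsCoprime f q

/-- Products of two cyclic classes, with a quadratic factor. -/
def JobT : Prop := ∀ (K : Type u) [Field K] (W : Type u) [AddCommGroup W] [Module K W]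
  [FiniteDimensional K W] (D : End K W) (f q : K[X]), 4 ≤ Cardinal.mk K → 4 ≤ finrank K W →
  LinearMap.det D = 1 → T3 D → f.Monic → q.Monic → f.natDegree = 2 → q.natDegree + 2 = finrank K W →
  IsCoprime f q → (f * q).coeff 0 ≠ 0 → ∃ c : End K W, CyP c (f * q) ∧ CyP (c * D) (f * q)

/-- Small dimensions over the field with four elements. -/
def JobW : Prop := ∀ (F : Type u) [Field F] [Finite F] (σ : F →+* F), Cj σ → Nat.card F = 4 →
  ∀ (W : Type u) [AddCommGroup W] [Module F W] [FiniteDimensional F W],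
  finrank F W = 2 ∨ finrank F W = 3 → (∃ χ, Pol σ χ ∧ χ.natDegree = finrank F W) ∧
    ∀ D : End F W, LinearMap.det D = 1 → T3 D → Good σ D

/-- Planes. -/
def JobT2 : Prop := ∀ (K : Type u) [Field K] (W : Type u) [AddCommGroup W] [Module K W]
  [FiniteDimensional K W] (D : End K W) (β γ : K), finrank K W = 2 → LinearMap.det D = 1 → T3 D →
  β ≠ γ → β * γ = 1 → ∃ c : End K W, CyP c ((X - C β) * (X - C γ)) ∧ CyP (c * D) ((X - C β) * (X - C γ))

/-- Rank one modifications. -/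
def JobR : Prop := ∀ (F : Type u) [Field F] (σ : F →+* F) (W : Type u) [AddCommGroup W] [Module F W]
  [FiniteDimensional F W] (E : End F W) (ψ : Dual F W) (χ : F[X]), 4 ≤ Cardinal.mk F →
  LinearMap.det E ≠ 0 → ψ ≠ 0 → Pol σ χ → χ.natDegree = finrank F W →
  ∃ z, LinearMap.det (E * transvection ψ z) = 1 ∧
    (T3 (E * transvection ψ z) ∨ Good σ (E * transvection ψ z))

section Asm
variable {F : Type u} [Field F] {σ : F →+* F} {V W : Type u} [AddCommGroup V] [Module F V]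
  [AddCommGroup W] [Module F W] [FiniteDimensional F V] [FiniteDimensional F W]

theorem CyP.sim {c : End F V} {c' : End F W} {χ : F[X]} (h : CyP c χ) (hs : Sim c c') : CyP c' χ := by
  obtain ⟨h1, v, h2, h3⟩ := h
  obtain ⟨w, hw⟩ := h2.sim hs
  refine ⟨h1.trans hs.finrank_eq, w, hw, ?_⟩
  rw [(hs.aeval_eq_zero_iff χ).1 (h2.aeval_eq_zero h3), LinearMap.zero_apply]

theorem T3.ns {D : End F W} (h : T3 D) : NS D := fun c hc => by
  obtain ⟨e, h, -⟩ := h
  exact h (hc ▸ Submodule.smul_mem _ c (Submodule.mem_span_singleton_self e))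

theorem T3.two_le {D : End F W} (h : T3 D) : 2 ≤ finrank F W := by
  obtain ⟨e, h, -⟩ := h
  by_contra hh
  have e0 : e ≠ 0 := by rintro rfl; simp at h
  have : (F ∙ e) = ⊤ := Submodule.eq_top_of_finrank_eq (by
    have := finrank_span_singleton (K := F) e0
    have := (F ∙ e).finrank_le
    omega)
  exact h (this ▸ Submodule.mem_top)

theorem Cj.four_le [Finite F] (h : Cj σ) : 4 ≤ Nat.card F := by
  have := Fintype.ofFinite F
  obtain ⟨q, hq, -⟩ := H59.exists_card_eq_sq h.ne h.inv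
  have := H59.two_le_q hq
  rw [Nat.card_eq_fintype_card, hq]
  nlinarith

theorem Cj.four_le' [Finite F] (h : Cj σ) : 4 ≤ Cardinal.mk F := by
  rw [← Nat.cast_card]
  exact_mod_cast h.four_le

theorem exists_pol [Finite F] (hP : JobP.{u}) (hP4 : JobP4.{u}) (hW : JobW.{u}) (h : Cj σ)
    (h1 : 1 ≤ finrank F W) (h2 : Nat.card F = 4 → 2 ≤ finrank F W) :
    ∃ χ, Pol σ χ ∧ χ.natDegree = finrank F W := by
  by_cases c : Nat.card F = 4
  · by_cases d : 4 ≤ finrank F W
    · obtain ⟨f, q, a1, a2, a3, a4, a5, -⟩ := hP4 F σ h c _ d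
      exact ⟨_, a1, by rw [a2.natDegree_mul a3]; omega⟩
    · exact (hW F σ h c W (by have := h2 c; omega)).1
  · obtain ⟨β, q, a1, a2, a3, -⟩ := hP F σ h (by have := h.four_le; omega) _ h1
    exact ⟨_, a1, by rw [(monic_X_sub_C β).natDegree_mul a2, natDegree_X_sub_C]; omega⟩

theorem T3.good [Finite F] (hP : JobP.{u}) (hP4 : JobP4.{u}) (hT : JobT.{u}) (hW : JobW.{u})
    (hT2 : JobT2.{u}) (h : Cj σ) {D : End F W} (hD : LinearMap.det D = 1) (h3 : T3 D) :
    Good σ D := by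
  have h2 := h3.two_le
  by_cases c : Nat.card F = 4
  · by_cases d : 4 ≤ finrank F W
    · obtain ⟨f, q, a1, a2, a3, a4, a5, a6⟩ := hP4 F σ h c _ d
      obtain ⟨c, b1, b2⟩ := hT F W D f q h.four_le' d hD h3 a2 a3 a4 a5 a6 a1.c0
      exact ⟨c, _, a1, b1, .inl b2⟩
    · exact (hW F σ h c W (by omega)).2 D hD h3
  obtain ⟨β, q, a1, a2, a3, a4⟩ := hP F σ h (by have := h.four_le; omega) _ (one_le_two.trans h2)
  have a5 : ((X - C β) * q).natDegree = finrank F W := by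
    rw [(monic_X_sub_C β).natDegree_mul a2, natDegree_X_sub_C]; omega
  by_cases d : 3 ≤ finrank F W
  · obtain ⟨c₀, v, b1, b2⟩ := exists_model a1.mon a5
    have a6 := a1.c0
    rw [mul_coeff_zero, mul_ne_zero_iff, coeff_zero_eq_eval_zero q] at a6
    obtain ⟨c, a, b3, b4, rfl⟩ := t2St F W D c₀ c₀ β q v h.four_le' d (by simp [hD]) h3.ns
      ⟨a2, a3, a4, a6.2, by simpa using a6.1, v, b1, b2⟩ b1 (by simp [hD])
    have b5 : CyP c₀ _ := ⟨a5, v, b1, b2⟩
    exact ⟨c, _, a1, b5.sim b3.sim, .inl (b5.sim b4.sim)⟩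
  · obtain ⟨γ, rfl⟩ : ∃ γ, q = X - C γ :=
      ⟨-q.coeff 0, by rw [map_neg, sub_neg_eq_add]; exact a2.eq_X_add_C (by omega)⟩
    obtain ⟨c, b1, b2⟩ := hT2 F W D β γ (by omega) hD h3 (by simpa [sub_eq_zero] using a4) (by
      simpa [dt_mul (monic_X_sub_C _) (monic_X_sub_C _)] using a1.det.resolve_left (by omega))
    exact ⟨c, _, a1, b1, .inl b2⟩

theorem cm [Finite F] (hM : JobM.{u}) (hG : JobG.{u}) (hZ : JobZ.{u}) (hP : JobP.{u})
    (hP4 : JobP4.{u}) (hT : JobT.{u}) (hW : JobW.{u}) (hT2 : JobT2.{u}) (hR : JobR.{u})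
    {B : V →ₛₗ[σ] V →ₗ[F] F} {g : End F V} (hB : IsHerm B) (hg : Inv B g) (hd : LinearMap.det g = 1)
    (h3 : 3 ≤ finrank F V) (h4 : Nat.card F = 4 → 4 ≤ finrank F V) : Cm B g := by
  have h : Cj σ := ⟨hB.ne_id, hB.invol⟩
  by_cases hs : NS g
  · obtain ⟨L, f, ⟨D, a1, a2, a3⟩ | ⟨E, ψ, a1, a2, a3⟩⟩ := hG F σ V B g hB hg hd h3 hs
    · exact hM F σ V L B g _ D hB hg hd h3 f a1 a2 (a3.good hP hP4 hT hW hT2 h a2)
    · have := f.dim
      obtain ⟨χ, b1, b2⟩ := exists_pol (W := L) hP hP4 hW h (by omega) fun c => by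
        have := h4 c; omega
      obtain ⟨z, c1, c2⟩ := hR F σ L E ψ χ h.four_le' a1 a2 b1 b2
      exact hM F σ V L B g _ _ hB hg hd h3 f (a3 z c1) c1
        (c2.elim (fun c => c.good hP hP4 hT hW hT2 h c1) id)
  · obtain ⟨z, rfl⟩ : ∃ z : F, g = z • 1 := by simpa [NS] using hs
    have : Nontrivial V := Module.nontrivial_of_finrank_pos (R := F) (by omega)
    obtain ⟨x, hx⟩ := exists_ne (0 : V)
    obtain ⟨y, hy⟩ := not_forall.1 (mt (hB.nondeg x) hx)
    refine hZ F σ V B z hB (mul_right_cancel₀ hy ?_) (by simpa using hd)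
    simpa [mul_assoc, mul_left_comm] using hg x y

end Asm

theorem main (hM : JobM.{u}) (hG : JobG.{u}) (hZ : JobZ.{u}) (hP : JobP.{u})
    (hP4 : JobP4.{u}) (hT : JobT.{u}) (hW : JobW.{u}) (hT2 : JobT2.{u}) (hR : JobR.{u})
    {F : Type u} [Field F] [Fintype F] (n q : ℕ) (hn : 3 ≤ n) (hF : Fintype.card F = q ^ 2)
    (hex : ¬ (n = 3 ∧ q = 2)) (g : Cfsg.SU n F q) :
    ∃ a b : Cfsg.SU n F q, g = a * b * a⁻¹ * b⁻¹ := by
  have hB := H59.isHerm_uForm hF n
  let e := H59.suEquiv hF n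
  obtain ⟨x, h, a1, a2, a3, a4, a5⟩ := cm hM hG hZ hP hP4 hT hW hT2 hR hB
    (g := ((e g).1 : _ →ₗ[F] _)) (e g).2.1 (by
      rw [← LinearEquiv.coe_det, (H59.mem_sisom.1 (e g).2).2, Units.val_one]) (by simpa using hn)
    fun c => by
      have : q = 2 := Nat.pow_left_injective two_ne_zero (by
        rw [Nat.card_eq_fintype_card, hF] at c; exact c)
      simp only [finrank_fintype_fun_eq_card, Fintype.card_fin]
      omega
  have k : ∀ x : End F (Fin n → F), Inv (H59.uForm hF n) x → LinearMap.det x = 1 →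
      ∃ a : H59.sisom (H59.uForm hF n), (a.1 : _ →ₗ[F] _) = x := fun x h1 h2 =>
    ⟨⟨LinearEquiv.ofBijective x ((End.isUnit_iff x).1 (h1.isUnit (isSF_of_isHerm hB))),
      H59.mem_sisom.2 ⟨h1, Units.ext (by rw [LinearEquiv.coe_det]; exact h2)⟩⟩, rfl⟩
  obtain ⟨a, rfl⟩ := k x a1 a3
  obtain ⟨b, rfl⟩ := k h a2 a4
  refine ⟨e.symm a, e.symm b, e.injective ?_⟩
  simp only [map_mul, map_inv, MulEquiv.apply_symm_apply]
  rw [eq_mul_inv_iff_mul_eq, eq_mul_inv_iff_mul_eq]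
  exact Subtype.ext (LinearEquiv.toLinearMap_injective a5)

end H60.OU
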