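/- Commutators in `SL_n(q)` (row S2444): the exchange calculus on elementary divisors. -/
import Cfsg.Agent.H53.MatED

set_option autoImplicit false

namespace H60.Ore
open Polynomial Module H53

universe u
variable {F : Type u} [Field F]
variable {V W : Type*} [AddCommGroup V] [Module F V] [AddCommGroup W] [Module F W]
  [FiniteDimensional F V] [FiniteDimensional F W]

/-- Determinant of the companion matrix of a monic polynomial. -/
def dt (P : F[X]) : F := (-1) ^ P.natDegree * P.coeff 0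

/-- Determinant of an endomorphism with elementary divisors `m`. -/
def dm (m : Multiset F[X]) : F := (m.map dt).prod

@[simp] theorem dm_zero : dm (0 : Multiset F[X]) = 1 := by simp [dm]
@[simp] theorem dm_cons (P : F[X]) (m : Multiset F[X]) : dm (P ::ₘ m) = dt P * dm m := by simp [dm]
@[simp] theorem dm_singleton (P : F[X]) : dm {P} = dt P := by simp [dm]
@[simp] theorem dm_add (m m' : Multiset F[X]) : dm (m + m') = dm m * dm m' := by simp [dm]
@[simp] theorem dt_lin (a : F) : dt (X - C a) = a := by simp [dt]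

theorem dt_mul {P Q : F[X]} (hP : P.Monic) (hQ : Q.Monic) : dt (P * Q) = dt P * dt Q := by
  rw [dt, dt, dt, hP.natDegree_mul hQ, mul_coeff_zero, pow_add]; ring

theorem dt_prod {m : Multiset F[X]} (h : ∀ P ∈ m, P.Monic) : dt m.prod = dm m := by
  induction m using Multiset.induction_on with
  | empty => simp [dt]
  | cons a s ih =>
    have hs : ∀ P ∈ s, P.Monic := fun P hP => h P (Multiset.mem_cons_of_mem hP)
    rw [Multiset.prod_cons, dt_mul (h a (Multiset.mem_cons_self _ _))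
      (by simpa using monic_multiset_prod_of_monic s id hs), ih hs, dm_cons]

theorem det_eq_dt (g : End F V) : LinearMap.det g = dt g.charpoly := by
  rw [LinearMap.det_eq_sign_charpoly_coeff, dt, LinearMap.charpoly_natDegree]

theorem dm_ed (g : End F V) : dm (ed g) = LinearMap.det g := by
  rw [det_eq_dt, charpoly_eq_prod_ed, dt_prod fun P hP => (ed_isPP g P hP).monic]

/-- An endomorphism with a cyclic vector is similar to a companion matrix. -/
theorem sim_cyc_of_vec {g : End F V} {v : V} (hv : ∀ w, ∃ P : F[X], aeval g P v = w) {p : F[X]}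
    (hp : p ≠ 0) (h0 : aeval g p v = 0) (hd : p.natDegree = finrank F V) : Sim g (cyc p) := by
  have := finite_adjoinRoot hp
  let ev : F[X] →ₗ[F] V := (LinearMap.applyₗ v).comp (aeval g).toLinearMap
  have hk : (Ideal.span {p}).restrictScalars F ≤ LinearMap.ker ev := by
    intro a ha
    obtain ⟨b, rfl⟩ := Ideal.mem_span_singleton'.1 ha
    simp [ev, h0]
  let e0 : AdjoinRoot p →ₗ[F] V := ((Ideal.span {p}).restrictScalars F).liftQ ev hk
  have he : ∀ P : F[X], e0 (AdjoinRoot.mk p P) = aeval g P v := fun P => rfl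
  have hs : Function.Surjective e0 := fun w => by
    obtain ⟨P, rfl⟩ := hv w
    exact ⟨_, he P⟩
  have hi : Function.Injective e0 :=
    (LinearMap.injective_iff_surjective_of_finrank_eq_finrank
      (by rw [finrank_adjoinRoot hp, hd])).2 hs
  refine Sim.symm ⟨LinearEquiv.ofBijective e0 ⟨hi, hs⟩, fun a => ?_⟩
  obtain ⟨P, rfl⟩ := AdjoinRoot.mk_surjective a
  show e0 _ = g (e0 _)
  rw [cyc_apply, ← AdjoinRoot.mk_X, ← map_mul, he, he, map_mul, aeval_X]
  rfl

open Classical in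
/-- Elementary divisors of the companion matrix of `f`. -/
noncomputable def edc (f : F[X]) : Multiset F[X] :=
  if h : f ≠ 0 then (haveI := finite_adjoinRoot h; ed (cyc f)) else 0

theorem edc_eq {f : F[X]} (h : f ≠ 0) : edc f = (haveI := finite_adjoinRoot h; ed (cyc f)) :=
  dif_pos h

theorem ed_eq_edc {g : End F V} {p : F[X]} (hp : p ≠ 0) (h : Sim g (cyc p)) : ed g = edc p := by
  have := finite_adjoinRoot hp
  rw [edc_eq hp]; exact h.ed_eq

theorem edc_pp {P : F[X]} (h : IsPP P) : edc P = {P} := by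
  have := finite_adjoinRoot h.ne_zero
  rw [edc_eq h.ne_zero]; exact ed_eq_singleton_of_sim_cyc h (Sim.refl _)

theorem isPP_lin (a : F) : IsPP (X - C a) := isPP_of_irreducible (monic_X_sub_C a) (irreducible_X_sub_C a)

theorem isPP_lin_pow (a : F) {k : ℕ} (hk : 0 < k) : IsPP ((X - C a) ^ k) :=
  ⟨_, k, monic_X_sub_C a, irreducible_X_sub_C a, hk, rfl⟩

@[simp] theorem edc_lin (a : F) : edc (X - C a) = {X - C a} := edc_pp (isPP_lin a)

theorem edc_mul {P Q : F[X]} (hP : P ≠ 0) (hQ : Q ≠ 0) (h : IsCoprime P Q) :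
    edc (P * Q) = edc P + edc Q := by
  have := finite_adjoinRoot hP
  have := finite_adjoinRoot hQ
  rw [edc_eq hP, edc_eq hQ, ← ed_prodMap]
  refine (ed_eq_edc (mul_ne_zero hP hQ) (sim_cyc_of_vec (v := (1, 1)) ?_ (mul_ne_zero hP hQ) ?_ ?_)).symm
  · rintro ⟨a, b⟩
    obtain ⟨A, rfl⟩ := AdjoinRoot.mk_surjective a
    obtain ⟨B, rfl⟩ := AdjoinRoot.mk_surjective b
    obtain ⟨s, t, hst⟩ := h
    refine ⟨A * (t * Q) + B * (s * P), ?_⟩
    rw [aeval_prodMap, LinearMap.prodMap_apply, aeval_cyc_apply, aeval_cyc_apply, mul_one, mul_one]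
    congr 1 <;> rw [AdjoinRoot.mk_eq_mk]
    · exact ⟨(B - A) * s, by linear_combination A * hst⟩
    · exact ⟨(A - B) * t, by linear_combination B * hst⟩
  · rw [aeval_prodMap, LinearMap.prodMap_apply, aeval_cyc_apply, aeval_cyc_apply]
    simp
  · rw [finrank_prod, finrank_adjoinRoot hP, finrank_adjoinRoot hQ, natDegree_mul hP hQ]

theorem dm_edc {f : F[X]} (h : f.Monic) : dm (edc f) = dt f := by
  have := finite_adjoinRoot h.ne_zero
  rw [edc_eq h.ne_zero, dm_ed, det_eq_dt, charpoly_cyc h]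

/-- Two coprime blocks form one cyclic block. -/
theorem pair_eq_edc {P Q : F[X]} (hP : IsPP P) (hQ : IsPP Q) (h : IsCoprime P Q) :
    ({P, Q} : Multiset F[X]) = edc (P * Q) := by
  rw [edc_mul hP.ne_zero hQ.ne_zero h, edc_pp hP, edc_pp hQ]; rfl

theorem edc_lin_mul {a : F} {Q : F[X]} (h : Q.eval a ≠ 0) :
    edc ((X - C a) * Q) = (X - C a) ::ₘ edc Q := by
  rw [edc_mul (X_sub_C_ne_zero a) (by rintro rfl; simp at h)
    ((irreducible_X_sub_C a).coprime_iff_not_dvd.2 (by rwa [dvd_iff_isRoot])), edc_lin]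
  rfl

/-- A `2 × 2` matrix with non-zero lower left entry is cyclic. -/
theorem med_two {a b c d : F} (hc : c ≠ 0) :
    med !![a, b; c, d] = edc (X ^ 2 - C (a + d) * X + C (a * d - b * c)) := by
  have hm : (X ^ 2 - C (a + d) * X + C (a * d - b * c) : F[X]).Monic := by monicity!
  refine ed_eq_edc hm.ne_zero (sim_cyc_of_vec (v := ![1, 0]) (fun w => ?_) hm.ne_zero ?_ ?_)
  · refine ⟨C (w 0 - w 1 / c * a) + C (w 1 / c) * X, ?_⟩
    ext i; fin_cases i <;> simp [Matrix.toLin'_apply, Matrix.mulVec, dotProduct, hc]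
  · ext i; fin_cases i <;> simp [Matrix.toLin'_apply, Matrix.mulVec, dotProduct, pow_two, Matrix.vecHead, Matrix.vecTail] <;> ring
  · rw [finrank_fin_fun]; compute_degree!

/-- `P g = Y`, where `P` has the extra blocks `A`, `Y` the extra blocks `B`, `det Y = ω`; the flag
says that `Y` has a block of size one. -/
def Ex (g : End F V) (A B : Multiset F[X]) (ω : F) (l : Prop) : Prop :=
  ∃ P Y : End F V, P * g = Y ∧ ed P + B = ed Y + A ∧ LinearMap.det Y = ω ∧
    (l → ∃ c, X - C c ∈ ed Y)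

theorem Ex.sim {g : End F V} {g' : End F W} (h : Sim g g') {A B : Multiset F[X]} {ω : F} {l : Prop}
    (e : Ex g A B ω l) : Ex g' A B ω l := by
  obtain ⟨P, Y, h1, h2, h3, h4⟩ := e
  obtain ⟨φ, rfl⟩ := h.eq_conj
  refine ⟨φ.conj P, φ.conj Y, ?_, ?_, ?_, ?_⟩
  · rw [← h1]; exact (LinearEquiv.conj_comp φ _ _).symm
  · rwa [← (sim_conj φ P).ed_eq, ← (sim_conj φ Y).ed_eq]
  · rwa [← (sim_conj φ Y).det_eq]
  · rwa [← (sim_conj φ Y).ed_eq]

theorem Ex.prod {g : End F V} {g' : End F W} {A B A' B' : Multiset F[X]} {ω ω' : F} {l l' : Prop}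
    (e : Ex g A B ω l) (e' : Ex g' A' B' ω' l') :
    Ex (g.prodMap g') (A + A') (B + B') (ω * ω') (l ∨ l') := by
  obtain ⟨P, Y, h1, h2, h3, h4⟩ := e
  obtain ⟨P', Y', h1', h2', h3', h4'⟩ := e'
  refine ⟨P.prodMap P', Y.prodMap Y', ?_, ?_, ?_, ?_⟩
  · rw [← h1, ← h1']; rfl
  · rw [ed_prodMap, ed_prodMap, add_add_add_comm, h2, h2', add_add_add_comm]
  · rw [LinearMap.det_prodMap, h3, h3']
  · rw [ed_prodMap]
    rintro (h | h)
    · obtain ⟨c, hc⟩ := h4 h; exact ⟨c, Multiset.mem_add.2 (.inl hc)⟩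
    · obtain ⟨c, hc⟩ := h4' h; exact ⟨c, Multiset.mem_add.2 (.inr hc)⟩

/-- `Ex` for every endomorphism with elementary divisors `m`. -/
def E (m A B : Multiset F[X]) (ω : F) (l : Prop) : Prop :=
  ∀ (n : ℕ) (g : End F (Fin n → F)), ed g = m → Ex g A B ω l

theorem E.intro {g : End F V} {m A B : Multiset F[X]} {ω : F} {l : Prop} (hg : ed g = m)
    (e : Ex g A B ω l) : E m A B ω l := fun _ _ h => e.sim (sim_of_ed_eq (hg.trans h.symm))

/-- Introduction rule for explicit matrices. -/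
theorem E.mat {ι : Type*} [Fintype ι] [DecidableEq ι] {g P Y : Matrix ι ι F} (h : P * g = Y) :
    E (med g) (med P) (med Y) Y.det False :=
  E.intro (g := Matrix.toLin' g) rfl ⟨Matrix.toLin' P, Matrix.toLin' Y,
    by rw [← h, Matrix.toLin'_mul]; rfl, add_comm _ _, LinearMap.det_toLin' Y, False.elim⟩

theorem E.add {m A B m' A' B' : Multiset F[X]} {ω ω' : F} {l l' : Prop} (e : E m A B ω l)
    (e' : E m' A' B' ω' l') : E (m + m') (A + A') (B + B') (ω * ω') (l ∨ l') := by
  intro n g hg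
  have pp : ∀ P ∈ m + m', IsPP P := hg ▸ ed_isPP g
  obtain ⟨g1, h1⟩ := exists_ed_eq (V := Fin (m.map natDegree).sum → F) (s := m)
    (fun P hP => pp P (Multiset.mem_add.2 (.inl hP))) (by simp)
  obtain ⟨g2, h2⟩ := exists_ed_eq (V := Fin (m'.map natDegree).sum → F) (s := m')
    (fun P hP => pp P (Multiset.mem_add.2 (.inr hP))) (by simp)
  exact ((e _ g1 h1).prod (e' _ g2 h2)).sim (sim_of_ed_eq (by rw [ed_prodMap, h1, h2, hg]))

/-- Common blocks cancel; the flag can be weakened. -/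
theorem E.congr {m A B A' B' : Multiset F[X]} {ω ω' : F} {l l' : Prop} (e : E m A B ω l)
    (h : A + B' = A' + B) (hω : ω = ω') (hl : l' → l) : E m A' B' ω' l' := by
  intro n g hg
  obtain ⟨P, Y, h1, h2, h3, h4⟩ := e n g hg
  refine ⟨P, Y, h1, ?_, h3.trans hω, fun x => h4 (hl x)⟩
  have : ed P + B' + (A + B) = ed Y + A' + (A + B) := by
    calc ed P + B' + (A + B) = (ed P + B) + (A + B') := by abel
      _ = (ed Y + A) + (A' + B) := by rw [h2, h]
      _ = _ := by abel
  exact add_right_cancel this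

/-- A linear block in `B` that is not in `A` sets the flag. -/
theorem E.flag {m A B : Multiset F[X]} {ω : F} {l : Prop} (e : E m A B ω l) {c : F}
    (hB : X - C c ∈ B) (hA : X - C c ∉ A) : E m A B ω True := by
  intro n g hg
  obtain ⟨P, Y, h1, h2, h3, -⟩ := e n g hg
  refine ⟨P, Y, h1, h2, h3, fun _ => ⟨c, ?_⟩⟩
  have : X - C c ∈ ed Y + A := h2 ▸ Multiset.mem_add.2 (.inr hB)
  exact (Multiset.mem_add.1 this).resolve_right hA

theorem E.zero : E (0 : Multiset F[X]) 0 0 1 False := by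
  intro n g hg
  have := (ed_eq_zero_iff g).1 hg
  exact ⟨1, 1, Subsingleton.elim _ _, rfl, map_one _, False.elim⟩

/-- A block of size one. -/
theorem E.lin (l a : F) : E {X - C l} {X - C a} {X - C (l * a)} (l * a) True := by
  have h : ∀ c : F, ed (c • (1 : End F F)) = {X - C c} := fun c => by
    rw [← edc_lin]
    refine ed_eq_edc (X_sub_C_ne_zero c) (sim_cyc_of_vec (v := 1) (fun w => ⟨C w, by simp⟩)
      (X_sub_C_ne_zero c) (by simp) (by simp))
  refine E.intro (h l) ⟨a • 1, (l * a) • 1, ?_, ?_, by simp, fun _ => ⟨l * a, by simp [h]⟩⟩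
  · rw [smul_mul_smul_comm, mul_comm, one_mul]
  · rw [h, h, add_comm]

/-- Every element of `SL_n(F)` with elementary divisors `m` is a commutator. -/
def Cm (m : Multiset F[X]) : Prop :=
  ∀ (n : ℕ) (g : Matrix.SpecialLinearGroup (Fin n) F), med g.1 = m →
    ∃ a b : Matrix.SpecialLinearGroup (Fin n) F, g = a * b * a⁻¹ * b⁻¹

theorem exists_comm_det {Y : End F V} {c : F} (h : X - C c ∈ ed Y) (x : F) :
    ∃ d : End F V, d * Y = Y * d ∧ LinearMap.det d = x := by
  obtain ⟨t, ht⟩ := Multiset.exists_cons_of_mem h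
  obtain ⟨g2, h2⟩ := exists_ed_eq (V := Fin (t.map natDegree).sum → F) (s := t)
    (fun P hP => ed_isPP Y P (ht ▸ Multiset.mem_cons_of_mem hP)) (by simp)
  have := finite_adjoinRoot (X_sub_C_ne_zero c)
  have hs : Sim ((cyc (X - C c)).prodMap g2) Y := sim_of_ed_eq (by
    rw [ed_prodMap, h2, ht, ed_eq_singleton_of_sim_cyc (isPP_lin c) (Sim.refl _)]; rfl)
  obtain ⟨φ, rfl⟩ := hs.eq_conj
  refine ⟨φ.conj ((x • (1 : End F _)).prodMap 1), ?_, ?_⟩
  · change _ ∘ₗ _ = _ ∘ₗ _
    rw [← LinearEquiv.conj_comp, ← LinearEquiv.conj_comp]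
    congr 1
    ext <;> simp
  · rw [← (sim_conj φ _).det_eq, LinearMap.det_prodMap, LinearMap.det_smul,
      finrank_adjoinRoot (X_sub_C_ne_zero c)]
    simp

theorem E.cm {m : Multiset F[X]} {l : Prop} (e : E m 0 0 1 l) (hl : l ∨ ∀ x : F, x ≠ 0 → x = 1) :
    Cm m := by
  intro n g hg
  obtain ⟨P, Y, h1, h2, h3, h4⟩ := e n (Matrix.toLin' g.1) hg
  rw [add_zero, add_zero] at h2
  obtain ⟨φ, hφ⟩ := (sim_of_ed_eq h2).eq_conj
  have hd : LinearMap.det (φ : End F (Fin n → F)) ≠ 0 := (LinearEquiv.isUnit_det' φ).ne_zero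
  obtain ⟨d, hdY, hdd⟩ : ∃ d : End F (Fin n → F), d * Y = Y * d ∧
      LinearMap.det d = (LinearMap.det (φ : End F (Fin n → F)))⁻¹ := by
    rcases hl with hl | hl
    · obtain ⟨c, hc⟩ := h4 hl
      exact exists_comm_det hc _
    · exact ⟨1, by simp, by rw [hl _ hd]; simp⟩
  have hφ' : (φ : End F (Fin n → F)) * P = Y * φ := by
    rw [hφ]; refine LinearMap.ext fun v => ?_; simp [LinearEquiv.conj_apply]
  let p : Matrix.SpecialLinearGroup (Fin n) F := ⟨LinearMap.toMatrix' P, by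
    rw [LinearMap.det_toMatrix', (sim_of_ed_eq h2).det_eq, h3]⟩
  let c : Matrix.SpecialLinearGroup (Fin n) F := ⟨LinearMap.toMatrix' (d * (φ : End F (Fin n → F))), by
    rw [LinearMap.det_toMatrix', map_mul, hdd, inv_mul_cancel₀ hd]⟩
  have key : c * p = p * g * c := by
    apply Subtype.ext
    show LinearMap.toMatrix' (d * (φ : End F (Fin n → F))) * LinearMap.toMatrix' P =
      LinearMap.toMatrix' P * g.1 * LinearMap.toMatrix' (d * (φ : End F (Fin n → F)))
    conv_rhs => rw [← LinearMap.toMatrix'_toLin' g.1]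
    rw [← LinearMap.toMatrix'_mul, ← LinearMap.toMatrix'_mul, ← LinearMap.toMatrix'_mul, h1,
      mul_assoc, hφ', ← mul_assoc, hdY, mul_assoc]
  refine ⟨p⁻¹, c, ?_⟩
  rw [inv_inv, mul_assoc p⁻¹, key]; group

/-- Conversely a block that is a commutator is closed of weight one. -/
theorem E.of_comm {ι : Type*} [Fintype ι] [DecidableEq ι] {g P Y c c' : Matrix ι ι F}
    (h : P * g = Y) (hc : c * c' = 1) (hP : c * P = Y * c) : E (med g) 0 0 Y.det False := by
  refine (E.mat h).congr ?_ rfl id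
  have : IsConj P Y := ⟨⟨c, c', hc, mul_eq_one_comm.1 hc⟩, hP⟩
  rw [(isConj_iff_med_eq _ _).1 this, add_zero, zero_add]

/-- A right and a left eigenvector that pair non-trivially give a block of size one. -/
theorem mem_ed_of_vec {Y : End F V} {c : F} {v : V} {φ : V →ₗ[F] F} (hv : Y v = c • v)
    (hφ : ∀ x, φ (Y x) = c * φ x) (h1 : φ v = 1) : X - C c ∈ ed Y := by
  have hA : ∀ x ∈ Submodule.span F {v}, Y x ∈ Submodule.span F {v} := fun x hx => by
    obtain ⟨a, rfl⟩ := Submodule.mem_span_singleton.1 hx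
    rw [map_smul, hv, smul_smul]; exact Submodule.smul_mem _ _ (Submodule.mem_span_singleton_self v)
  have hB : ∀ x ∈ LinearMap.ker φ, Y x ∈ LinearMap.ker φ := fun x hx => by
    rw [LinearMap.mem_ker] at *; rw [hφ, hx, mul_zero]
  have v0 : v ≠ 0 := by rintro rfl; simp at h1
  have hc : IsCompl (Submodule.span F {v}) (LinearMap.ker φ) := by
    refine ⟨Submodule.disjoint_def.2 fun x hx hx' => ?_, codisjoint_iff.2 (eq_top_iff.2 fun x _ => ?_)⟩
    · obtain ⟨a, rfl⟩ := Submodule.mem_span_singleton.1 hx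
      have : a = 0 := by simpa [h1] using hx'
      simp [this]
    · refine Submodule.mem_sup.2 ⟨φ x • v, Submodule.smul_mem _ _
        (Submodule.mem_span_singleton_self v), x - φ x • v, by simp [h1], by simp⟩
  rw [ed_eq_add_of_isCompl hc hA hB, ed_eq_edc (g := Y.restrict hA) (X_sub_C_ne_zero c)
    (sim_cyc_of_vec (v := ⟨v, Submodule.mem_span_singleton_self v⟩) ?_ (X_sub_C_ne_zero c) ?_ ?_)]
  · simp
  · rintro ⟨w, hw⟩
    obtain ⟨a, rfl⟩ := Submodule.mem_span_singleton.1 hw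
    exact ⟨C a, by ext; simp⟩
  · ext; simp [LinearMap.restrict_apply, hv]
  · rw [finrank_span_singleton v0, natDegree_X_sub_C]

/-- `E.of_comm` with the flag. -/
theorem E.of_comm' {ι : Type*} [Fintype ι] [DecidableEq ι] {g P Y c c' : Matrix ι ι F}
    (h : P * g = Y) (hc : c * c' = 1) (hP : c * P = Y * c) {a : F} {v w : ι → F}
    (hv : Y.mulVec v = a • v) (hw : Matrix.vecMul w Y = a • w) (h1 : w ⬝ᵥ v = 1) :
    E (med g) 0 0 Y.det True := by
  have : IsConj P Y := ⟨⟨c, c', hc, mul_eq_one_comm.1 hc⟩, hP⟩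
  refine E.intro (g := Matrix.toLin' g) rfl ⟨Matrix.toLin' P, Matrix.toLin' Y,
    by rw [← h, Matrix.toLin'_mul]; rfl, congrArg (· + 0) ((isConj_iff_med_eq _ _).1 this),
    LinearMap.det_toLin' Y, fun _ => ⟨a, mem_ed_of_vec (v := v) (φ := dotProductBilin F F w)
      hv (fun x => ?_) h1⟩⟩
  simp [Matrix.dotProduct_mulVec, hw]

/-- The block can be put in a chain. -/
def Semi (m : Multiset F[X]) (l : Prop) : Prop :=
  dm m ≠ 0 ∧ ∀ a : F, a ≠ 0 → ∃ ω, ω ≠ 0 ∧ E m {X - C a} {X - C (dm m * a)} ω l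

/-- The block can be put in a chain with any weight. -/
def Flex (m : Multiset F[X]) : Prop :=
  dm m ≠ 0 ∧ ∀ a ω : F, a ≠ 0 → ω ≠ 0 → E m {X - C a} {X - C (dm m * a)} ω True

theorem E.chain {m m' : Multiset F[X]} {a b c ω ω' : F} {l l' : Prop}
    (e : E m {X - C a} {X - C b} ω l) (e' : E m' {X - C b} {X - C c} ω' l') :
    E (m + m') {X - C a} {X - C c} (ω * ω') (l ∨ l') :=
  (e.add e').congr (by abel) rfl id

theorem E.closed {m : Multiset F[X]} {ω : F} {l : Prop} (e : E m 0 0 ω l) (A : Multiset F[X]) :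
    E m A A ω l := e.congr (by simp) rfl id

theorem Semi.zero : Semi (0 : Multiset F[X]) False :=
  ⟨by simp, fun a _ => ⟨1, one_ne_zero, by simpa using E.zero.closed {X - C a}⟩⟩

theorem Semi.mono {m : Multiset F[X]} {l l' : Prop} (h : Semi m l) (hl : l' → l) : Semi m l' :=
  ⟨h.1, fun a ha => (h.2 a ha).imp fun _ e => ⟨e.1, e.2.congr rfl rfl hl⟩⟩

theorem Flex.semi {m : Multiset F[X]} (h : Flex m) : Semi m True :=
  ⟨h.1, fun a ha => ⟨1, one_ne_zero, h.2 a 1 ha one_ne_zero⟩⟩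

theorem Semi.add {m m' : Multiset F[X]} {l l' : Prop} (h : Semi m l) (h' : Semi m' l') :
    Semi (m + m') (l ∨ l') := by
  refine ⟨by rw [dm_add]; exact mul_ne_zero h.1 h'.1, fun a ha => ?_⟩
  obtain ⟨ω, h0, e⟩ := h.2 a ha
  obtain ⟨ω', h0', e'⟩ := h'.2 _ (mul_ne_zero h.1 ha)
  refine ⟨_, mul_ne_zero h0 h0', ?_⟩
  rw [dm_add, mul_comm (dm m), mul_assoc]
  exact e.chain e'

theorem Flex.add {m m' : Multiset F[X]} {l : Prop} (h : Flex m) (h' : Semi m' l) :
    Flex (m + m') := by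
  refine ⟨by rw [dm_add]; exact mul_ne_zero h.1 h'.1, fun a ω ha hω => ?_⟩
  obtain ⟨ω', h0', e'⟩ := h'.2 _ (mul_ne_zero h.1 ha)
  rw [dm_add, mul_comm (dm m), mul_assoc]
  exact ((h.2 a (ω / ω') ha (div_ne_zero hω h0')).chain e').congr rfl (div_mul_cancel₀ _ h0')
    fun _ => .inl trivial

theorem Semi.of_forall {m : Multiset F[X]} (h : ∀ P ∈ m, Semi {P} True) : Semi m (m ≠ 0) := by
  induction m using Multiset.induction_on with
  | empty => exact Semi.zero.mono fun h => h rfl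
  | cons a s ih =>
    exact ((h a (Multiset.mem_cons_self _ _)).add
      (ih fun P hP => h P (Multiset.mem_cons_of_mem hP))).mono fun _ => .inl trivial

theorem Semi.lin {l : F} (hl : l ≠ 0) : Semi {X - C l} True :=
  ⟨by simpa, fun a ha => ⟨_, mul_ne_zero hl ha, by simpa using E.lin l a⟩⟩

/-- Closed with every weight. -/
theorem Flex.of_closed {m : Multiset F[X]} (hd : dm m = 1) (h : ∀ ω, ω ≠ 0 → E m 0 0 ω True) :
    Flex m := ⟨by simp [hd], fun a ω _ hω => by simpa [hd] using (h ω hω).closed {X - C a}⟩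

theorem Flex.one : Flex ({X - C 1} : Multiset F[X]) :=
  Flex.of_closed (by simp only [dm_singleton, dt_lin]) fun ω _ =>
    (E.lin 1 ω).congr (by simp) (one_mul ω) id

theorem Flex.cm {m : Multiset F[X]} (h : Flex m) : Cm m := by
  intro n g hg
  have hd : dm m = 1 := by rw [← hg, med, dm_ed, LinearMap.det_toLin', g.2]
  refine E.cm (l := True) ?_ (.inl trivial) n g hg
  exact (h.2 1 1 one_ne_zero one_ne_zero).congr (by simp [hd]) rfl id

/-- A sub-multiset that is `Flex`, with a `Semi` complement. -/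
theorem Flex.of_le [DecidableEq F[X]] {m s : Multiset F[X]} {l : Prop} (hs : s ≤ m) (h : Flex s)
    (h' : Semi (m - s) l) : Flex m := by
  rw [← add_tsub_cancel_of_le hs]; exact h.add h'

end H60.Ore
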