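import Cfsg.Agent.H42.OddOrder
import Cfsg.Agent.H83.InvPair
import Cfsg.Agent.H3.Frattini

/-! Group theory for Clifford groups: Burnside, and elementary abelian TI-subgroups. -/

set_option autoImplicit false
set_option linter.unusedSectionVars false

namespace H60.Cl

open scoped commutatorElement

variable {Γ : Type*} [Group Γ] [Finite Γ] {G N A : Subgroup Γ} {g a b s : Γ}

/-- the normaliser -/
abbrev Nr (A : Subgroup Γ) : Subgroup Γ := Subgroup.normalizer (A : Set Γ)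

theorem mem_Nr (h : ∀ y ∈ A, g * y * g⁻¹ ∈ A) : g ∈ Nr A := Subgroup.mem_normalizer_fintype h

theorem Nr_conj (hg : g ∈ Nr A) (hy : a ∈ A) : g * a * g⁻¹ ∈ A :=
  (Subgroup.mem_normalizer_iff.1 hg a).1 hy

theorem exists_char_comm {X : Type*} [Group X] [Nontrivial X] [Group.IsSolvable X] :
    ∃ B : Subgroup X, B.Characteristic ∧ B ≠ ⊥ ∧ ∀ a ∈ B, ∀ b ∈ B, a * b = b * a := by
  classical
  have h := (Group.isSolvable_def X).1 inferInstance
  have h0 : Nat.find h ≠ 0 := fun e => by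
    have := Nat.find_spec h
    rw [e] at this
    exact top_ne_bot this
  obtain ⟨n, hn⟩ := Nat.exists_eq_succ_of_ne_zero h0
  refine ⟨derivedSeries X n, derivedSeries_characteristic X n, Nat.find_min h (by omega),
    fun a ha b hb => ?_⟩
  have := Nat.find_spec h
  rw [hn, derivedSeries_succ, Subgroup.commutator_eq_bot_iff_le_centralizer] at this
  exact (this ha b hb).symm

/-- Burnside's transfer theorem and the odd order theorem -/
theorem exists_abel (hA : A ≤ N) (hG : G ≤ Nr N) (h2 : IsPGroup 2 A)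
    (hc : ∀ a ∈ A, ∀ b ∈ A, a * b = b * a) (hN : N ⊓ Nr A ≤ A) :
    N ≤ A ∨ ∃ B ≤ N, B ≠ ⊥ ∧ (∀ a ∈ B, ∀ b ∈ B, a * b = b * a) ∧ (∀ b ∈ B, Odd (orderOf b)) ∧
      G ≤ Nr B := by
  have h2' : IsPGroup 2 (A.subgroupOf N) := h2.of_equiv (Subgroup.subgroupOfEquivOfLe hA).symm
  have hn : Nr (A.subgroupOf N) ≤ A.subgroupOf N := fun x hx => hN ⟨x.2, mem_Nr fun y hy =>
    Nr_conj hx (a := ⟨y, hA hy⟩) hy⟩
  obtain ⟨S, hS⟩ := h2'.exists_le_sylow
  have e : A.subgroupOf N = S := by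
    by_contra hne
    have := S.2.isNilpotent
    have h1 : (A.subgroupOf N).subgroupOf S < ⊤ := by
      rw [lt_top_iff_ne_top, Ne, Subgroup.subgroupOf_eq_top]
      exact fun h => hne (le_antisymm hS h)
    obtain ⟨x, hx, hx'⟩ := SetLike.exists_of_lt (normalizerCondition_of_isNilpotent _ h1)
    exact hx' (hn (mem_Nr fun y hy => Nr_conj hx (a := ⟨y, hS hy⟩) hy))
  have hP : Nr (S : Subgroup N) ≤ Subgroup.centralizer (S : Set N) := by
    have : (S : Set N) = A.subgroupOf N := by rw [e]; rfl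
    rw [← e, this]
    exact fun x hx y hy => Subtype.ext (hc _ hy _ (hn hx))
  have hK := MonoidHom.ker_transferSylow_isComplement' S hP
  set K := (MonoidHom.transferSylow S hP).ker
  have hodd : Odd (Nat.card K) := by
    rw [← hK.index_eq_card]
    exact Nat.odd_iff.2 (by have := S.not_dvd_index; omega)
  have hmem : ∀ x : N, Odd (orderOf x) → x ∈ K := fun x hx => by
    obtain ⟨k, hk⟩ := S.2.exists_card_eq
    have h1 := K.pow_index_mem x
    rw [hK.symm.index_eq_card, hk] at h1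
    obtain ⟨m, hm⟩ := exists_pow_eq_self_of_coprime (x := x) (n := 2 ^ k)
      ((Nat.coprime_two_left.2 hx).pow_left k)
    exact hm ▸ K.pow_mem h1 m
  have ho : ∀ x ∈ K.map N.subtype, Odd (orderOf x) := fun x hx =>
    hodd.of_dvd_nat (by
      rw [← Subgroup.card_subtype]; exact Subgroup.orderOf_dvd_natCard _ hx)
  by_cases h0 : K = ⊥
  · left
    rw [h0, Subgroup.isComplement'_bot_left, ← e, Subgroup.subgroupOf_eq_top] at hK
    exact hK
  right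
  have : Nontrivial (K.map N.subtype) := (Subgroup.nontrivial_iff_ne_bot _).2 (by
    rwa [Ne, Subgroup.map_eq_bot_iff_of_injective _ N.subtype_injective])
  have := H42.odd_order (G := K.map N.subtype) (by rwa [Subgroup.card_subtype])
  obtain ⟨B, hB, h1, h3⟩ := exists_char_comm (X := K.map N.subtype)
  refine ⟨B.map (Subgroup.subtype _), (Subgroup.map_subtype_le _).trans (Subgroup.map_subtype_le _),
    by rwa [Ne, Subgroup.map_eq_bot_iff_of_injective _ (Subgroup.subtype_injective _)], ?_,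
    fun b hb => ho b (Subgroup.map_subtype_le _ hb),
    le_trans (fun g hg => mem_Nr ?_) (H3.normalizer_le_normalizer_map_of_characteristic B)⟩
  · rintro _ ⟨a, ha, rfl⟩ _ ⟨b, hb, rfl⟩
    exact congrArg Subtype.val (h3 a ha b hb)
  · intro y hy
    refine ⟨⟨_, Nr_conj (hG hg) (Subgroup.map_subtype_le _ hy)⟩, hmem _ ?_, rfl⟩
    rw [← Subgroup.orderOf_coe, H83.orderOf_conj]
    exact ho y hy

/-! ### elementary abelian TI-subgroups -/

theorem comm_of_sq (h : ∀ a ∈ A, a * a = 1) (ha : a ∈ A) (hb : b ∈ A) : a * b = b * a := by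
  rw [← inv_eq_of_mul_eq_one_right (h _ (mul_mem ha hb)), mul_inv_rev,
    inv_eq_of_mul_eq_one_right (h _ ha), inv_eq_of_mul_eq_one_right (h _ hb)]

theorem card_le_sq (h : ∀ a ∈ A, a * a = 1) (hb : b ∈ Nr A) (bb : b * b = 1) :
    Nat.card A ≤ Nat.card ↥(A ⊓ Subgroup.centralizer {b}) ^ 2 := by
  let f : A →* A := MonoidHom.mk' (fun a => ⟨a * (b * a * b⁻¹), mul_mem a.2 (Nr_conj hb a.2)⟩)
    fun a c => Subtype.ext (by
      have := comm_of_sq h c.2 (Nr_conj hb a.2)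
      simp only [Subgroup.coe_mul]
      rw [← conj_mul, mul_assoc a.1, ← mul_assoc c.1, this]; group)
  have h1 : f.ker ≤ (A ⊓ Subgroup.centralizer {b}).subgroupOf A := fun a ha => by
    refine ⟨a.2, Subgroup.mem_centralizer_singleton_iff.2 ?_⟩
    have e : a.1 * (b * a * b⁻¹) = 1 := congrArg Subtype.val ha
    rw [← h _ a.2, mul_right_inj, mul_inv_eq_iff_eq_mul] at e
    exact e.symm
  have h2 : f.range ≤ (A ⊓ Subgroup.centralizer {b}).subgroupOf A := by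
    rintro _ ⟨a, rfl⟩
    refine ⟨(f a).2, Subgroup.mem_centralizer_singleton_iff.2 ?_⟩
    change a.1 * (b * a * b⁻¹) * b = b * (a * (b * a * b⁻¹))
    nth_rw 2 [comm_of_sq h a.2 (Nr_conj hb a.2)]
    rw [inv_eq_of_mul_eq_one_right bb]
    simp only [← mul_assoc, bb, one_mul]
    rw [mul_assoc _ b b, bb, mul_one]
  rw [← Nat.card_congr (Subgroup.subgroupOfEquivOfLe (inf_le_left (a := A))).toEquiv,
    Subgroup.card_eq_card_quotient_mul_card_subgroup f.ker,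
    Nat.card_congr (QuotientGroup.quotientKerEquivRange f).toEquiv, sq]
  exact Nat.mul_le_mul (Subgroup.card_le_of_le h2) (Subgroup.card_le_of_le h1)

/-- an elementary abelian trivial intersection subgroup -/
structure TI (G A : Subgroup Γ) : Prop where
  le : A ≤ G
  sq : ∀ a ∈ A, a * a = 1
  ti : ∀ g ∈ G, ∀ a ∈ A, a ≠ 1 → g * a * g⁻¹ ∈ A → g ∈ Nr A

/-- strong closure -/
def SC (G A : Subgroup Γ) : Prop := ∀ g ∈ G, ∀ a ∈ A, g * a * g⁻¹ ∈ Nr A → g * a * g⁻¹ ∈ A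

/-- the conjugate subgroup -/
def cj (g : Γ) (A : Subgroup Γ) : Subgroup Γ := A.comap (MulAut.conj g⁻¹).toMonoidHom

theorem mem_cj : a ∈ cj g A ↔ g⁻¹ * a * g ∈ A := by simp [cj]

theorem conj_mem_cj : g * a * g⁻¹ ∈ cj g A ↔ a ∈ A := by simp [mem_cj, mul_assoc]

theorem card_cj : Nat.card (cj g A) = Nat.card A :=
  Nat.card_congr ((MulAut.conj g⁻¹).toEquiv.subtypeEquiv fun _ => Iff.rfl)

theorem mem_Nr_cj : s ∈ Nr (cj g A) ↔ g⁻¹ * s * g ∈ Nr A := by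
  refine ⟨fun h => mem_Nr fun y hy => ?_, fun h => mem_Nr fun y hy => ?_⟩
  · simpa [mul_assoc] using mem_cj.1 (Nr_conj h (conj_mem_cj.2 hy))
  · simpa [mul_assoc, mem_cj] using Nr_conj h (mem_cj.1 hy)

theorem TI.cen (h : TI G A) (hs : s ∈ G) (ha : a ∈ A) (h1 : a ≠ 1) (e : s * a = a * s) :
    s ∈ Nr A := h.ti s hs a ha h1 (by rwa [e, mul_inv_cancel_right])

theorem TI.cj (h : TI G A) (hg : g ∈ G) : TI G (cj g A) where
  le a ha := by simpa [mul_assoc] using mul_mem (mul_mem hg (h.le (mem_cj.1 ha))) (inv_mem hg)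
  sq a ha := by simpa [mul_assoc, conj_eq_one_iff] using congrArg (g * · * g⁻¹) (h.sq _ (mem_cj.1 ha))
  ti s hs a ha h1 e := mem_Nr_cj.2 (h.ti _ (mul_mem (mul_mem (inv_mem hg) hs) hg) _ (mem_cj.1 ha)
    (fun e' => h1 (by simpa [mul_assoc] using congrArg (g * · * g⁻¹) e'))
    (by simpa [mul_assoc] using mem_cj.1 e))

theorem TI.inf (h : TI G A) (hg : g ∈ G) (hg' : g ∉ Nr A) (ha : a ∈ A) (hb : a ∈ Cl.cj g A) :
    a = 1 := by
  by_contra h1
  exact hg' ((Nr A).inv_mem_iff.1 (h.ti _ (inv_mem hg) a ha h1 (by simpa using mem_cj.1 hb)))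

theorem comm_mem_right (hs : s ∈ Nr A) (ha : a ∈ A) : ⁅s, a⁆ ∈ A :=
  mul_mem (Nr_conj hs ha) (inv_mem ha)

theorem comm_mem_left (hs : s ∈ Nr A) (ha : a ∈ A) : ⁅a, s⁆ ∈ A := by
  rw [← commutatorElement_inv]; exact inv_mem (comm_mem_right hs ha)

/-- the configuration when strong closure fails -/
theorem TI.pair (h : TI G A) (hg : g ∈ G) (hg' : g ∉ Nr A) (hb : b ∈ Cl.cj g A) (h1 : b ≠ 1)
    (hb' : b ∈ Nr A) : ∃ D ≤ A, ∃ B ≤ Cl.cj g A ⊓ Nr A, Nat.card A ≤ Nat.card D ^ 2 ∧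
      Nat.card A ≤ Nat.card B ^ 2 ∧ (∀ a ∈ D, ∀ b ∈ B, a * b = b * a) ∧
      (∀ b ∈ B, b ≠ 1 → ∀ a ∈ A, a * b = b * a → a ∈ D) ∧
      ∀ b ∈ B, b ≠ 1 → ∀ s ∈ G, s * b = b * s → ∀ b' ∈ B, ⁅s, b'⁆ ∈ A → ⁅s, b'⁆ = 1 := by
  have h' := h.cj hg
  have k1 : ∀ b ∈ Cl.cj g A, b ≠ 1 → A ⊓ Subgroup.centralizer {b} ≤ A ⊓ Nr (Cl.cj g A) :=
    fun b hb h1 a ha => ⟨ha.1, h'.cen (h.le ha.1) hb h1 (Subgroup.mem_centralizer_singleton_iff.1 ha.2)⟩
  have c1 := (card_le_sq h.sq hb' (h'.sq b hb)).trans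
    (Nat.pow_le_pow_left (Subgroup.card_le_of_le (k1 b hb h1)) 2)
  refine ⟨_, inf_le_left, _, le_rfl, c1, ?_, fun a ha b hb => ?_,
    fun b hb h1 a ha e => k1 b hb.1 h1 ⟨ha, Subgroup.mem_centralizer_singleton_iff.2 e⟩,
    fun b hb h1 s hs e b' hb' e' => h.inf hg hg' e' (comm_mem_right (h'.cen hs hb.1 h1 e) hb'.1)⟩
  · by_cases h0 : A ⊓ Nr (Cl.cj g A) = ⊥
    · rw [h0, Subgroup.card_bot] at c1
      exact c1.trans (Nat.pow_le_pow_left Nat.card_pos 2)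
    obtain ⟨a, ha, h2⟩ := (Subgroup.bot_or_exists_ne_one _).resolve_left h0
    rw [← card_cj (g := g)]
    refine (card_le_sq h'.sq ha.2 (h.sq a ha.1)).trans (Nat.pow_le_pow_left
      (Subgroup.card_le_of_le fun c hc => ?_) 2)
    exact ⟨hc.1, h.cen (h'.le hc.1) ha.1 h2 (Subgroup.mem_centralizer_singleton_iff.1 hc.2)⟩
  · exact commutatorElement_eq_one_iff_mul_comm.1
      (h.inf hg hg' (comm_mem_left hb.2 ha.1) (comm_mem_right ha.2 hb.1))

/-- the conjugates of non-trivial elements of `A` -/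
def Cls (G A : Subgroup Γ) (t : Γ) : Prop := ∃ h ∈ G, ∃ a ∈ A, a ≠ 1 ∧ t = h * a * h⁻¹

theorem Cls.conj {t : Γ} (h : Cls G A t) (hg : g ∈ G) : Cls G A (g * t * g⁻¹) := by
  obtain ⟨k, hk, a, ha, h1, rfl⟩ := h
  exact ⟨g * k, mul_mem hg hk, a, ha, h1, by group⟩

theorem Cls.of_mem (ha : a ∈ A) (h1 : a ≠ 1) : Cls G A a := ⟨1, one_mem _, a, ha, h1, by simp⟩

theorem Cls.of_cj (hg : g ∈ G) (ha : a ∈ cj g A) (h1 : a ≠ 1) : Cls G A a :=
  ⟨g, hg, _, mem_cj.1 ha, fun e => h1 (by simpa [mul_assoc] using congrArg (g * · * g⁻¹) e),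
    by group⟩

theorem TI.cls_mem (h : TI G A) {t : Γ} (ht : Cls G A t) : t ∈ G ∧ t * t = 1 := by
  obtain ⟨k, hk, a, ha, -, rfl⟩ := ht
  exact ⟨mul_mem (mul_mem hk (h.le ha)) (inv_mem hk), by rw [conj_mul, h.sq a ha]; simp⟩

theorem TI.mem_of_comm (h : TI G A) (hS : SC G A) (hg : g ∈ G) {t : Γ} (ht : Cls G A t)
    (ha : a ∈ Cl.cj g A) (h1 : a ≠ 1) (e : t * a = a * t) : t ∈ Cl.cj g A := by
  have h2 := mem_Nr_cj.1 ((h.cj hg).cen (h.cls_mem ht).1 ha h1 e)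
  obtain ⟨k, hk, c, hc, -, e'⟩ := ht.conj (inv_mem hg)
  rw [inv_inv] at e'
  rw [mem_cj, e']
  exact hS k hk c hc (e' ▸ h2)

theorem mem_cj_one : a ∈ cj 1 A ↔ a ∈ A := by simp [mem_cj]

theorem TI.odd (h : TI G A) (hS : SC G A) (hg : g ∈ G) (hg' : g ∉ Nr A) (ha : a ∈ A) (h1 : a ≠ 1)
    (hb : b ∈ Cl.cj g A) (h2 : b ≠ 1) : Odd (orderOf (a * b)) := by
  rw [← Nat.not_even_iff_odd]
  intro he
  have aa := h.sq a ha
  have bb := (h.cj hg).sq b hb
  obtain ⟨z1, z2, z3⟩ := H83.half_pow_spec aa bb (orderOf_pos _).ne' he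
  have hu : a * b ∈ G := mul_mem (h.le ha) ((h.cj hg).le hb)
  have ca : Cls G A a := .of_mem ha h1
  have cb : Cls G A b := .of_cj hg hb h2
  have i1 : ∀ k : ℕ, a * ((a * b) ^ k)⁻¹ = (a * b) ^ k * a := fun k => by
    rw [← inv_pow, ← H83.left_inverts_mul aa bb, conj_pow, ← mul_assoc, ← mul_assoc, aa, one_mul,
      inv_eq_of_mul_eq_one_right aa]
  have i2 : ∀ k : ℕ, b * ((a * b) ^ k)⁻¹ = (a * b) ^ k * b := fun k => by
    rw [← inv_pow, ← H83.right_inverts_mul aa bb, conj_pow, ← mul_assoc, ← mul_assoc, bb, one_mul,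
      inv_eq_of_mul_eq_one_right bb]
  have key : ∀ m : ℕ, Cls G A ((a * b) ^ m * a) ∧ Cls G A ((a * b) ^ m * b) := fun m => by
    obtain ⟨l, rfl | rfl⟩ := Nat.even_or_odd' m
    · have e1 := ca.conj (pow_mem hu l)
      have e2 := cb.conj (pow_mem hu l)
      rw [mul_assoc, i1, ← mul_assoc, ← pow_add, ← two_mul] at e1
      rw [mul_assoc, i2, ← mul_assoc, ← pow_add, ← two_mul] at e2
      exact ⟨e1, e2⟩
    · have e1 := ca.conj (pow_mem hu l)
      have e2 := (cb.conj (h.le ha)).conj (pow_mem hu l)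
      rw [mul_assoc, i1, ← mul_assoc, ← pow_add, ← two_mul] at e1
      rw [inv_eq_of_mul_eq_one_right aa, mul_assoc, mul_assoc (a * b), i1, ← mul_assoc, ← mul_assoc,
        ← pow_succ, ← pow_add, show l + 1 + l = 2 * l + 1 by ring] at e2
      exact ⟨e2, by rwa [pow_succ, mul_assoc, mul_assoc a, bb, mul_one]⟩
  set z := (a * b) ^ (orderOf (a * b) / 2)
  have m1 := h.mem_of_comm hS (one_mem _) (key _).1 (mem_cj_one.2 ha) h1
    (by rw [← mul_assoc, ← z2.eq])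
  have m2 := h.mem_of_comm hS hg (key _).2 hb h2 (by rw [← mul_assoc, ← z3.eq])
  rw [mem_cj_one] at m1
  exact H83.ne_one_of_orderOf_two z1 (h.inf hg hg' ((A.mul_mem_cancel_right ha).1 m1)
    (((Cl.cj g A).mul_mem_cancel_right hb).1 m2))

/-- a sharply transitive set -/
theorem TI.sharp (h : TI G A) (hS : SC G A) (hg : g ∈ G) (hg' : g ∉ Nr A) :
    ∃ S : Set Γ, S ⊆ G ⊓ Nr A ∧ ∀ a ∈ A, a ≠ 1 → ∀ b ∈ A, b ≠ 1 → ∃! s, s ∈ S ∧ s * a * s⁻¹ = b := by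
  refine ⟨{s | s ∈ G ⊓ Nr A ∧ Cls G A (g * s)}, fun _ hs => hs.1, fun a ha h1 c hc h2 => ?_⟩
  have hb : g * c * g⁻¹ ∈ Cl.cj g A := conj_mem_cj.2 hc
  have h3 : g * c * g⁻¹ ≠ 1 := by simpa [conj_eq_one_iff]
  obtain ⟨b, hbd⟩ : ∃ b, b = g * c * g⁻¹ := ⟨_, rfl⟩
  rw [← hbd] at hb h3
  have aa := h.sq a ha
  have bb := (h.cj hg).sq b hb
  have hu : a * b ∈ G := mul_mem (h.le ha) ((h.cj hg).le hb)
  obtain ⟨k, hk⟩ := h.odd hS hg hg' ha h1 hb h3
  have hk' : (a * b) ^ (2 * k + 1) = 1 := hk ▸ pow_orderOf_eq_one _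
  have hk2 : (a * b) ^ (2 * k) = (a * b)⁻¹ := eq_inv_of_mul_eq_one_left (pow_succ (a * b) _ ▸ hk')
  have i1 : ∀ k : ℕ, a * ((a * b) ^ k)⁻¹ = (a * b) ^ k * a := fun k => by
    rw [← inv_pow, ← H83.left_inverts_mul aa bb, conj_pow, ← mul_assoc, ← mul_assoc, aa, one_mul,
      inv_eq_of_mul_eq_one_right aa]
  set v := (a * b) ^ (k * (k + 1))
  have hv : v ∈ G := pow_mem hu _
  have t0 : v * a * v⁻¹ = (a * b) ^ k * a := by
    rw [mul_assoc, i1, ← mul_assoc, ← pow_add,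
      show k * (k + 1) + k * (k + 1) = (2 * k + 1) * k + k by ring, pow_add, pow_mul, hk']
    simp
  have c0 : Cls G A ((a * b) ^ k * a) := t0 ▸ (Cls.of_mem ha h1).conj hv
  have e0 : (a * b) ^ k * a * a * ((a * b) ^ k * a)⁻¹ = b := by
    rw [inv_eq_of_mul_eq_one_right (h.cls_mem c0).2, mul_assoc _ a a, aa, mul_one, ← mul_assoc,
      ← pow_add, ← two_mul, hk2, mul_inv_rev,
      inv_mul_cancel_right, inv_eq_of_mul_eq_one_right bb]
  have e1 : g⁻¹ * ((a * b) ^ k * a) * a * (g⁻¹ * ((a * b) ^ k * a))⁻¹ = c := by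
    rw [mul_inv_rev, mul_assoc g⁻¹, mul_assoc g⁻¹, ← mul_assoc _ _⁻¹, e0, hbd]; group
  have m0 := mul_mem (inv_mem hg) (h.cls_mem c0).1
  refine ⟨g⁻¹ * ((a * b) ^ k * a), ⟨⟨⟨m0, h.ti _ m0 a ha h1 (e1 ▸ hc)⟩, by simpa using c0⟩, e1⟩, ?_⟩
  rintro s ⟨⟨-, ct⟩, e2⟩
  rw [eq_inv_mul_iff_mul_eq]
  set t := g * s
  have tt := inv_eq_of_mul_eq_one_right (h.cls_mem ct).2
  have e3 : t * a * t⁻¹ = b := by rw [hbd, ← e2]; simp only [t]; group
  have e4 : t * b * t⁻¹ = a := by rw [← e3, tt]; simp only [← mul_assoc, (h.cls_mem ct).2]; simp [mul_assoc, (h.cls_mem ct).2]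
  have e5 : t * ((a * b) ^ k * a) * t⁻¹ = (a * b) ^ k * a := by
    rw [← conj_mul, ← conj_pow, ← conj_mul, e3, e4, ← i1, ← mul_left_inj ((a * b) ^ k),
      inv_mul_cancel_right, mul_pow_mul, mul_assoc, ← pow_add, ← two_mul,
      hk2, mul_inv_rev, mul_inv_cancel_left, inv_eq_of_mul_eq_one_right aa]
  have hv0 : (a * b) ^ k * a ∈ Cl.cj v A := t0 ▸ conj_mem_cj.2 ha
  have n0 : (a * b) ^ k * a ≠ 1 := t0 ▸ by simpa [conj_eq_one_iff]
  have m1 := mul_mem (h.mem_of_comm hS hv ct hv0 n0 (mul_inv_eq_iff_eq_mul.1 e5)) hv0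
  set r := (a * b) ^ k * a
  have rr := inv_eq_of_mul_eq_one_right (h.cls_mem c0).2
  by_contra hne
  have n1 : t * r ≠ 1 := fun e => hne (by rw [← rr, eq_inv_of_mul_eq_one_left e])
  have e6 : r * b * r⁻¹ = a := by rw [← e0, rr]; simp only [← mul_assoc, (h.cls_mem c0).2]; simp [mul_assoc, (h.cls_mem c0).2]
  have m2 := h.mem_of_comm hS (one_mem _) (.of_cj hv m1 n1) (mem_cj_one.2 ha) h1
    (mul_inv_eq_iff_eq_mul.1 (by rw [mul_inv_rev, mul_assoc t, mul_assoc t, ← mul_assoc _ _⁻¹, e0,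
      ← mul_assoc, e4]))
  have m3 := h.mem_of_comm hS hg (.of_cj hv m1 n1) hb h3
    (mul_inv_eq_iff_eq_mul.1 (by rw [mul_inv_rev, mul_assoc t, mul_assoc t, ← mul_assoc _ _⁻¹, e6,
      ← mul_assoc, e3]))
  exact n1 (h.inf hg hg' (mem_cj_one.1 m2) m3)

end H60.Cl
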