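import Cfsg.Agent.H60.PauGen
import Cfsg.Agent.H60.PauGrp

/-! Pauli groups modulo scalars: self-normalising case, strong closure. -/

set_option autoImplicit false
set_option linter.unusedSectionVars false

namespace H60.Cl

open scoped commutatorElement

variable {K E : Type*} [Field K] [Ring E] [Algebra K E] [Finite E]
variable {τ : E →ₗ[K] K} {P G N D : Subgroup Eˣ} {x y z d g j u v b : Eˣ}

variable (K E) in
/-- reduction modulo scalars -/
abbrev pr : Eˣ →* Eˣ ⧸ Zs K E := QuotientGroup.mk' (Zs K E)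

theorem pr_eq_one : pr K E x = 1 ↔ x ∈ Zs K E := QuotientGroup.eq_one_iff x

theorem pr_mem (h : Zs K E ≤ P) : pr K E x ∈ P.map (pr K E) ↔ x ∈ P := by
  rw [← Subgroup.mem_comap, Subgroup.comap_map_eq_self (by rwa [QuotientGroup.ker_mk'])]

theorem pr_Nr (hg : g ∈ Nm P) : pr K E g ∈ Nr (P.map (pr K E)) := mem_Nr <| by
  rintro _ ⟨y, hy, rfl⟩
  exact ⟨_, Nm_conj hg hy, by simp⟩

theorem Nm_of_pr (h : Zs K E ≤ P) (hg : pr K E g ∈ Nr (P.map (pr K E))) : g ∈ Nm P :=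
  mem_Nm fun y hy => (pr_mem h).1 (by simpa using Nr_conj hg ((pr_mem h).2 hy))

theorem pr_comm : pr K E x * pr K E y = pr K E y * pr K E x ↔ ⁅x, y⁆ ∈ Zs K E := by
  rw [← pr_eq_one, map_commutatorElement, commutatorElement_eq_one_iff_mul_comm]

variable (K) in
/-- the order modulo scalars -/
noncomputable def rk (D : Subgroup Eˣ) : ℕ := (Zs K E).relIndex D

theorem card_pr : Nat.card (D.map (pr K E)) = rk K D := by
  rw [← Subgroup.relIndex_ker, QuotientGroup.ker_mk', rk]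

theorem rk_eq_one : rk K D = 1 ↔ D ≤ Zs K E := Subgroup.relIndex_eq_one

theorem rk_Ce (hD : Zs K E ≤ D) (h : ∀ w ∈ D, w * b = b * w ∨ w * b = -(b * w)) :
    rk K D ≤ 2 * rk K (Ce D b) := by
  have h1 : (Ce D b).relIndex D ∣ 2 := by
    rw [Subgroup.relIndex, Subgroup.index_dvd_two_iff]
    by_cases h0 : ∃ a ∈ D, a * b = -(b * a)
    · obtain ⟨a, ha, e⟩ := h0
      exact ⟨⟨a, ha⟩, fun w => (h w w.2).symm.imp (fun e' => mem_Ce.2 ⟨mul_mem w.2 ha,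
        (aa (anti_symm e') (anti_symm e)).symm⟩) fun e' => mem_Ce.2 ⟨w.2, e'⟩⟩
    · exact ⟨1, fun w => Or.inr (mem_Ce.2 ⟨w.2, (h w w.2).resolve_right fun e => h0 ⟨_, w.2, e⟩⟩)⟩
  rw [rk, ← Subgroup.relIndex_mul_relIndex (Zs K E) (Ce D b) D
    (fun z hz => mem_Ce.2 ⟨hD hz, Zs_comm hz b⟩) Ce_le, mul_comm]
  exact Nat.mul_le_mul_right _ (Nat.le_of_dvd two_pos h1)

theorem Zs_le_Ce (hD : Zs K E ≤ D) : Zs K E ≤ Ce D b := fun _ hz => mem_Ce.2 ⟨hD hz, Zs_comm hz b⟩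

theorem Pau.rk_P1 (hP : Pau K P) (hd : d ∈ P) (hx : x ∈ P) : rk K P ≤ 4 * rk K (P1 P d x) := by
  have h1 := rk_Ce hP.sc_le fun w hw => hP.comm w hw d hd
  have h2 := rk_Ce (Zs_le_Ce (b := d) hP.sc_le) fun w hw => hP.comm w (Ce_le hw) x hx
  rw [P1]; omega

theorem not_le_of_rk (h : 1 < rk K D) : ¬ D ≤ Zs K E := fun e => h.ne' (rk_eq_one.2 e)

/-! ### invariant subspaces -/

theorem Pau.nondeg (hP : Pau K P) (h : Amb τ) {a : E} (ha : a ∈ Al K P)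
    (h0 : ∀ y ∈ P, τ (a * ↑y⁻¹) = 0) : a = 0 := by
  classical
  have := Fintype.ofFinite P
  have key : ∑ y : P, τ (a * ↑(y : Eˣ)⁻¹) • (y.1 : E) = (Nat.card (Zs K E) : K) • a := by
    refine Al_ind (p := fun a => ∑ y : P, τ (a * ↑(y : Eˣ)⁻¹) • (y.1 : E) =
      (Nat.card (Zs K E) : K) • a) ha (fun w hw => ?_) (by simp) (fun a b _ _ h1 h2 => ?_)
      fun c a _ h1 => ?_
    · rw [← Fintype.sum_equiv (Equiv.mulRight (⟨w, hw⟩ : P))
        (fun z : P => if z ∈ (Zs K E).subgroupOf P then (w : E) else 0) _ fun z => ?_]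
      · rw [← Finset.sum_filter, Finset.sum_const, Nat.cast_smul_eq_nsmul,
          ← Nat.card_congr (Subgroup.subgroupOfEquivOfLe hP.sc_le).toEquiv, Nat.card_eq_fintype_card,
          Fintype.card_subtype]
      · simp only [Equiv.coe_mulRight, Subgroup.coe_mul, mul_inv_rev, Units.val_mul,
          Units.mul_inv_cancel_left]
        split_ifs with hz
        · obtain ⟨c, hc⟩ := hz
          change sc K E c = z at hc
          rw [← hc, ← map_inv, h.sc, ← Units.val_mul, sc_mul_val, smul_smul]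
          simp
        · rw [hP.tr_eq_zero h (inv_mem z.2) (fun e => hz (inv_mem_iff.1 e)), zero_smul]
    · simp only [add_mul, map_add, add_smul, Finset.sum_add_distrib, h1, h2, smul_add]
    · simp only [smul_mul_assoc, map_smul, smul_eq_mul, mul_smul, ← Finset.smul_sum, h1]
      rw [smul_comm]
  rw [Finset.sum_eq_zero fun y _ => by rw [h0 y y.2, zero_smul]] at key
  exact (smul_eq_zero.1 key.symm).resolve_left (hP.card_ne_zero h hP.sc_le)

theorem Pau.mem_of_inv (hP : Pau K P) (h : Amb τ) {B : Submodule K E}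
    (hB : ∀ w ∈ P, ∀ a ∈ B, w * a * ↑w⁻¹ ∈ B) {a : E} (ha : a ∈ B) (ha' : a ∈ Al K P) (hy : y ∈ P)
    (h0 : τ (a * ↑y⁻¹) ≠ 0) : (y : E) ∈ B := by
  have := Fintype.ofFinite P
  have h1 := congrArg (· * (y : E)) (hP.avg h (mul_mem ha' (val_mem_Al (inv_mem hy))))
  simp only [smul_mul_assoc, one_mul, Finset.sum_mul] at h1
  refine (B.smul_mem_iff (mul_ne_zero (hP.card_ne_zero h le_rfl) h0)).1 (h1 ▸ B.sum_mem fun w _ => ?_)
  have e : ∀ s : Eˣ, y⁻¹ * w.1⁻¹ * y = s →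
      w.1.val * (a * y⁻¹.val) * w.1⁻¹.val * y.val = w.1.val * a * s.val := fun s hs => by simp only [← hs, Units.val_mul, mul_assoc]
  rcases hP.conj_eq (inv_mem hy) (inv_mem w.2) with e' | e' <;> rw [inv_inv] at e' <;> rw [e _ e']
  · exact hB _ w.2 a ha
  · rw [Units.val_neg, mul_neg]; exact B.neg_mem (hB _ w.2 a ha)

theorem Pau.exists_mem_of_inv (hP : Pau K P) (h : Amb τ) {B : Submodule K E}
    (hB : ∀ w ∈ P, ∀ a ∈ B, w * a * ↑w⁻¹ ∈ B) {a : E} (ha : a ∈ B) (ha' : a ∈ Al K P)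
    (h1 : a ≠ τ a • 1) : ∃ y ∈ P, y ∉ Zs K E ∧ (y : E) ∈ B := by
  by_contra hn
  push Not at hn
  refine h1 (sub_eq_zero.1 (hP.nondeg h (sub_mem ha' (Subalgebra.smul_mem _ (one_mem _) _))
    fun y hy => ?_))
  rw [sub_mul, smul_mul_assoc, one_mul, map_sub, map_smul, smul_eq_mul]
  by_cases hz : y ∈ Zs K E
  · obtain ⟨c, rfl⟩ := hz
    rw [← map_inv, h.sc, sc_val, ← Algebra.commutes, ← Algebra.smul_def, map_smul, smul_eq_mul]
    ring
  · rw [hP.tr_eq_zero h (inv_mem hy) (mt inv_mem_iff.1 hz), mul_zero, sub_zero]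
    by_contra h0
    exact hn y hy hz (hP.mem_of_inv h hB ha ha' hy h0)

theorem Al_conj (hg : g ∈ Nm D) {a : E} (ha : a ∈ Al K D) : g * a * ↑g⁻¹ ∈ Al K D :=
  Al_ind (p := fun a : E => g * a * ↑g⁻¹ ∈ Al K D) ha (fun _ hx => val_mem_Al (Nm_conj hg hx)) (by simp)
    (fun _ _ _ _ h1 h2 => by rw [mul_add, add_mul]; exact add_mem h1 h2)
    fun c _ _ h => by rw [mul_smul_comm, smul_mul_assoc]; exact Subalgebra.smul_mem _ h c

theorem Pau.sq_pr (hP : Pau K P) : ∀ a ∈ P.map (pr K E), a * a = 1 := by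
  rintro _ ⟨a, ha, rfl⟩
  rw [← map_mul, pr_eq_one]; exact hP.sq a ha

theorem Pau.pgroup (hP : Pau K P) : IsPGroup 2 (P.map (pr K E)) :=
  fun a => ⟨1, Subtype.ext (by rw [pow_one, _root_.sq]; exact hP.sq_pr a a.2)⟩

theorem Pau.rk_pow (hP : Pau K P) : ∃ k, rk K P = 2 ^ k := 
  card_pr (K := K) (D := P) ▸ hP.pgroup.exists_card_eq

theorem Pau.finrank_Al (hP : Pau K P) (h : Amb τ) : Module.finrank K (Al K P) = rk K P := by
  classical
  have := Fintype.ofFinite (P.map (pr K E))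
  choose f f1 f2 using fun a : P.map (pr K E) => a.2
  have hl : LinearIndependent K fun a => (f a : E) := by
    refine Fintype.linearIndependent_iff.2 fun c hc a => ?_
    have := congrArg (fun b => τ (b * ↑(f a)⁻¹)) hc
    simp only [Finset.sum_mul, map_sum, smul_mul_assoc, map_smul, zero_mul, map_zero] at this
    rw [Finset.sum_eq_single a (fun b _ hb => by
      rw [← Units.val_mul, hP.tr_eq_zero h (mul_mem (f1 b) (inv_mem (f1 a))) fun e => hb (by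
        rw [← pr_eq_one, map_mul, map_inv, f2, f2, mul_inv_eq_one] at e
        exact Subtype.ext e), smul_zero]) (by simp)] at this
    simpa [h.one] using this
  have hs : Submodule.span K (Set.range fun a => (f a : E)) = (Al K P).toSubmodule := by
    refine le_antisymm (Submodule.span_le.2 (by rintro _ ⟨a, rfl⟩; exact val_mem_Al (f1 a)))
      (Submodule.span_le.2 ?_)
    rintro _ ⟨y, hy, rfl⟩
    obtain ⟨c, hc⟩ : y * (f ⟨_, y, hy, rfl⟩)⁻¹ ∈ Zs K E := by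
      rw [← pr_eq_one, map_mul, map_inv, f2, mul_inv_cancel]
    rw [eq_mul_of_mul_inv_eq hc.symm, sc_mul_val]
    exact Submodule.smul_mem _ _ (Submodule.subset_span ⟨_, rfl⟩)
  rw [← card_pr, Nat.card_eq_fintype_card, ← finrank_span_eq_card hl, hs]
  rfl

theorem Pau.comm_of_odd (hP : Pau K P) (h : Amb τ) (hx : x ∈ Un K P) (hy : y ∈ Un K P)
    (hc : ⁅x, y⁆ ∈ Zs K E) (ho : Odd (orderOf (pr K E y))) : x * y = y * x := by
  have h1 : y ^ orderOf (pr K E y) ∈ Zs K E := by rw [← pr_eq_one, map_pow, pow_orderOf_eq_one]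
  have e : x * y * x⁻¹ = ⁅x, y⁆ * y := by rw [commutatorElement_def, inv_mul_cancel_right]
  have h3 := congrArg (· ^ orderOf (pr K E y)) e
  simp only [conj_pow] at h3
  rw [← Zs_comm h1, mul_inv_cancel_right, Commute.mul_pow (Zs_comm hc y), right_eq_mul] at h3
  obtain ⟨c, hc⟩ := hc
  have n1 : ∀ {x : Eˣ} (hx : x ∈ Un K P), Algebra.norm K (⟨x, hx.1⟩ : Al K P) ≠ 0 := fun {x} hx =>
    left_ne_zero_of_mul_eq_one (b := Algebra.norm K (⟨_, hx.2⟩ : Al K P)) (by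
      rw [← map_mul, ← map_one (Algebra.norm K (S := Al K P))]; congr 1; exact Subtype.ext x.mul_inv)
  have e2 : (⟨x, hx.1⟩ : Al K P) * ⟨y, hy.1⟩ = algebraMap K _ c * (⟨y, hy.1⟩ * ⟨x, hx.1⟩) :=
    Subtype.ext (congrArg Units.val (show x * y = sc K E c * (y * x) by
      rw [hc, commutatorElement_def]; group))
  have e3 := congrArg (Algebra.norm K) e2
  obtain ⟨k, hk⟩ := hP.rk_pow
  rw [map_mul, map_mul, map_mul, Algebra.norm_algebraMap, hP.finrank_Al h, hk, mul_comm,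
    eq_comm, mul_left_eq_self₀, ← Units.val_pow_eq_pow_val, Units.val_eq_one] at e3
  have e4 : ⁅x, y⁆ ^ 2 ^ k = 1 := by
    rw [← hc, ← map_pow, e3.resolve_right (mul_ne_zero (n1 hy) (n1 hx)), map_one]
  have := (pow_gcd_eq_one.2 ⟨e4, h3⟩)
  rw [((Nat.coprime_two_left.2 ho).pow_left k).gcd_eq_one, pow_one] at this
  exact commutatorElement_eq_one_iff_mul_comm.1 this

/-- if the Pauli group is self-normalising in a normal subgroup, it is normal -/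
theorem Pau.le_Nm_of (hP : Pau K P) (h : Amb τ) (hGU : G ≤ Un K P) (hPG : P ≤ G) (hNG : N ≤ G)
    (hN : G ≤ Nm N) (hPN : P ≤ N ⊔ Zs K E) (h1 : N ⊓ Nm P ≤ P)
    (hy : ∀ y ∈ P, y ∉ Zs K E → ∃ g ∈ G, g * y * g⁻¹ * y = -(y * (g * y * g⁻¹))) : G ≤ Nm P := by
  have hZ := hP.sc_le.trans hPG
  have hle : P.map (pr K E) ≤ N.map (pr K E) := Subgroup.map_le_iff_le_comap.2 (by
    rwa [Subgroup.comap_map_eq, QuotientGroup.ker_mk'])
  rcases exists_abel (A := P.map (pr K E)) (N := N.map (pr K E)) (G := G.map (pr K E))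
    hle (by rintro _ ⟨g, hg, rfl⟩; exact pr_Nr (hN hg)) hP.pgroup
    (fun a ha b hb => comm_of_sq hP.sq_pr ha hb)
    (by rintro _ ⟨⟨n, hn, rfl⟩, e⟩; exact ⟨n, h1 ⟨hn, Nm_of_pr hP.sc_le e⟩, rfl⟩) with
    e | ⟨B, b1, b2, b3, b4, b5⟩
  · intro g hg
    refine Nm_of_pr hP.sc_le ?_
    rw [← le_antisymm e hle]
    exact pr_Nr (hN hg)
  exfalso
  have c1 : B.comap (pr K E) ≤ G := fun b hb =>
    (pr_mem hZ).1 (Subgroup.map_mono hNG (b1 hb))
  have c2 : G ≤ Nm (B.comap (pr K E)) := fun g hg => mem_Nm fun y hy => by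
    simpa using Nr_conj (b5 ⟨g, hg, rfl⟩) hy
  have c3 : ∀ a ∈ B.comap (pr K E), ∀ b ∈ B.comap (pr K E), a * b = b * a := fun a ha b hb =>
    hP.comm_of_odd h (hGU (c1 ha)) (hGU (c1 hb)) (pr_comm.1 (b3 _ ha _ hb)) (b4 _ hb)
  obtain ⟨a, ha, a1⟩ := (Subgroup.bot_or_exists_ne_one B).resolve_left b2
  obtain ⟨a, rfl⟩ := QuotientGroup.mk'_surjective _ a
  have := h.nontrivial
  obtain ⟨y, y1, y2, y3⟩ := hP.exists_mem_of_inv h (B := (Al K (B.comap (pr K E))).toSubmodule)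
    (fun w hw a ha => Al_conj (c2 (hPG hw)) ha) (val_mem_Al ha) (hGU (c1 ha)).1
    fun e => a1 (pr_eq_one.2 (mem_Zs_of_eq_smul e))
  obtain ⟨g, hg, e⟩ := hy y y1 y2
  refine h.not_anti (Units.ext ?_) e
  exact Al_comm (Al_conj (c2 hg) y3) fun b hb => (Al_comm y3 fun c hc => comm_val (c3 c hc b hb)).symm

/-! ### strong closure -/

theorem Pau.ti (hP : Pau K P) (hPG : P ≤ G)
    (h : ∀ g ∈ G, ∀ y ∈ P, y ∉ Zs K E → g * y * g⁻¹ ∈ P → g ∈ Nm P) :
    TI (G.map (pr K E)) (P.map (pr K E)) where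
  le := Subgroup.map_mono hPG
  sq := hP.sq_pr
  ti := by
    rintro _ ⟨g, hg, rfl⟩ _ ⟨a, ha, rfl⟩ h1 h2
    exact pr_Nr (h g hg a ha (mt pr_eq_one.2 h1) ((pr_mem hP.sc_le).1 (by simpa using h2)))

theorem Pau.sc (hP : Pau K P) (h : Amb τ) (hGU : G ≤ Un K P)
    (hT : TI (G.map (pr K E)) (P.map (pr K E))) (h16 : 16 ≤ rk K P)
    (hG : ∀ D ≤ P, Zs K E ≤ D → rk K P ≤ rk K D ^ 2 → ∀ b b' : Eˣ,
      (∀ w ∈ D, w * b = b * w ∨ w * b = -(b * w)) → (∀ w ∈ D, w * b' = b' * w ∨ w * b' = -(b' * w)) →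
      ∀ y ∈ D, y * b = b * y → y * b' = -(b' * y) →
      ∃ s ∈ G, s * b = b * s ∧ ⁅s, b'⁆ ∈ P ∧ ⁅s, b'⁆ ∉ Zs K E) (hPG : P ≤ G) :
    SC (G.map (pr K E)) (P.map (pr K E)) := by
  intro g hg a ha hn
  by_contra hn'
  obtain ⟨D, d1, B, b1, c1, c2, c3, c4, c5⟩ := hT.pair hg (fun e => hn' (Nr_conj e ha))
    (conj_mem_cj.2 ha) (fun e => hn' (e ▸ one_mem _)) hn
  obtain ⟨g, hg, rfl⟩ := hg
  have d2 : D.comap (pr K E) ≤ P := fun w hw => (pr_mem hP.sc_le).1 (d1 hw)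
  have d3 : Zs K E ≤ D.comap (pr K E) := fun w hw => by
    rw [Subgroup.mem_comap, pr_eq_one.2 hw]; exact one_mem _
  have d4 : rk K P ≤ rk K (D.comap (pr K E)) ^ 2 := by
    rwa [← card_pr, ← card_pr, Subgroup.map_comap_eq_self_of_surjective
      (QuotientGroup.mk'_surjective _)]
  have s1 : ∀ b, pr K E b ∈ B → ∀ w ∈ D.comap (pr K E), w * b = b * w ∨ w * b = -(b * w) :=
    fun b hb w hw => hP.anti_of_comm_mem h (d2 hw) (pr_comm.1 (c3 _ hw _ hb))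
  have s2 : ∀ b, pr K E b ∈ B → b ∉ Zs K E → ∃ w ∈ D.comap (pr K E), w * b = -(b * w) := by
    intro b hb h1
    have m1 : g⁻¹ * b * g ∈ P := (pr_mem hP.sc_le).1 (by simpa using mem_cj.1 (b1 hb).1)
    have m2 : b ∈ G := by simpa [mul_assoc] using mul_mem (mul_mem hg (hPG m1)) (inv_mem hg)
    have t0 : τ b = 0 := by
      have := h.conj g⁻¹ b
      rw [← this, ← Units.val_mul, ← Units.val_mul, inv_inv]
      exact hP.tr_eq_zero h m1 fun e => h1 (conj_mem_Zs.1 (by rwa [inv_inv]))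
    obtain ⟨w, hw, e⟩ := hP.exists_anti_of_tr h (hGU m2) (Nm_of_pr hP.sc_le (b1 hb).2) t0
    refine ⟨w, c4 _ hb (mt pr_eq_one.1 h1) _ ⟨w, hw, rfl⟩ (pr_comm.2 ?_), e⟩
    rw [commutatorElement_def, conj_of_anti e]
    simpa using neg_one_mem
  have s3 : ∀ b b', pr K E b ∈ B → b ∉ Zs K E → pr K E b' ∈ B → ∀ y ∈ D.comap (pr K E),
      y * b = b * y → ¬ y * b' = -(b' * y) := fun b b' hb h1 hb' y hy e1 e2 => by
    obtain ⟨s, hs, e3, e4, e5⟩ := hG _ d2 d3 d4 b b' (s1 b hb) (s1 b' hb') y hy e1 e2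
    refine e5 (pr_eq_one.1 ?_)
    rw [map_commutatorElement]
    exact c5 _ hb (mt pr_eq_one.1 h1) _ ⟨s, hs, rfl⟩ (by rw [← map_mul, e3, map_mul]) _ hb'
      ⟨_, e4, map_commutatorElement ..⟩
  rw [card_pr] at c2
  have : Fintype B := Fintype.ofFinite B
  obtain ⟨b₁, b₂, n1, n2, n3⟩ : ∃ b₁ b₂ : B, b₁ ≠ 1 ∧ b₂ ≠ 1 ∧ b₁ ≠ b₂ := by
    obtain ⟨a, b, c, e1, e2, e3⟩ := Fintype.two_lt_card_iff.1 (show 2 < Fintype.card B by
      rw [← Nat.card_eq_fintype_card]; nlinarith)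
    by_cases ha : a = 1
    · exact ⟨b, c, ha ▸ e1.symm, ha ▸ e2.symm, e3⟩
    by_cases hb : b = 1
    · exact ⟨a, c, ha, hb ▸ e3.symm, e2⟩
    exact ⟨a, b, ha, hb, e1⟩
  obtain ⟨b, hb⟩ := QuotientGroup.mk'_surjective _ b₁.1
  obtain ⟨b', hb'⟩ := QuotientGroup.mk'_surjective _ b₂.1
  have k1 : pr K E b ∈ B := hb ▸ b₁.2
  have k2 : pr K E b' ∈ B := hb' ▸ b₂.2
  have z1 : b ∉ Zs K E := fun e => n1 (Subtype.ext (hb ▸ pr_eq_one.2 e))
  have z2 : b' ∉ Zs K E := fun e => n2 (Subtype.ext (hb' ▸ pr_eq_one.2 e))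
  obtain ⟨w, hw, e⟩ := s2 (b * b'⁻¹) (by rw [map_mul, map_inv]; exact mul_mem k1 (inv_mem k2))
    fun e => n3 (Subtype.ext (by
      rw [← pr_eq_one, map_mul, map_inv, mul_inv_eq_one] at e; rw [← hb, ← hb', e]))
  rcases s1 b k1 w hw with e1 | e1 <;> rcases s1 b' k2 w hw with e2 | e2
  · exact h.not_anti (cc e1 (cinv e2)) e
  · exact s3 b b' k1 z1 k2 w hw e1 e2
  · exact s3 b' b k2 z2 k1 w hw e2 e1
  · exact h.not_anti (aa e1 (ainv e2)) e

end H60.Cl
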