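import Cfsg.Agent.H60.PauBig
import Cfsg.Agent.H60.PauQ

/-! Overgroups of the Clifford group in the linear case. -/

set_option autoImplicit false
set_option linter.unusedSectionVars false

namespace H60.Cl

open scoped commutatorElement MatrixGroups

variable {K E : Type*} [Field K] [Ring E] [Algebra K E] [Finite E]
variable {τ : E →ₗ[K] K} {P G N D : Subgroup Eˣ} {x y z d g j u v b : Eˣ}

/-- the action of the centraliser of `d` on the fixed space of `d` -/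
def Gp (Q G : Subgroup Eˣ) (hQ : ∀ u ∈ Q, u * d = d * u) : Subgroup Eˣ where
  carrier := {u | u ∈ Q ∧ ∃ g ∈ G, g * d = d * g ∧ (g : E) * ee K d = u * ee K d}
  one_mem' := ⟨one_mem _, 1, one_mem _, by simp, rfl⟩
  mul_mem' := by
    rintro u v ⟨hu, g, hg, c1, e1⟩ ⟨hv, k, hk, c2, e2⟩
    refine ⟨mul_mem hu hv, g * k, mul_mem hg hk, (cc c1.symm c2.symm).symm, ?_⟩
    rw [Units.val_mul, Units.val_mul, mul_assoc, e2, ee_comm (comm_val (hQ v hv)), ← mul_assoc, e1,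
      mul_assoc, mul_assoc, ee_comm (comm_val (hQ v hv))]
  inv_mem' := by
    rintro u ⟨hu, g, hg, c1, e1⟩
    refine ⟨inv_mem hu, g⁻¹, inv_mem hg, (cinv c1.symm).symm, ?_⟩
    rw [Units.inv_mul_eq_iff_eq_mul, ee_comm (comm_val (hQ _ (inv_mem hu))), ← mul_assoc, e1,
      ee_comm (comm_val (hQ u hu)), Units.mul_inv_cancel_right]

/-- the elements supported on the fixed space of `d` -/
def Amb.Kp (h : Amb τ) (hd : d * d = 1) (Q G : Subgroup Eˣ) (hQ : ∀ u ∈ Q, u * d = d * u) :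
    Subgroup Eˣ where
  carrier := {u | u ∈ Q ∧ ct K d u ∈ G}
  one_mem' := ⟨one_mem _, by rw [h.ct_one hd]; exact one_mem _⟩
  mul_mem' ha hb := ⟨mul_mem ha.1 hb.1, by
    rw [h.ct_mul hd (hQ _ ha.1) (hQ _ hb.1)]; exact mul_mem ha.2 hb.2⟩
  inv_mem' ha := ⟨inv_mem ha.1, by rw [h.ct_inv hd (hQ _ ha.1)]; exact inv_mem ha.2⟩

theorem Gp_mono {Q : Subgroup Eˣ} {hQ : ∀ u ∈ Q, u * d = d * u} (h : N ≤ G) :
    Gp (K := K) Q N hQ ≤ Gp (K := K) Q G hQ := fun _ ⟨h1, g, hg, e⟩ => ⟨h1, g, h hg, e⟩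

theorem mem_Gp_of {Q : Subgroup Eˣ} {hQ : ∀ u ∈ Q, u * d = d * u} (h1 : u ∈ Q) (h2 : u ∈ G) :
    u ∈ Gp (K := K) Q G hQ := ⟨h1, u, h2, hQ u h1, rfl⟩

theorem Gp_Nm {Q : Subgroup Eˣ} {hQ : ∀ u ∈ Q, u * d = d * u} (h : G ≤ Nm N) :
    Gp (K := K) Q G hQ ≤ Nm (Gp (K := K) Q N hQ) := by
  rintro u ⟨hu, g, hg, c1, e1⟩
  refine mem_Nm ?_
  rintro v ⟨hv, k, hk, c2, e2⟩
  obtain ⟨m, g', -, -, e3⟩ := (Gp (K := K) Q ⊤ hQ).mul_mem ((Gp (K := K) Q ⊤ hQ).mul_mem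
    ⟨hu, g, trivial, c1, e1⟩ ⟨hv, k, trivial, c2, e2⟩) (inv_mem ⟨hu, g, trivial, c1, e1⟩)
  refine ⟨m, g * k * g⁻¹, Nm_conj (h hg) hk, (cc (cc c1.symm c2.symm) (cinv c1.symm)).symm, ?_⟩
  have e4 : (↑g⁻¹ : E) * ee K d = ↑u⁻¹ * ee K d := by
    rw [Units.inv_mul_eq_iff_eq_mul, ee_comm (comm_val (hQ _ (inv_mem hu))), ← mul_assoc, e1,
      ee_comm (comm_val (hQ u hu)), Units.mul_inv_cancel_right]
  simp only [Units.val_mul, mul_assoc]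
  rw [e4, ee_comm (comm_val (hQ _ (inv_mem hu))), ← mul_assoc (k : E), e2, ee_comm (comm_val (hQ v hv)),
    ← mul_assoc, ← mul_assoc, e1, ← mul_assoc (v : E), ee_comm (comm_val (hQ v hv))]
  simp only [mul_assoc]

theorem Amb.Kp_Nm (h : Amb τ) (hd : d * d = 1) {Q : Subgroup Eˣ} {hQ : ∀ u ∈ Q, u * d = d * u} :
    Gp (K := K) Q G hQ ≤ Nm (h.Kp hd Q G hQ) := by
  rintro u ⟨hu, g, hg, c1, e1⟩
  refine mem_Nm fun v hv => ⟨mul_mem (mul_mem hu hv.1) (inv_mem hu), ?_⟩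
  rw [← h.ct_conj_of hd (hQ v hv.1) c1 (hQ u hu) e1]
  exact mul_mem (mul_mem hg hv.2) (inv_mem hg)

theorem Nm_inf' {A B : Subgroup Eˣ} (h1 : g ∈ Nm A) (h2 : g ∈ Nm B) : g ∈ Nm (A ⊓ B) :=
  mem_Nm fun _ hy => ⟨Nm_conj h1 hy.1, Nm_conj h2 hy.2⟩

variable (K) in
/-- an overgroup of the Clifford group with a normal subgroup -/
structure Rel (P G N : Subgroup Eˣ) : Prop where
  pau : Pau K P
  lin : Lin K P
  le : P ≤ G
  un : G ≤ Un K P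
  ga : Gates P G
  nle : N ≤ G
  nm : G ≤ Nm N
  jm : ∀ j ∈ P, j * j = -1 → j ∈ N

theorem Rel.down (R : Rel K P G N) (h : Amb τ) (H : Hyp P d x) :
    Rel K (P1 P d x) (Gp (K := K) (Un K (P1 P d x)) G fun _ => Un_P1_d)
      (h.Kp H.dd (Un K (P1 P d x)) G (fun _ => Un_P1_d) ⊓
        Gp (K := K) (Un K (P1 P d x)) N fun _ => Un_P1_d) where
  pau := R.pau.p1 H.hd H.hx H.an
  lin := R.lin.mono P1_le
  le _ hu := mem_Gp_of (le_Un hu) (R.le (P1_le hu))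
  un _ hu := hu.1
  ga j hj e := mem_Gp_of (h.ga_Un e hj) (R.ga j (P1_le hj) e)
  nle := inf_le_right.trans (Gp_mono R.nle)
  nm _ hu := Nm_inf' (h.Kp_Nm H.dd hu) (Gp_Nm R.nm hu)
  jm j hj e := ⟨⟨le_Un hj, R.ga.ct_neg h (R.pau.sc_le.trans R.le) H.hd H.dd (P1_le hj) e
    (mem_P1.1 hj).1.2⟩, mem_Gp_of (le_Un hj) (R.jm j (P1_le hj) e)⟩

variable {S : Subgroup (GL (Fin 3) K)} {i : Kˣ}

theorem Rel.big_of (h : Amb τ) (hi : i * i = -1) (h3 : H3 (i : K) S) : ∀ (n : ℕ) {P G N : Subgroup Eˣ},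
    Nat.card P = n → Rel K P G N → ∀ {d x y y' : Eˣ}, Hyp P d x → x * x = 1 → Hyp (P1 P d x) y y' →
    y' * y' = 1 → ct K d (Cl.ga (sc K E i * y') * (Cl.ga (sc K E i * y))⁻¹) ∈ G → Big K S P N := by
  intro n
  induction n using Nat.strong_induction_on with
  | _ n ih =>
  intro P G N hn R d x y y' H hx H' hy hσ
  by_cases h0 : P1 (P1 P d x) y y' ≤ Zs K E
  · exact big_two h R.pau H hx H' hy h0 hi h3 R.ga R.le R.nm R.jm hσ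
  obtain ⟨d', x', H2, -⟩ := (R.lin.mono (P1_le.trans P1_le)).exists_hyp
    ((R.pau.p1 H.hd H.hx H.an).p1 H'.hd H'.hx H'.an) h0
  obtain ⟨⟨a1, a2⟩, a3⟩ := mem_P1.1 H2.hd
  obtain ⟨⟨a4, a5⟩, a6⟩ := mem_P1.1 a1
  obtain ⟨⟨b1, b2⟩, b3⟩ := mem_P1.1 H2.hx
  obtain ⟨⟨b4, b5⟩, b6⟩ := mem_P1.1 b1
  obtain ⟨⟨c1, c2⟩, c3⟩ := mem_P1.1 H'.hd
  obtain ⟨⟨c4, c5⟩, c6⟩ := mem_P1.1 H'.hx
  have H0 : Hyp P d' x' := ⟨a4, b4, H2.dd, H2.an⟩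
  have m1 : d ∈ P1 P d' x' := mem_P1.2 ⟨⟨H.hd, a5.symm⟩, b5.symm⟩
  have m2 : y ∈ P1 P d' x' := mem_P1.2 ⟨⟨c1, a2.symm⟩, b2.symm⟩
  have m3 : y' ∈ P1 P d' x' := mem_P1.2 ⟨⟨c4, a3.symm⟩, b3.symm⟩
  have R' := R.down h H0
  refine Big.up h R.pau H0 h3.perf R.nm (ih _ (hn ▸ card_lt (h.P1_lt a4 H2.an)) rfl R'
    ⟨m1, mem_P1.2 ⟨⟨H.hx, a6.symm⟩, b6.symm⟩, H.dd, H.an⟩ hx
    ⟨mem_P1.2 ⟨⟨m2, c2⟩, c3⟩, mem_P1.2 ⟨⟨m3, c5⟩, c6⟩, H'.dd, H'.an⟩ hy (mem_Gp_of ?_ hσ))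
    (fun u hu => hu.1.2) fun u hu => hu.2.2
  have j1 := isq (E := E) hi H'.dd
  have j2 := isq (E := E) hi hy
  exact h.ct_Un H.dd m1 (cc (h.ga_comm j2 (sc_comm' (sc_mem i) c5).symm)
    (cinv (h.ga_comm j1 (sc_comm' (sc_mem i) c2).symm))).symm
    (mul_mem (h.ga_Un j2 (mul_mem (R'.pau.sc_le (sc_mem i)) m3))
      (inv_mem (h.ga_Un j1 (mul_mem (R'.pau.sc_le (sc_mem i)) m2))))

theorem Rel.exists_sigma (R : Rel K P G N) (h : Amb τ) {k : Eˣ} (hk : k ∈ N) (hk' : k ∈ Nm P)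
    (h1 : k ∉ P) : ∃ j ∈ P, ∃ j' ∈ P, j * j = -1 ∧ j' * j' = -1 ∧ j * j' = -(j' * j) ∧
      Cl.ga j' * (Cl.ga j)⁻¹ ∈ N := by
  obtain ⟨y, hy, h2⟩ : ∃ y ∈ P, ⁅y, k⁆ ∉ Zs K E := by
    by_contra hn
    push Not at hn
    exact h1 (R.pau.inn h (R.un (R.nle hk)) hn)
  have key : ∀ k ∈ N, ∀ j ∈ P, j * j = -1 → Cl.ga (k * j * k⁻¹) * (Cl.ga j)⁻¹ ∈ N := by
    intro k hk j hj e
    have := N.inv_mem (comm_mem_of_Nm (R.nm (R.ga j hj e)) hk)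
    rwa [commutatorElement_inv, commutatorElement_def, h.ga_conj e] at this
  obtain ⟨c, hc, e⟩ := R.lin.neg y hy
  have hj := mul_mem (R.pau.sc_le hc) hy
  have hj' := Nm_conj hk' hj
  have e' := conj_sq (K := K) k e neg_one_mem
  have h3 : k * (c * y) * k⁻¹ * (c * y) ∉ Zs K E := fun hz => h2 (by
    have e1 : ⁅y, k⁆ = c⁻¹ * (c * y * (c * y) * (k * (c * y) * k⁻¹ * (c * y))⁻¹) * (k * c * k⁻¹) := by
      rw [commutatorElement_def]; group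
    rw [e1, e]
    exact mul_mem (mul_mem (inv_mem hc) (mul_mem neg_one_mem (inv_mem hz))) (conj_mem_Zs.2 hc))
  set j := c * y
  rcases R.pau.comm j hj _ hj' with a | a
  swap
  · exact ⟨j, hj, _, hj', e, e', a, key k hk j hj e⟩
  obtain ⟨w, hw, a1, a2⟩ := R.pau.dual1 hj hj' (fun hz => h3 (by
    rw [conj_mem_Zs] at hz
    exact mul_mem (conj_mem_Zs.2 hz) hz)) h3
  obtain ⟨c', hc', e2⟩ := R.lin.neg w hw
  have hw' := mul_mem (R.pau.sc_le hc') hw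
  have a3 := sc_comm' hc' a1
  have a4 := anti_symm (sc_anti hc' a2)
  have := key _ (key k hk j hj e) _ hw' e2
  rw [mul_assoc (Cl.ga _), ← cinv (h.ga_comm e a3), mul_inv_rev, inv_inv, ← mul_assoc,
    mul_assoc (Cl.ga _) (_ * _) (Cl.ga _), inv_mul_cancel_right, h.ga_anti e' a4] at this
  refine ⟨_, hw', _, mul_mem hj' hw', e2, ?_, ac (anti_symm a4) rfl, this⟩
  generalize k * j * k⁻¹ = j' at *
  rw [mul_assoc, ← mul_assoc (c' * w), anti_symm a4, neg_mul, mul_neg, mul_assoc, e2, ← mul_assoc, e']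
  simp

theorem Rel.anti (R : Rel K P G N) (h : Amb τ) (y : Eˣ) (hy : y ∈ P) (hy' : y ∉ Zs K E) :
    ∃ g ∈ G, g * y * g⁻¹ * y = -(y * (g * y * g⁻¹)) := by
  obtain ⟨w, hw, a⟩ := R.pau.exists_anti hy hy'
  obtain ⟨c, hc, e⟩ := R.lin.neg w hw
  refine ⟨_, R.ga _ (mul_mem (R.pau.sc_le hc) hw) e, ?_⟩
  rw [h.ga_anti e (sc_anti hc a)]
  exact anti_symm (ac (anti_symm (sc_anti hc a)) rfl)

theorem Rel.le_sup (R : Rel K P G N) : P ≤ N ⊔ Zs K E := fun y hy => by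
  obtain ⟨c, hc, e⟩ := R.lin.neg y hy
  exact (Subgroup.mul_mem_cancel_left _ (Subgroup.mem_sup_right hc)).1
    (Subgroup.mem_sup_left (R.jm _ (mul_mem (R.pau.sc_le hc) hy) e))

theorem Rel.step (R : Rel K P G N) (h : Amb τ) (hi : i * i = -1) (h3 : H3 (i : K) S)
    (hB : ¬ Big K S P N) (H : Hyp P d x) :
    (h.Kp H.dd (Un K (P1 P d x)) G fun _ => Un_P1_d) ⊓ Nm (P1 P d x) ≤ P1 P d x ∧
      Gp (K := K) (Un K (P1 P d x)) G (fun _ => Un_P1_d) ≤ Nm (P1 P d x) := by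
  have R0 : Rel K P G G := { R with
    nle := le_rfl, nm := Subgroup.le_normalizer, jm := fun j hj _ => R.le hj }
  have R' := R0.down h H
  have R1 : Rel K (P1 P d x) _ (h.Kp H.dd (Un K (P1 P d x)) G fun _ => Un_P1_d) := { R' with
    nle := fun u hu => ⟨hu.1, _, hu.2, h.ct_comm H.dd (Un_P1_d hu.1) rfl (Un_P1_d hu.1).symm |>.symm, by
      rw [h.ct_val H.dd (Un_P1_d hu.1), add_mul, h.compl_mul_ee H.dd, mul_assoc, h.ee_sq H.dd,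
        add_zero]⟩
    nm := h.Kp_Nm H.dd, jm := fun j hj e => (R'.jm j hj e).1 }
  have h1 : (h.Kp H.dd (Un K (P1 P d x)) G fun _ => Un_P1_d) ⊓ Nm (P1 P d x) ≤ P1 P d x := by
    intro k hk
    by_contra hn
    obtain ⟨j, hj, j', hj', e1, e2, a, m⟩ := R1.exists_sigma h hk.1 hk.2 hn
    obtain ⟨c, hc, e⟩ := R.lin.pos x H.hx
    have e3 : P1 P d (c * x) = P1 P d x := by
      ext u
      simp only [mem_P1, ← mul_assoc, ← Zs_comm hc u]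
      simp only [mul_assoc, mul_right_inj]
    have s1 : ∀ j : Eˣ, j * j = -1 → sc K E i⁻¹ * j * (sc K E i⁻¹ * j) = 1 := fun j e => by
      rw [mul_assoc, ← mul_assoc j, ← sc_comm, mul_assoc, e, ← mul_assoc, ← map_mul, ← mul_inv, hi]
      simp [sc_neg]
    refine hB (Rel.big_of h hi h3 _ rfl R (y := sc K E i⁻¹ * j) (y' := sc K E i⁻¹ * j')
      ⟨H.hd, mul_mem (R.pau.sc_le hc) H.hx, H.dd, anti_symm (sc_anti hc (anti_symm H.an))⟩ e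
      ⟨e3 ▸ mul_mem (R'.pau.sc_le (sc_mem _)) hj, e3 ▸ mul_mem (R'.pau.sc_le (sc_mem _)) hj', s1 j e1,
        sc_anti (sc_mem _) (anti_symm (sc_anti (sc_mem _) (anti_symm a)))⟩ (s1 j' e2) ?_)
    simpa using m.2
  exact ⟨h1, R1.pau.le_Nm_of h R1.un R1.le R1.nle R1.nm R1.le_sup h1 (R1.anti h)⟩

theorem Amb.ct_Nm (h : Amb τ) (hP : Pau K P) (hd : d ∈ P) (dd : d * d = 1) (hj : j ∈ P)
    (jj : j * j = -1) (hc : j * d = d * j) : ct K d j ∈ Nm P := by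
  obtain ⟨e1, e2⟩ := h.ct_eq_ga dd jj hc
  rw [e2]
  exact mul_mem (inv_mem (Subgroup.le_normalizer (hP.sc_le h.tw_mem)))
    (mul_mem (hP.ga_Nm h jj hj) (hP.ga_Nm h e1 (mul_mem hd hj)))

theorem Hyp.part' (H : Hyp P d x) (hP : Pau K P) (h : Amb τ) (hx : x ∈ G) (hGU : G ≤ Un K P)
    (hg : g ∈ G) (hc : g * d = d * g) :
    ∃ u ∈ Gp (K := K) (Un K (P1 P d x)) G (fun _ => Un_P1_d),
      ∃ v ∈ Gp (K := K) (Un K (P1 P d x)) G (fun _ => Un_P1_d), g = v * ct K d (v⁻¹ * u) := by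
  obtain ⟨u, hu, e1⟩ := H.part hP h (hGU hg) hc
  have hg' := mul_mem (mul_mem hx hg) (inv_mem hx)
  have hc' : x * g * x⁻¹ * d = d * (x * g * x⁻¹) :=
    (aa (ac H.an hc.symm) (ainv H.an)).symm
  obtain ⟨v, hv, e2⟩ := H.part hP h (hGU hg') hc'
  refine ⟨u, ⟨hu, g, hg, hc, e1⟩, v, ⟨hv, _, hg', hc', e2⟩,
    h.eq_mul_ct H.dd (Un_P1_d hu) (Un_P1_d hv) e1 ?_⟩
  rw [Units.val_mul, Units.val_mul, mul_assoc, h.ee_anti (anti_val (anti_symm (ainv H.an))),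
    ← mul_assoc, Units.mul_inv_eq_iff_eq_mul] at e2
  rw [← Units.mul_right_inj x, ← mul_assoc, e2, ← mul_assoc, ← comm_val (Un_P1_x hv), mul_assoc,
    mul_assoc, mul_sub, mul_one, h.ee_anti (anti_val (anti_symm H.an)), sub_mul, one_mul,
    sub_sub_cancel]

theorem Rel.cen (R : Rel K P G N) (h : Amb τ) (hi : i * i = -1) (h3 : H3 (i : K) S)
    (hB : ¬ Big K S P N) (h16 : 16 ≤ rk K P) (H : Hyp P d x) (hg : g ∈ G) (hc : g * d = d * g) :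
    g ∈ Nm P := by
  obtain ⟨s1, s2⟩ := R.step h hi h3 hB H
  have R' := R.down h H
  obtain ⟨u, hu, v, hv, rfl⟩ := H.part' R.pau h (R.le H.hx) R.un hg hc
  have v1 : v ∈ G := Gates.gen h _ _ rfl R'.pau R'.lin (P1_le.trans R.le) (R.ga.mono P1_le) v (s2 hv) hv.1
  have v2 : v ∈ Nm P := mem_Nm_of_P1 R.pau H.hd H.hx H.an (by rw [conj_of_comm (Un_P1_d hv.1)]; exact H.hd)
    (by rw [conj_of_comm (Un_P1_x hv.1)]; exact H.hx) fun y hy => P1_le (Nm_conj (s2 hv) hy)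
  have k1 := (G.mul_mem_cancel_left v1).1 hg
  have k2 := s1 ⟨⟨mul_mem (inv_mem hv.1) hu.1, k1⟩, (Nm _).mul_mem ((Nm _).inv_mem (s2 hv)) (s2 hu)⟩
  refine mul_mem v2 ?_
  clear hc
  obtain ⟨c, hc, e⟩ := R'.lin.neg _ k2
  set k := v⁻¹ * u
  have c1 := (mem_P1.1 k2).1.2
  have c2 := sc_comm' hc c1
  have c3 := Zs_comm (inv_mem hc) d
  have hj := mul_mem (R.pau.sc_le hc) (P1_le k2)
  rw [← inv_mul_cancel_left c k, h.ct_mul H.dd c3 c2] at k1 ⊢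
  refine mul_mem ?_ (h.ct_Nm R.pau H.hd H.dd hj e c2)
  have k3 := (G.mul_mem_cancel_right (R.ga.ct_neg h (R.pau.sc_le.trans R.le) H.hd H.dd hj e c2)).1 k1
  obtain ⟨d', x', H', -⟩ := R'.lin.exists_hyp R'.pau (not_le_of_rk (by
    have := R.pau.rk_P1 H.hd H.hx; omega))
  obtain ⟨⟨a1, a2⟩, a3⟩ := mem_P1.1 H'.hd
  obtain ⟨⟨b1, b2⟩, b3⟩ := mem_P1.1 H'.hx
  have H0 : Hyp P d' x' := ⟨a1, b1, H'.dd, H'.an⟩
  have k4 := (R.step h hi h3 hB H0).2 (mem_Gp_of (h.ct_Un H.dd (mem_P1.2 ⟨⟨H.hd, a2.symm⟩, b2.symm⟩) c3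
    (le_Un ((R.pau.p1 a1 b1 H'.an).sc_le (inv_mem hc)))) k3)
  refine mem_Nm_of_P1 R.pau H.hd H.hx H.an ?_
    (P1_le (Nm_conj k4 (mem_P1.2 ⟨⟨H.hx, a3.symm⟩, b3.symm⟩))) fun y hy => ?_
  · rw [← h.ct_comm H.dd c3 rfl c3.symm, mul_inv_cancel_right]; exact H.hd
  · rw [← h.ct_comm H.dd c3 (mem_P1.1 hy).1.2 (Zs_comm (inv_mem hc) y).symm, mul_inv_cancel_right]
    exact P1_le hy

end H60.Cl
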