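import Cfsg.Agent.H60.PauBig
import Cfsg.Agent.H60.L3Uni2
import Cfsg.Agent.S5776
import Cfsg.Agent.S5778
import Cfsg.Agent.S5779

/-! The three-dimensional groups generated by the controlled gates. -/

set_option autoImplicit false
set_option linter.unusedSectionVars false

namespace H60.Cl

open Matrix hiding mul_inv_rev J
open Cfsg Cfsg.Geo H25 H59 H60.L3
open scoped MatrixGroups commutatorElement

variable {F : Type*} [Field F] [Fintype F] {i : Fˣ} {X H : Subgroup (G3 F)}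

/-- elements of the subgroup generated by the controlled gates -/
structure Els (i : Fˣ) (H : Subgroup (G3 F)) : Prop where
  hD : ∀ a ∈ Subgroup.zpowers i, ∀ b ∈ Subgroup.zpowers i, D a b (a * b)⁻¹ ∈ H
  hC : C ∈ H
  hJ : J ∈ H
  np : ¬ P2 H

theorem Els.mono (h : Els i X) (hH : X ≤ H) : Els i H :=
  ⟨fun a ha b hb => hH (h.hD a ha b hb), hH h.hC, hH h.hJ, fun e => h.np (e.mono hH)⟩

theorem conj_eq {a b c : G3 F} (h : a.val * b.val = c.val * a.val) : a * b * a⁻¹ = c :=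
  mul_inv_eq_of_eq_mul (Units.ext h)

theorem inv_i (hi : i * i = -1) : i⁻¹ = -i := inv_eq_of_mul_eq_one_right (by rw [mul_neg, hi, neg_neg])

theorem conj_C (hi : i * i = -1) (h2 : (2 : F) ≠ 0) (c : Fˣ) {M : G3 F}
    (hM : M.val = !![0, -(i : F), 0; (i : F), 0, 0; 0, 0, (c : F)]) :
    un (mC (i : F)) * D 1 (-1) c * (un (mC (i : F)))⁻¹ = M := by
  have hi' : (i : F) * i = -1 := congrArg Units.val hi
  refine conj_eq ?_
  rw [un_mC hi' h2, D_val, hM, mC, mul_fin_three, mul_fin_three]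
  refine mat3 ?_ ?_ ?_ ?_ ?_ ?_ ?_ ?_ ?_ <;> simp <;> field_simp <;>
    first | linear_combination hi' | linear_combination -hi'

theorem els (hi : i * i = -1) (h2 : (2 : F) ≠ 0) (ha : un (mA (i : F)) ∈ X)
    (hc : un (mC (i : F)) ∈ Nm X) (hs : un mS ∈ Nm X) (ht : un mT ∈ Nm X) : Els i X := by
  have hi' : (i : F) * i = -1 := congrArg Units.val hi
  have e1 : ∀ a b c : Fˣ, un mS * D a b c * (un mS)⁻¹ = D b a c := fun a b c =>
    conj_eq (by rw [un_mS]; simp [D_val, mS, mul_fin_three])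
  have e2 : ∀ a b c : Fˣ, un mT * D a b c * (un mT)⁻¹ = D c b a := fun a b c =>
    conj_eq (by rw [un_mT]; simp [D_val, mT, mul_fin_three])
  have m1 : D i⁻¹ i 1 ∈ X := by
    rw [← conj_eq (a := un (mC (i : F))) (b := un (mA (i : F))) (c := D i⁻¹ i 1)]
    · exact Nm_conj hc ha
    rw [un_mC hi' h2, un_mA hi', D_val, inv_i hi, mC, mA, mul_fin_three, mul_fin_three]
    refine mat3 ?_ ?_ ?_ ?_ ?_ ?_ ?_ ?_ ?_ <;> simp <;> field_simp <;>
      first | ring1 | linear_combination hi' | linear_combination -hi'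
  have m2 : D 1 i i⁻¹ ∈ X := e2 _ _ _ ▸ Nm_conj ht m1
  have m3 : D i 1 i⁻¹ ∈ X := e1 _ _ _ ▸ Nm_conj hs m2
  have hD : ∀ a ∈ Subgroup.zpowers i, ∀ b ∈ Subgroup.zpowers i, D a b (a * b)⁻¹ ∈ X := by
    intro a ha b hb
    let f1 : Fˣ →* G3 F := MonoidHom.mk' (fun a => D a 1 a⁻¹) fun a b => by simp [D_mul, mul_comm]
    let f2 : Fˣ →* G3 F := MonoidHom.mk' (fun a => D 1 a a⁻¹) fun a b => by simp [D_mul, mul_comm]
    have := X.mul_mem ((Subgroup.zpowers_le (H := X.comap f1)).2 m3 ha)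
      ((Subgroup.zpowers_le (H := X.comap f2)).2 m2 hb)
    simpa [f1, f2, D_mul, mul_comm] using this
  have z1 := Subgroup.mem_zpowers i
  have z2 : -1 ∈ Subgroup.zpowers i := hi ▸ mul_mem z1 z1
  have a2 := Nm_conj ht ha
  have a3 := Nm_conj hs a2
  have v2 : (un mT * un (mA (i : F)) * (un mT)⁻¹).val = !![1, 0, 0; 0, 0, (i : F); 0, (i : F), 0] := by
    rw [Units.val_mul, Units.mul_inv_eq_iff_eq_mul, Units.val_mul, un_mT, un_mA hi']
    simp [mT, mA, mul_fin_three]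
  have v3 : (un mS * (un mT * un (mA (i : F)) * (un mT)⁻¹) * (un mS)⁻¹).val =
      !![0, 0, (i : F); 0, 1, 0; (i : F), 0, 0] := by
    rw [Units.val_mul, Units.mul_inv_eq_iff_eq_mul, Units.val_mul, v2, un_mS]
    simp [mS, mul_fin_three]
  refine ⟨hD, ?_, ?_, fun hP => ?_⟩
  · refine (X.mul_mem_cancel_left (hD _ z2 _ z1)).1 ?_
    convert X.mul_mem ha a2 using 1
    refine Units.ext ?_
    rw [Units.val_mul, Units.val_mul, v2, un_mA hi', D_val, C_val, neg_one_mul, ← inv_i hi, inv_inv]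
    simp [mA, mul_fin_three, hi']
  · convert X.mul_mem (hD _ z1 _ z2) a3 using 1
    refine Units.ext ?_
    rw [Units.val_mul, v3, D_val, J_val, mul_neg_one, ← inv_i hi, inv_inv]
    simp [mul_fin_three, hi']
  · obtain ⟨π, h1, -⟩ := hP.exists_hom
    have q1 : D 1 i i⁻¹ * D 1 i i⁻¹ = D 1 (-1) (-1) := by rw [D_mul, inv_i hi]; simp [hi]
    have q2 : D 1 i i⁻¹ * D 1 i i⁻¹ * (D 1 i i⁻¹ * D 1 i i⁻¹) = 1 := by rw [q1, D_mul]; simp [D_one]
    have := h1 _ _ (abs_four m2 q2) (abs_four (Nm_conj hc m2) (by simp only [conj_mul, q2]; simp))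
    simp only [conj_mul, q1] at this
    have hv := un_mat (A := !![0, -(i : F), 0; (i : F), 0, 0; 0, 0, ((-1 : Fˣ) : F)])
      (by simp [det_fin_three])
    rw [conj_C hi h2 _ hv] at this
    have := congrArg (fun g : G3 F => g.val 0 1) this
    simp only [Units.val_mul, hv, D_val, mul_fin_three] at this
    apply h2
    simp at this
    linear_combination (i : F) * this + 2 * hi'

theorem card_zpowers_i (hi : i * i = -1) (h2 : (2 : F) ≠ 0) : Nat.card (Subgroup.zpowers i) = 4 := by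
  rw [Nat.card_zpowers]
  refine orderOf_eq_prime_pow (p := 2) (n := 1) (fun e => h2 ?_) ?_
  · have := congrArg Units.val ((hi.symm.trans (_root_.sq i).symm).trans e)
    simp at this
    linear_combination -this
  · rw [show 2 ^ (1 + 1) = 2 * 2 by rfl, pow_mul, _root_.sq i, hi]; simp

theorem sq_i_ne (hi : i * i = -1) (h2 : (2 : F) ≠ 0) : (i : F) ^ 2 ≠ 1 := fun e => h2 (by
  have hi' : (i : F) * i = -1 := congrArg Units.val hi
  linear_combination hi' - e)

theorem Els.hD1 (h : Els i H) {a : Fˣ} (ha : a ∈ Subgroup.zpowers i) : D a 1 a⁻¹ ∈ H := by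
  simpa using h.hD a ha 1 (one_mem _)

theorem Els.dvd (h : Els i H) (hi : i * i = -1) (h2 : (2 : F) ≠ 0) : 16 ∣ Nat.card H := by
  have := sq_dvd_card (H := H) _ h.hD
  rwa [card_zpowers_i hi h2] at this

theorem Nm_inf {G : Type*} [Group G] {A B : Subgroup G} {g : G}
    (h1 : g ∈ Subgroup.normalizer (A : Set G)) (h2 : g ∈ Subgroup.normalizer (B : Set G)) :
    g ∈ Subgroup.normalizer ((A ⊓ B : Subgroup G) : Set G) :=
  Subgroup.mem_normalizer_iff.2 fun b => and_congr (Subgroup.mem_normalizer_iff.1 h1 b)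
    (Subgroup.mem_normalizer_iff.1 h2 b)

theorem Nm_commutator {G : Type*} [Group G] [Finite G] {A : Subgroup G} {g : G}
    (h1 : g ∈ Subgroup.normalizer (A : Set G)) :
    g ∈ Subgroup.normalizer ((⁅A, A⁆ : Subgroup G) : Set G) :=
  Subgroup.mem_normalizer_fintype fun x hx => by
    have : ⁅A, A⁆ ≤ ⁅A, A⁆.comap (MulAut.conj g).toMonoidHom := Subgroup.commutator_le.2
      fun a ha b hb => by
        rw [Subgroup.mem_comap, map_commutatorElement]
        exact Subgroup.commutator_mem_commutator ((Subgroup.mem_normalizer_iff.1 h1 a).1 ha)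
          ((Subgroup.mem_normalizer_iff.1 h1 b).1 hb)
    exact this hx

theorem h3_of {S : Subgroup (G3 F)} (hi : i * i = -1) (h2 : (2 : F) ≠ 0)
    (ha : un (mA (i : F)) ∈ S) (hc : un (mC (i : F)) ∈ S) (hs : un mS ∈ Nm S) (ht : un mT ∈ Nm S)
    (h : ∀ H, IsMaximalIn S H → ¬ Els i H) : H3 (i : F) S := by
  have hi' : (i : F) * i = -1 := congrArg Units.val hi
  have gen : ∀ X : Subgroup (G3 F), un (mA (i : F)) ∈ X → un (mC (i : F)) ∈ Nm X → un mS ∈ Nm X →
      un mT ∈ Nm X → S ≤ X := fun X a1 a2 a3 a4 => by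
    by_contra hn
    obtain ⟨H, h1, h3⟩ := exists_max (Ω := S) (M := S ⊓ X)
      (lt_of_le_of_ne inf_le_left fun e => hn (inf_eq_left.1 e))
    exact h H h1 ((els hi h2 (X := S ⊓ X) ⟨ha, a1⟩ (Nm_inf (Subgroup.le_normalizer hc) a2) (Nm_inf hs a3)
      (Nm_inf ht a4)).mono h3)
  refine ⟨gen _ ?_ (Nm_commutator (Subgroup.le_normalizer hc)) (Nm_commutator hs)
    (Nm_commutator ht), gen⟩
  have hE := els hi h2 ha (Subgroup.le_normalizer hc) hs ht
  have z1 := Subgroup.mem_zpowers i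
  have := Subgroup.commutator_mem_commutator hc (hE.hD 1 (one_mem _) (-1) (hi ▸ mul_mem z1 z1))
  have hv := un_mat (A := !![0, -(i : F), 0; (i : F), 0, 0; 0, 0, (((1 * -1)⁻¹ : Fˣ) : F)])
    (by simp [det_fin_three])
  rw [commutatorElement_def, conj_C hi h2 _ hv] at this
  convert this using 1
  refine eq_mul_inv_of_mul_eq (Units.ext ?_)
  rw [Units.val_mul, hv, un_mA hi', D_val]
  simp [mA, mul_fin_three]

theorem h3_lin (hp : (Fintype.card F).Prime) (hi : i * i = -1) (h2 : (2 : F) ≠ 0) :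
    H3 (i : F) (S3 F) := by
  have hi' : (i : F) * i = -1 := congrArg Units.val hi
  have hn : ∀ g, g ∈ Nm (S3 F) := fun g => by rw [Nm, Subgroup.normalizer_eq_top]; trivial
  refine h3_of hi h2 (mem_specialLinear.2 (by rw [un_mA hi', det_mA hi']))
    (mem_specialLinear.2 (by rw [un_mC hi' h2, det_mC hi' h2])) (hn _) (hn _) fun H hH hE => ?_
  have z1 := Subgroup.mem_zpowers i
  rcases linList (fun H => Cfsg.Agent.S5776.result H) resNorm F H hH with ⟨-, L, hL, rfl⟩ | h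
  · exact not_p3 hE.hC hE.hJ J_C_ne ((p3_field hL).mono inf_le_left)
  cases h with
  | red h => exact h (irr_DC (sq_i_ne hi h2) (hE.hD1 z1) hE.hC)
  | c2 _ h => exact hE.np h
  | c5 F₀ r hr h1 => exact not_prime_pow hr (h1 ▸ hp)
  | c6 _ _ h => exact not_p6_DC h2 (hE.hD1 (hi ▸ mul_mem z1 z1)) hE.hC h
  | c8 _ h =>
    obtain ⟨H₀, h1, -, h3, -⟩ := h.good
    exact sq_i_ne hi h2 (sq_eq_one_of_tr (h1 _ (h3 _ hE.hC _ (hE.hD1 z1))))
  | c8u m hF => exact not_prime_pow Nat.prime_two (hF ▸ hp)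
  | s7 _ _ _ _ _ hc => exact absurd ((hE.dvd hi h2).trans hc) (by norm_num)
  | s6 _ _ _ _ hc => exact absurd ((hE.dvd hi h2).trans hc) (by norm_num)

theorem frob_i {q : ℕ} (hF : Fintype.card F = q ^ 2) (h4 : q % 4 = 3) {i : F} (hi : i * i = -1) :
    frob hF i = -i := by
  rw [frob_apply, ← Nat.div_add_mod q 4, h4, pow_add, pow_mul,
    show i ^ 4 = 1 by linear_combination (i * i - 1) * hi, one_pow, one_mul]
  linear_combination i * hi

theorem h3_uni {q : ℕ} (hF : Fintype.card F = q ^ 2) (hp : q.Prime) (h4 : q % 4 = 3)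
    (hi : i * i = -1) : H3 (i : F) (G0 F q) := by
  have hi' : (i : F) * i = -1 := congrArg Units.val hi
  have h2 := two_ne_zero_of_odd' hF (Nat.odd_iff.2 (by omega))
  have hσ := frob_i hF h4 hi'
  have key : ∀ g : G3 F, g.valᵀ * g.val.map (frob hF) = 1 → g ∈ Iso (stdSes (frob hF)) :=
    fun g hg u v => by
    have e : ∀ u v : V3 F, stdSes (frob hF) u v = u ⬝ᵥ (frob hF ∘ v) := fun _ _ => rfl
    change stdSes _ (g.val *ᵥ u) (g.val *ᵥ v) = _
    rw [e, e, show frob hF ∘ (g.val *ᵥ v) = _ from funext (RingHom.map_mulVec _ _ _),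
      ← vecMul_transpose, dotProduct_mulVec, vecMul_vecMul, hg, vecMul_one]
  have hn : ∀ g, g ∈ Iso (stdSes (frob hF)) → g ∈ Nm (G0 F q) := fun g hg => by
    rw [G0_eq hF]
    exact Nm_inf (Subgroup.le_normalizer hg) (by rw [Subgroup.normalizer_eq_top]; trivial)
  have h2' : frob hF 2 = 2 := map_ofNat _ 2
  refine h3_of hi h2 (G0_eq hF ▸ ⟨key _ ?_, mem_specialLinear.2 (by rw [un_mA hi', det_mA hi'])⟩)
    (G0_eq hF ▸ ⟨key _ ?_, mem_specialLinear.2 (by rw [un_mC hi' h2, det_mC hi' h2])⟩)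
    (hn _ (key _ ?_)) (hn _ (key _ ?_)) fun H hH hE => ?_
  · rw [un_mA hi']
    ext a b; fin_cases a <;> fin_cases b <;> simp [mA, mul_apply, Fin.sum_univ_three, hσ, hi']
  · rw [un_mC hi' h2]
    ext a b; fin_cases a <;> fin_cases b <;> simp [mC, mul_apply, Fin.sum_univ_three, hσ, h2'] <;>
      field_simp <;> first | ring1 | linear_combination 2 * hi' | linear_combination -2 * hi'
  · rw [un_mS]
    ext a b; fin_cases a <;> fin_cases b <;> simp [mS, mul_apply, Fin.sum_univ_three]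
  · rw [un_mT]
    ext a b; fin_cases a <;> fin_cases b <;> simp [mT, mul_apply, Fin.sum_univ_three]
  have z1 := Subgroup.mem_zpowers i
  have hI := irr_DC (sq_i_ne hi h2) (hE.hD1 z1) hE.hC
  rcases uniList (fun q => Cfsg.Agent.S5778.result q) (fun q => Cfsg.Agent.S5779.result q) hF
    (by omega) H hH with ⟨-, -, L, hL, -, rfl⟩ | h
  · exact not_p3 hE.hC hE.hJ J_C_ne ((p3_field hL).mono inf_le_left)
  cases h with
  | iso h => exact h.not_irr hI
  | nd h => exact h.not_irr hI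
  | c2 _ h => exact hE.np h
  | c5 F₀ r hr ho h1 => exact not_prime_of_odd hF ho hr h1 hp
  | c5o _ _ h => exact not_p5_K0 (sq_i_ne hi h2) hH.1.le hE.hC (hE.hD1 z1) h
  | c6 _ _ _ h => exact not_p6_DC h2 (hE.hD1 (hi ▸ mul_mem z1 z1)) hE.hC h
  | s7 _ _ _ _ hc => exact absurd ((hE.dvd hi h2).trans hc) (by norm_num)
  | s6 _ _ _ hc => exact absurd ((hE.dvd hi h2).trans hc) (by norm_num)
  | s65 h => omega
  | s75 h => omega

end H60.Cl
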