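import Cfsg.Agent.H60.PauT
import Cfsg.Agent.H60.PauH3
import Cfsg.Agent.H70.McL2

/-! Representations of the Pauli algebra; the final step in the linear case. -/

set_option autoImplicit false
set_option linter.unusedSectionVars false

namespace H60.Cl

open Module
open scoped commutatorElement MatrixGroups

variable {K E W : Type*} [Field K] [Ring E] [Algebra K E] [Finite E] [AddCommGroup W] [Module K W]
variable {τ : E →ₗ[K] K} {P G N : Subgroup Eˣ} {x y z d g j u v : Eˣ} {φ : E →ₗ[K] End K W}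
variable {ε : E} {t : Fin 3 → Eˣ}

/-- an isomorphism of the Pauli algebra with an endomorphism algebra -/
structure Rep (P : Subgroup Eˣ) (φ : E →ₗ[K] End K W) : Prop where
  mul : ∀ a ∈ Al K P, ∀ b ∈ Al K P, φ (a * b) = φ a * φ b
  one : φ 1 = 1
  surj : ∀ f, ∃ a ∈ Al K P, φ a = f
  inj : ∀ a ∈ Al K P, φ a = 0 → a = 0

theorem Rep.mul_apply (hφ : Rep P φ) {a b : E} (ha : a ∈ Al K P) (hb : b ∈ Al K P) (w : W) :
    φ a (φ b w) = φ (a * b) w := by rw [hφ.mul a ha b hb]; rfl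

theorem Rep.exists_equiv (hφ : Rep P φ) (hg : g ∈ Un K P) : ∃ e : W ≃ₗ[K] W, ∀ w, e w = φ g w :=
  ⟨LinearEquiv.ofLinear (φ g) (φ ↑g⁻¹)
    (by rw [← End.mul_eq_comp, ← hφ.mul _ hg.1 _ hg.2, Units.mul_inv, hφ.one]; rfl)
    (by rw [← End.mul_eq_comp, ← hφ.mul _ hg.2 _ hg.1, Units.inv_mul, hφ.one]; rfl), fun _ => rfl⟩

/-- the image of a group of units -/
def Rep.im (hφ : Rep P φ) (hG : G ≤ Un K P) : Subgroup (W ≃ₗ[K] W) where
  carrier := {e | ∃ g ∈ G, ∀ w, e w = φ g w}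
  one_mem' := ⟨1, one_mem _, fun w => by simp [hφ.one]⟩
  mul_mem' := by
    rintro a b ⟨g, hg, e1⟩ ⟨k, hk, e2⟩
    exact ⟨g * k, mul_mem hg hk, fun w => by
      rw [LinearEquiv.mul_apply, e2, e1, hφ.mul_apply (hG hg).1 (hG hk).1, Units.val_mul]⟩
  inv_mem' := by
    rintro a ⟨g, hg, e1⟩
    refine ⟨g⁻¹, inv_mem hg, fun w => a.injective ?_⟩
    rw [e1 (φ _ w), hφ.mul_apply (hG hg).1 (hG hg).2, Units.mul_inv, hφ.one]
    exact a.apply_symm_apply w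

theorem Rep.exists_im (hφ : Rep P φ) (hG : G ≤ Un K P) (hg : g ∈ G) :
    ∃ e ∈ hφ.im hG, ∀ w, e w = φ g w :=
  let ⟨e, he⟩ := hφ.exists_equiv (hG hg); ⟨e, ⟨g, hg, he⟩, he⟩

theorem Rep.irr (hφ : Rep P φ) {U : Submodule K W} (hU : ∀ y ∈ P, ∀ w ∈ U, φ y w ∈ U)
    (h0 : U ≠ ⊥) : U = ⊤ := by
  obtain ⟨w, hw, h1⟩ := (Submodule.ne_bot_iff U).1 h0
  obtain ⟨θ, hθ⟩ := H62.exists_dual_of_ne_zero (F := K) h1
  refine eq_top_iff.2 fun v _ => ?_
  obtain ⟨a, ha, e⟩ := hφ.surj (θ.smulRight v)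
  have : φ a w ∈ U := Al_ind (p := fun a => φ a w ∈ U) ha (fun y hy => hU y hy w hw) (by simp)
    (fun _ _ _ _ h1 h2 => by rw [map_add]; exact U.add_mem h1 h2)
    fun c _ _ h => by rw [map_smul]; exact U.smul_mem c h
  simpa [e, hθ] using this

theorem Rep.irr' (hφ : Rep P φ) (hP : Pau K P) (hL : Lin K P) {U : Submodule K W}
    (hU : ∀ j ∈ P, j * j = -1 → ∀ w ∈ U, φ j w ∈ U) (h0 : U ≠ ⊥) : U = ⊤ :=
  hφ.irr (fun y hy w hw => by
    obtain ⟨_, ⟨c, rfl⟩, e⟩ := hL.neg y hy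
    have := hU _ (mul_mem (hP.sc_le (sc_mem c)) hy) e w hw
    rwa [sc_mul_val, map_smul, LinearMap.smul_apply, U.smul_mem_iff c.ne_zero] at this) h0

theorem Rep.finrank_sq (hφ : Rep P φ) (hP : Pau K P) (h : Amb τ) [FiniteDimensional K W] :
    finrank K W * finrank K W = rk K P := by
  rw [← hP.finrank_Al h, ← Module.finrank_linearMap]
  exact (LinearEquiv.ofBijective (φ ∘ₗ (Al K P).val.toLinearMap)
    ⟨(injective_iff_map_eq_zero _).2 fun a e => Subtype.ext (hφ.inj _ a.2 e),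
      fun f => let ⟨a, ha, e⟩ := hφ.surj f; ⟨⟨a, ha⟩, e⟩⟩).finrank_eq.symm

/-- restriction to the fixed space of an involution -/
def resE (φ : E →ₗ[K] End K W) (d : Eˣ) : E →ₗ[K] End K (LinearMap.range (φ (ee K d))) where
  toFun a := (φ (ee K d)).rangeRestrict ∘ₗ φ a ∘ₗ Submodule.subtype _
  map_add' a b := by simp [LinearMap.add_comp, LinearMap.comp_add]
  map_smul' c a := by simp [LinearMap.smul_comp, LinearMap.comp_smul]

theorem Rep.ee_fix (hφ : Rep P φ) (h : Amb τ) (hd : d ∈ P) (dd : d * d = 1)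
    (w : LinearMap.range (φ (ee K d))) : φ (ee K d) w = w := by
  obtain ⟨_, w, rfl⟩ := w
  rw [hφ.mul_apply (ee_mem hd) (ee_mem hd), h.ee_sq dd]

theorem Rep.resE_val (hφ : Rep P φ) (h : Amb τ) (hd : d ∈ P) (dd : d * d = 1) {a : E}
    (ha : a ∈ Al K P) (hc : a * d = d * a) (w : LinearMap.range (φ (ee K d))) :
    (resE φ d a w : W) = φ a w := by
  change φ (ee K d) (φ a w) = _
  rw [hφ.mul_apply (ee_mem hd) ha, ← ee_comm hc, ← hφ.mul_apply ha (ee_mem hd), hφ.ee_fix h hd dd]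

theorem Rep.down (hφ : Rep P φ) (h : Amb τ) (hP : Pau K P) (H : Hyp P d x) :
    Rep (P1 P d x) (resE φ d) where
  mul a ha b hb := LinearMap.ext fun w => Subtype.ext (by
    rw [End.mul_apply, hφ.resE_val h H.hd H.dd (Al_mono P1_le ha) (Al_P1_d ha),
      hφ.resE_val h H.hd H.dd (Al_mono P1_le hb) (Al_P1_d hb),
      hφ.resE_val h H.hd H.dd (Al_mono P1_le (mul_mem ha hb)) (Al_P1_d (mul_mem ha hb)),
      hφ.mul_apply (Al_mono P1_le ha) (Al_mono P1_le hb)])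
  one := LinearMap.ext fun w => Subtype.ext (by
    rw [hφ.resE_val h H.hd H.dd (one_mem _) (by simp), hφ.one]; rfl)
  surj f := by
    obtain ⟨a, ha, e⟩ := hφ.surj (Submodule.subtype _ ∘ₗ f ∘ₗ (φ (ee K d)).rangeRestrict)
    obtain ⟨b, hb, e'⟩ := H.comp hP h ha
    refine ⟨b, hb, LinearMap.ext fun w => Subtype.ext ?_⟩
    have hb' := Al_mono P1_le hb
    rw [hφ.resE_val h H.hd H.dd hb' (Al_P1_d hb), ← hφ.ee_fix h H.hd H.dd w,
      hφ.mul_apply hb' (ee_mem H.hd), ← e', ← hφ.mul_apply (mul_mem (ee_mem H.hd) ha) (ee_mem H.hd),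
      ← hφ.mul_apply (ee_mem H.hd) ha, hφ.ee_fix h H.hd H.dd, e]
    change φ (ee K d) (f _) = _
    rw [hφ.ee_fix h H.hd H.dd]
    exact congrArg (fun w => (f w : W)) (Subtype.ext (hφ.ee_fix h H.hd H.dd w))
  inj a ha e := by
    have ha' := Al_mono P1_le ha
    refine h.inj H.an (Al_P1_x ha) (by simp) ?_
    rw [zero_mul]
    refine hφ.inj _ (mul_mem ha' (ee_mem H.hd)) (LinearMap.ext fun w => ?_)
    rw [← hφ.mul_apply ha' (ee_mem H.hd),
      ← hφ.resE_val h H.hd H.dd ha' (Al_P1_d ha) ⟨_, w, rfl⟩, e]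
    rfl

theorem Rep.frame (hφ : Rep P φ) (hF : Fr K P ε t) : ∃ (v : W) (θ : Dual K W),
    (∀ w, φ ε w = θ w • v) ∧ (∀ a b, θ (φ (t a) (φ (t b) v)) = if a = b then 1 else 0) ∧ θ v = 1 ∧
    ∀ (A : GL (Fin 3) K) w, φ (hF.psi A) w =
      w + ∑ a, ∑ b, ((A.val - 1) a b * θ (φ (t b) w)) • φ (t a) v := by
  obtain ⟨w, hw⟩ : ∃ w, φ ε w ≠ 0 := by
    by_contra hn
    push Not at hn
    exact hF.ne (hφ.inj _ hF.mem (LinearMap.ext hn))
  have e1 : φ ε (φ ε w) = φ ε w := by rw [hφ.mul_apply hF.mem hF.mem, hF.idem]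
  set v := φ ε w
  obtain ⟨ψ, hψ⟩ := H62.exists_dual_of_ne_zero (F := K) hw
  obtain ⟨a, ha, e⟩ := hφ.surj (ψ.smulRight v)
  obtain ⟨c, e'⟩ := hF.prim a ha
  have e2 : ∀ w, c • φ ε w = ψ (φ ε w) • v := fun w => by
    rw [← LinearMap.smul_apply, ← map_smul, ← e', ← hφ.mul_apply (mul_mem hF.mem ha) hF.mem,
      ← hφ.mul_apply hF.mem ha, e, LinearMap.smulRight_apply, map_smul, e1]
  have hc : c = 1 := smul_left_injective K hw (by simpa [e1, hψ] using e2 v)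
  simp only [hc, one_smul] at e2
  have m := fun a => val_mem_Al (K := K) (hF.tm a)
  refine ⟨v, ψ ∘ₗ φ ε, e2, fun a b => ?_, by simp [e1, hψ], fun A w' => ?_⟩
  · rw [LinearMap.comp_apply, ← e1, hφ.mul_apply (m b) hF.mem, hφ.mul_apply (m a) (mul_mem (m b) hF.mem),
      hφ.mul_apply hF.mem (mul_mem (m a) (mul_mem (m b) hF.mem)), ← mul_assoc, ← mul_assoc]
    split_ifs with h
    · rw [h, mul_assoc ε, sq_val (hF.tt b), mul_one, hF.idem, e1, hψ]
    · rw [hF.orth a b h]; simp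
  · have e3 : ∀ a b, φ (t a * ε * t b) w' = ψ (φ ε (φ (t b) w')) • φ (t a) v := fun a b => by
      rw [← hφ.mul_apply (mul_mem (m _) hF.mem) (m _), ← hφ.mul_apply (m _) hF.mem, ← map_smul, ← e2]
    rw [hF.psi_val, map_add, hφ.one, fm_apply]
    simp only [map_sum, map_smul, LinearMap.add_apply, LinearMap.sum_apply, LinearMap.smul_apply,
      End.one_apply, e3, mul_smul, LinearMap.comp_apply]

open H62 H70 in
/-- groups with gates containing two transvections with the same centre contain `SL` -/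
theorem sl_le [FiniteDimensional K W] [Finite K] (hp : (Nat.card K).Prime) (h2 : (2 : K) ≠ 0)
    {M : Subgroup (W ≃ₗ[K] W)} {J : Set (End K W)}
    (hJ : ∀ j ∈ J, (∃ g ∈ M, ∀ w, g w = j w) ∧ ∃ s ∈ M, ∀ w, s w = w + j w)
    (hirr : ∀ U : Submodule K W, (∀ j ∈ J, ∀ w ∈ U, j w ∈ U) → U ≠ ⊥ → U = ⊤) {v : W}
    {θ₁ θ₂ : Dual K W} (hv : v ≠ 0) (h1 : LTv M v θ₁) (h3 : LTv M v θ₂) (h4 : θ₁ ≠ 0)
    (h5 : θ₂ ∉ K ∙ θ₁) (e : W ≃ₗ[K] W) (he : LinearMap.det (e : W →ₗ[K] W) = 1) : e ∈ M := by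
  classical
  let H := Subgroup.closure
    {g | g ∈ M ∧ ∃ (v : W) (θ : Dual K W), θ v = 0 ∧ ∀ x, g x = x + θ x • v}
  have hM : H ≤ M := (Subgroup.closure_le _).2 fun g hg => hg.1
  have hT : ∀ {v θ}, LTv M v θ → LTv H v θ := fun ⟨a, g, hg, e⟩ =>
    ⟨a, g, Subgroup.subset_closure ⟨hg, _, _, a, e⟩, e⟩
  have hI : ∀ {U : Submodule K W}, (∀ v θ, LTv M v θ → ∀ w ∈ U, θ w • v ∈ U) → LInv H U := by
    intro U h g hg
    induction hg using Subgroup.closure_induction'' with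
    | one => exact fun w hw => hw
    | mem g hg =>
      obtain ⟨a, v, θ, b, c⟩ := hg
      exact fun w hw => c w ▸ U.add_mem hw (h v θ ⟨b, g, a, c⟩ w hw)
    | inv_mem g hg =>
      obtain ⟨a, v, θ, b, c⟩ := hg
      intro w hw
      have : g⁻¹ w = w - θ w • v := g.injective (by
        rw [c (w - _)]; simp [b, ← LinearEquiv.mul_apply])
      exact this ▸ U.sub_mem hw (h v θ ⟨b, g, a, c⟩ w hw)
    | mul a b _ _ h1 h2 => exact fun w hw => h1 _ (h2 w hw)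
  have hC : ∀ {U : Submodule K W}, LInv H U → ∀ g ∈ M, LInv H (U.map (g : W →ₗ[K] W)) :=
    fun {U} hU g hg => hI (by
      rintro v θ ⟨a, b⟩ _ ⟨w, hw, rfl⟩
      have := hU.tv (hT (v := g⁻¹ v) (θ := θ ∘ₗ g) ⟨by simpa [← LinearEquiv.mul_apply] using a,
        b.conj' (inv_mem hg) fun x => by simp [← LinearEquiv.mul_apply]⟩) hw
      exact ⟨_, this, by simp [← LinearEquiv.mul_apply]⟩)
  have hirr' : ∀ U, LInv H U → U ≠ ⊥ → U = ⊤ := by
    intro U hU h0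
    obtain ⟨U', a3, ⟨a1, a2⟩, a4⟩ := exists_minimal_le_of_wellFoundedLT
      (fun U : Submodule K W => LInv H U ∧ U ≠ ⊥) U ⟨hU, h0⟩
    refine eq_top_iff.2 (le_trans (hirr U' (fun j hj w hw => ?_) a2).ge a3)
    obtain ⟨⟨g, hg, e1⟩, s, hs, e2⟩ := hJ j hj
    have dich : ∀ g ∈ M, U' ≤ U'.map (g : W →ₗ[K] W) ∨ U' ⊓ U'.map (g : W →ₗ[K] W) = ⊥ :=
      fun g hg => (em _).symm.imp_left fun h0 =>
        (a4 ⟨a1.inf (hC a1 g hg), h0⟩ inf_le_left).trans inf_le_right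
    rcases dich g⁻¹ (inv_mem hg) with b | b
    · obtain ⟨w', hw', rfl⟩ := b hw
      simpa [← e1, ← LinearEquiv.mul_apply] using hw'
    exfalso
    have b' : ∀ w ∈ U', g w ∈ U' → w = 0 := fun w hw hw' =>
      (Submodule.eq_bot_iff _).1 b w ⟨hw, _, hw', by simp [← LinearEquiv.mul_apply]⟩
    let Z : Submodule K W := ⨅ p : {p : W × Dual K W // LTv M p.1 p.2 ∧ p.1 ≠ 0}, LinearMap.ker p.1.2
    have hZ : ∀ w, w ∈ Z ↔ ∀ v θ, LTv M v θ → v ≠ 0 → θ w = 0 := fun w => by simp [Z]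
    have hZ0 : Z = ⊥ := by
      by_contra h0
      refine h4 (LinearMap.ext fun w => (hZ w).1 (hirr Z (fun j hj w hw => (hZ _).2 fun v θ a b => ?_)
        h0 ▸ trivial) v θ₁ h1 hv)
      obtain ⟨⟨g, hg, e1⟩, -⟩ := hJ j hj
      rw [← e1]
      exact (hZ w).1 hw (g⁻¹ v) (θ ∘ₗ g) ⟨by simpa [← LinearEquiv.mul_apply] using a.1,
        a.2.conj' (inv_mem hg) fun x => by simp [← LinearEquiv.mul_apply]⟩ (by simpa)
    obtain ⟨u, hu, u0⟩ := (Submodule.ne_bot_iff _).1 a2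
    obtain ⟨v, θ, c1, c2, c3⟩ : ∃ v θ, LTv M v θ ∧ v ≠ 0 ∧ θ u ≠ 0 := by
      by_contra hn
      push Not at hn
      exact u0 ((Submodule.eq_bot_iff _).1 hZ0 u ((hZ u).2 hn))
    have c4 : v ∈ U' := (U'.smul_mem_iff c3).1 (a1.tv (hT c1) hu)
    obtain ⟨u', hu', e3⟩ := (hC a1 s hs).tv (hT c1) (x := s u) ⟨u, hu, rfl⟩
    rw [LinearEquiv.coe_coe, e2, e2, ← e1, ← e1] at e3
    have e4 : u' = 0 := b' u' hu' (by rw [eq_sub_of_add_eq' e3]; exact U'.sub_mem (U'.smul_mem _ c4) hu')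
    rw [e4, map_zero, add_zero, eq_comm, smul_eq_zero, or_iff_left c2, map_add] at e3
    obtain ⟨u', hu', e5⟩ := (hC a1 g hg).tv (hT c1) (x := g u) ⟨u, hu, rfl⟩
    have e6 := b' u' hu' (e5 ▸ U'.smul_mem _ c4)
    rw [e6, map_zero, eq_comm, smul_eq_zero, or_iff_left c2] at e5
    exact c3 (by rwa [e5, add_zero] at e3)
  have hH : TvG H := by
    refine ⟨fun L hL => (Subgroup.closure_le _).2 fun g hg => ?_, fun c v θ a b => ?_,
      fun U₁ U₂ a1 a2 g _ b1 b2 b3 => LinearEquiv.ext fun w => ?_⟩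
    · obtain ⟨v, θ, a, b⟩ := hg.2
      exact hL g (Subgroup.subset_closure hg) v θ a b
    · have := Fact.mk hp
      obtain ⟨n, rfl⟩ : ∃ n : ℕ, c = n := by
        have := Fintype.ofFinite K
        obtain ⟨m, rfl⟩ := (ZMod.ringEquivOfPrime K hp Nat.card_eq_fintype_card.symm).surjective c
        exact ⟨m.val, by rw [← map_natCast (ZMod.ringEquivOfPrime K hp Nat.card_eq_fintype_card.symm),
          ZMod.natCast_zmod_val]⟩
      induction n with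
      | zero => simpa using HasTv.zero_left H v
      | succ n ih => simpa [add_smul] using ih.add_left b (by simp [a])
    · by_cases h0 : U₂ = ⊥
      · simpa [h0, sub_eq_zero] using b1 w
      by_cases h0' : U₁ = ⊥
      · simpa [h0', sub_eq_zero] using b2 w (hirr' _ a2 h0 ▸ trivial)
      · exact b3 w (hirr' _ a1 h0' ▸ trivial)
  obtain ⟨U, hU, hvU⟩ := hH.exists_min (hT h1) hv h4
  obtain rfl := hirr' U hU.1 ((Submodule.ne_bot_iff _).2 ⟨v, hvU, hv⟩)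
  refine hM (mem_of_det_eq_one (fun θ u hu => ?_) e he)
  obtain ⟨ξ, hξ⟩ := (hH.ev_surj h2 hU).2 (θ ∘ₗ Submodule.subtype _)
  have := (hH.tsys hU).linear_case h2 ⟨⟨v, hvU⟩, ⟨_, mem_LAx (hT h1) hvU hv⟩, ⟨_, mem_LAx (hT h3) hvU hv⟩,
    by simpa using hv, hT h1, hT h3, by simpa using h4, fun h => h5 (by
      obtain ⟨c, hc⟩ := Submodule.mem_span_singleton.1 h
      exact Submodule.mem_span_singleton.2 ⟨c, congrArg Subtype.val hc⟩)⟩ ⟨u, trivial⟩ ξ
    (by rw [TvG.ev_apply, hξ]; exact hu)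
  exact this.2.congr fun x => by rw [hξ ⟨x, trivial⟩]; rfl

/-- the final step in the linear case -/
theorem Rel.sl (R : Rel K P G N) (h : Amb τ) (hφ : Rep P φ) [FiniteDimensional K W] [Fintype K]
    (hp : (Fintype.card K).Prime) (hB : Big K (L3.S3 K) P G) (e : W ≃ₗ[K] W)
    (he : LinearMap.det (e : W →ₗ[K] W) = 1) : ∃ g ∈ G, ∀ w, e w = φ g w := by
  obtain ⟨ε, t, hF, hS⟩ := hB
  obtain ⟨v, θ, a1, a2, a3, a4⟩ := hφ.frame hF
  have k : ∀ (A : GL (Fin 3) K) (b : Fin 3), A ∈ L3.S3 K → 0 ≠ b → A.val - 1 = Matrix.single 0 b 1 →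
      H70.LTv (hφ.im R.un) (φ (t 0) v) (θ ∘ₗ φ (t b)) := fun A b hA hb e => by
    obtain ⟨g, hg, e'⟩ := hφ.exists_im R.un (hS hA)
    refine ⟨by simp [a2, hb.symm], g, hg, fun w => ?_⟩
    rw [e', a4, e, Finset.sum_eq_single 0 (fun a _ ha => by simp [ha.symm]) (by simp),
      Finset.sum_eq_single b (fun a _ ha => by simp [ha.symm]) (by simp)]
    simp
  refine sl_le (M := hφ.im R.un) (J := {f | ∃ j ∈ P, j * j = -1 ∧ f = φ j})
    (Nat.card_eq_fintype_card (α := K) ▸ hp) h.two ?_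
    (fun U hU => hφ.irr' R.pau R.lin fun j hj e => hU _ ⟨j, hj, e, rfl⟩)
    (fun e => by simpa [e] using a2 0 0)
    (k (L3.U 1 0 0) 1 (L3.U_mem ..) (by decide) ?_) (k (L3.U 0 0 1) 2 (L3.U_mem ..) (by decide) ?_)
    (fun e => by simpa [a2] using LinearMap.congr_fun e (φ (t 1) v)) (fun e => ?_) e he
  · rintro _ ⟨j, hj, e, rfl⟩
    obtain ⟨s, hs, e'⟩ := hφ.exists_im R.un (R.ga j hj e)
    exact ⟨hφ.exists_im R.un (R.le hj), s, hs, fun w => by simp [e', h.ga_val e, hφ.one]⟩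
  · ext a b; fin_cases a <;> fin_cases b <;> simp [L3.U_val]
  · ext a b; fin_cases a <;> fin_cases b <;> simp [L3.U_val]
  · obtain ⟨c, hc⟩ := Submodule.mem_span_singleton.1 e
    simpa [a2] using LinearMap.congr_fun hc (φ (t 2) v)

end H60.Cl
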