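import Cfsg.Agent.H60.PauRep
import Cfsg.Agent.H62.UComp

/-! The final step in the unitary case. -/

set_option autoImplicit false
set_option linter.unusedSectionVars false

namespace H60.Cl

open Module H59 H62
open scoped commutatorElement MatrixGroups

variable {K E W : Type*} [Field K] [Ring E] [Algebra K E] [Finite E] [AddCommGroup W] [Module K W]
variable {τ : E →ₗ[K] K} {P G N : Subgroup Eˣ} {x y z d g j u v : Eˣ} {φ : E →ₗ[K] End K W}
variable {ε : E} {t : Fin 3 → Eˣ}

theorem det_one_add_comp {V : Type*} [AddCommGroup V] [Module K V] [FiniteDimensional K V]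
    [FiniteDimensional K W] (f : W →ₗ[K] V) (g : V →ₗ[K] W) :
    LinearMap.det (1 + g ∘ₗ f) = LinearMap.det (1 + f ∘ₗ g) := by
  rw [← LinearMap.det_toMatrix (finBasis K W), ← LinearMap.det_toMatrix (finBasis K V), map_add,
    map_add, LinearMap.toMatrix_one, LinearMap.toMatrix_one,
    LinearMap.toMatrix_comp _ (finBasis K V), LinearMap.toMatrix_comp _ (finBasis K W),
    Matrix.det_one_add_mul_comm]

/-- the final step in the unitary case -/
theorem Rep.su (R : Rel K P G N) (h : Amb τ) (hφ : Rep P φ) [FiniteDimensional K W] [Fintype K]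
    {q : ℕ} (hF : Fintype.card K = q ^ 2) (h4 : q % 4 = 3) {i : Kˣ} (hi : i * i = -1)
    (h16 : 16 ≤ rk K P) {B : W →ₛₗ[frob hF] W →ₗ[K] K} (hB : IsHerm B) {s : E →+ E}
    (hs1 : ∀ a b, s (a * b) = s b * s a) (hs2 : ∀ x ∈ P, x * x = 1 → s x = x)
    (hadj : ∀ a ∈ Al K P, ∀ x y, B (φ a x) y = B x (φ (s a) y))
    (hBig : Big K (L3.G0 K q) P G) (e : W ≃ₗ[K] W) (he : e ∈ sisom B) :
    ∃ g ∈ G, ∀ w, e w = φ g w := by
  obtain ⟨ε, t, hFr, hS⟩ := hBig
  obtain ⟨v, θ, a0, a2, a3, a4⟩ := hφ.frame hFr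
  have hi' : (i : K) * i = -1 := congrArg Units.val hi
  have hσ := frob_i hF h4 hi'
  have m := fun a => val_mem_Al (K := K) (hFr.tm a)
  have inv : ∀ y ∈ P, y * y = 1 → ∀ u w, B (φ y u) (φ y w) = B u w := fun y hy e u w => by
    rw [hadj _ (val_mem_Al hy), hs2 y hy e, hφ.mul_apply (val_mem_Al hy) (val_mem_Al hy), sq_val e,
      hφ.one]
    rfl
  have jiso : ∀ j ∈ P, j * j = -1 → ∀ u w, B (φ j u) (φ j w) = B u w := fun j hj e u w => by
    have := inv _ (mul_mem (R.pau.sc_le (sc_mem i)) hj) (by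
      rw [mul_assoc, ← mul_assoc j, ← sc_comm, mul_assoc, e, ← mul_assoc, ← map_mul, hi]
      simp [sc_neg]) u w
    rw [sc_mul_val, map_smul, LinearMap.smul_apply, LinearMap.smul_apply, form_smul_left,
      form_smul_right, hσ, ← mul_assoc, neg_mul, hi'] at this
    simpa using this
  have b1 : ∀ w, B v w = θ w * B v v := fun w => by
    have := hadj _ hFr.mem v w
    rwa [hFr.star s hs1 hs2, a0, a0, a3, one_smul, form_smul_right] at this
  have b0 : B v v ≠ 0 := fun e => by
    have := hB.nondeg v fun w => by rw [b1, e, mul_zero]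
    simp [this] at a3
  have b2 : ∀ a w, B (φ (t a) v) w = θ (φ (t a) w) * B v v := fun a w => by
    rw [hadj _ (m a), hs2 _ (hFr.tm a) (hFr.tt a), b1]
  let U := Submodule.span K (Set.range fun a => φ (t a) v)
  have hU : ∀ w, w ∈ perp B U ↔ ∀ a, θ (φ (t a) w) = 0 := fun w => by
    simp [U, mem_perp_span, b2, b0]
  have hU' : ∀ a, φ (t a) v ∈ U := fun a => Submodule.subset_span ⟨a, rfl⟩
  have dec : ∀ w, w - ∑ a, θ (φ (t a) w) • φ (t a) v ∈ perp B U := fun w => (hU _).2 fun b => by
    simp [a2]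
  have nd : Disjoint U (perp B U) := Submodule.disjoint_def.2 fun w hw hw' => by
    obtain ⟨c, rfl⟩ := (Submodule.mem_span_range_iff_exists_fun K).1 hw
    refine Finset.sum_eq_zero fun a _ => ?_
    have := (hU _).1 hw' a
    simp only [map_sum, map_smul, a2, smul_eq_mul, mul_ite, mul_one, mul_zero, Finset.sum_ite_eq,
      Finset.mem_univ, if_true] at this
    rw [this, zero_smul]
  let M := hφ.im R.un ⊓ isom B
  have hG : GoodU M B U := by
    refine ⟨nd, ?_, fun e he hfix => ⟨?_, he.1⟩⟩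
    · rw [finrank_span_eq_card (Fintype.linearIndependent_iff.2 fun c hc a => ?_)]
      · simp
      · simpa [a2] using congrArg (fun w => θ (φ (t a) w)) hc
    let A : Matrix (Fin 3) (Fin 3) K := Matrix.of fun a b => θ (φ (t a) (e (φ (t b) v)))
    have c1 : ∀ b, e (φ (t b) v) = ∑ a, A a b • φ (t a) v := fun b => by
      refine sub_eq_zero.1 (Submodule.disjoint_def.1 nd _ (U.sub_mem ?_
        (U.sum_mem fun a _ => U.smul_mem _ (hU' a))) (dec _))
      rw [← hB.perp_perp U, hB.mem_perp']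
      intro w hw
      rw [← hfix w hw, he.1]
      exact hw _ (hU' b)
    have c2 : ∀ w, e w = w + ∑ a, ∑ b, ((A - 1) a b * θ (φ (t b) w)) • φ (t a) v := fun w => by
      have := hfix _ (dec w)
      rw [map_sub, sub_eq_iff_eq_add] at this
      rw [this, map_sum]
      simp only [map_smul, c1, Finset.smul_sum, smul_smul, Matrix.sub_apply, sub_mul, sub_smul,
        Finset.sum_sub_distrib, Matrix.one_apply, ite_mul, one_mul, zero_mul, ite_smul, zero_smul,
        Finset.sum_ite_eq, Finset.mem_univ, if_true]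
      rw [Finset.sum_comm]
      simp only [mul_comm]
      abel
    let ι : (Fin 3 → K) →ₗ[K] W := Fintype.linearCombination K fun a => φ (t a) v
    let π : W →ₗ[K] (Fin 3 → K) := LinearMap.pi fun a => θ ∘ₗ φ (t a)
    have c3 : π ∘ₗ ι = LinearMap.id := LinearMap.ext fun c => funext fun a => by
      simp [π, ι, Fintype.linearCombination_apply, a2]
    have c4 : A.det = 1 := by
      have e1 : (e : W →ₗ[K] W) = 1 + ι ∘ₗ (Matrix.toLin' (A - 1) ∘ₗ π) := LinearMap.ext fun w => by
        generalize A - 1 = A' at c2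
        simp [c2, ι, π, Fintype.linearCombination_apply, Matrix.mulVec, dotProduct, Finset.sum_smul]
      have e2 := congrArg Units.val he.2
      rwa [LinearEquiv.coe_det, e1, det_one_add_comp, LinearMap.comp_assoc, c3, LinearMap.comp_id,
        map_sub, Matrix.toLin'_one, ← End.one_eq_id, add_sub_cancel, LinearMap.det_toLin'] at e2
    have c5 := un_mat (A := A) (by rw [c4]; exact one_ne_zero)
    have c6 : ∀ c, e (ι c) = ι (A.mulVec c) := fun c => by
      simp only [ι, Fintype.linearCombination_apply, map_sum, map_smul, c1, Finset.smul_sum,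
        smul_smul, Matrix.mulVec, dotProduct, Finset.sum_smul]
      rw [Finset.sum_comm]
      simp only [mul_comm]
    have c7 : ∀ c c', B (ι c') (ι c) = H25.stdSes (frob hF) c c' * B v v := fun c c' => by
      simp only [ι, Fintype.linearCombination_apply, map_sum, LinearMap.map_smulₛₗ,
        LinearMap.sum_apply, LinearMap.smul_apply, b2, a2, H25.stdSes, Finset.sum_mul]
      simp [mul_assoc]
    obtain ⟨g, hg, e'⟩ := hφ.exists_im R.un (hS (L3.G0_eq hF ▸ ⟨fun c c' => by
      change H25.stdSes _ ((un A).val.mulVec c) ((un A).val.mulVec c') = _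
      rw [c5, ← mul_left_inj' b0, ← c7, ← c7, ← c6, ← c6, he.1],
      H25.mem_specialLinear.2 (by rw [c5, c4])⟩ : un A ∈ L3.G0 K q))
    rwa [show e = g from LinearEquiv.ext fun w => by rw [e', a4, c5, c2]]
  have hv : B (φ (t 0) v) (φ (t 0) v) ≠ 0 := by rwa [inv _ (hFr.tm 0) (hFr.tt 0)]
  have hv' := hG.le_uSub hB (hU' 0)
  have h1i : (1 + i : K) ≠ 0 := fun e => h.two (by linear_combination (1 - i : K) * e + hi')
  have htop : uSub M B U = ⊤ := hφ.irr' R.pau R.lin (fun j hj e w hw => by
    obtain ⟨g, hg, e1⟩ := hφ.exists_im R.un (R.le hj)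
    obtain ⟨r, hr, e2⟩ := hφ.exists_im R.un (mul_mem (R.le (R.pau.sc_le (sc_mem (Units.mk0 _ h1i)⁻¹)))
      (R.ga j hj e))
    simp only [sc_mul_val, h.ga_val e, map_smul, map_add, hφ.one, LinearMap.smul_apply,
      LinearMap.add_apply, End.one_apply, Units.val_inv_eq_inv_val, Units.val_mk0] at e2
    have g1 : g ∈ isom B := fun u w => by rw [e1, e1, jiso j hj e]
    have r1 : r ∈ isom B := fun u w => by
      have e3 : B (φ j u) w = -B u (φ j w) := by
        rw [← jiso j hj e, hφ.mul_apply (val_mem_Al hj) (val_mem_Al hj), nsq_val e]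
        simp [hφ.one]
      have e4 : (1 - i : K) ≠ 0 := fun e => h.two (by linear_combination (1 + i : K) * e + hi')
      rw [e2, e2, form_smul_left, form_smul_right]
      simp only [map_add, LinearMap.add_apply, jiso j hj e, e3, map_inv₀, map_one, hσ,
        ← sub_eq_add_neg]
      field_simp
      linear_combination (B u w) * hi'
    rcases hG.map_eq_or hB ⟨hg, g1⟩ g1 with c | c
    · exact c ▸ ⟨w, hw, e1 w⟩
    exfalso
    have c1 := c ⟨_, hv', e1 _⟩
    rcases hG.map_eq_or hB ⟨hr, r1⟩ r1 with c' | c'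
    · have c2 : r (φ (t 0) v) ∈ uSub M B U := c' ▸ ⟨_, hv', rfl⟩
      rw [e2, Submodule.smul_mem_iff _ (inv_ne_zero h1i), Submodule.add_mem_iff_right _ hv'] at c2
      exact hv (jiso j hj e _ _ ▸ c1 _ c2)
    · have c2 := c' ⟨_, hv', e2 _⟩
      rw [Submodule.smul_mem_iff _ (inv_ne_zero h1i), Submodule.add_mem_iff_left _ c1] at c2
      exact hv (c2 _ hv')) ((Submodule.ne_bot_iff _).2 ⟨_, hv', fun e => hv (by simp [e])⟩)
  exact (hG.mem_of_top hB htop (by have := hφ.finrank_sq R.pau h; nlinarith) e he).1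

end H60.Cl
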