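import Cfsg.Agent.H60.PauA

/-! Overgroups of the Clifford group in the linear case: the main theorem. -/

set_option autoImplicit false
set_option linter.unusedSectionVars false

namespace H60.Cl

open scoped commutatorElement MatrixGroups

variable {K E : Type*} [Field K] [Ring E] [Algebra K E] [Finite E]
variable {τ : E →ₗ[K] K} {P G N D : Subgroup Eˣ} {x y z d g j u v b : Eˣ}
variable {S : Subgroup (GL (Fin 3) K)} {i : Kˣ}

theorem Amb.sc_sq (h : Amb τ) (hz : z ∈ Zs K E) (e : z * z = 1) : z = 1 ∨ z = -1 := by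
  obtain ⟨c, rfl⟩ := hz
  have h3 : c * c = 1 := h.sc_inj (by rw [map_one, map_mul, e])
  rcases mul_self_eq_one_iff.1 (congrArg Units.val h3) with h4 | h4
  · left; rw [show c = 1 from Units.ext h4, map_one]
  · right; rw [show c = -1 from Units.ext h4, sc_neg, map_one]

theorem Amb.eq_or_neg (h : Amb τ) (e : x * x = y * y) (hz : x * y⁻¹ ∈ Zs K E) : x = y ∨ x = -y := by
  have e1 : x * y⁻¹ * (x * y⁻¹) = 1 := by
    rw [Zs_comm hz, mul_assoc, ← Zs_comm hz y⁻¹, ← mul_assoc, ← mul_assoc, e]; simp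
  rcases h.sc_sq hz e1 with e2 | e2
  · exact Or.inl (mul_inv_eq_one.1 e2)
  · exact Or.inr (by rw [eq_mul_of_mul_inv_eq e2, neg_one_mul])

theorem Pau.no_sharp (hP : Pau K P) (hL : Lin K P) (h : Amb τ) (hi : i * i = -1) (h16 : 16 ≤ rk K P)
    {T : Set (Eˣ ⧸ Zs K E)} (hT : T ⊆ Nr (P.map (pr K E))) (hs : ∀ a ∈ P.map (pr K E), a ≠ 1 →
      ∀ b ∈ P.map (pr K E), b ≠ 1 → ∃! s, s ∈ T ∧ s * a * s⁻¹ = b) : False := by
  classical
  have := Fintype.ofFinite T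
  have := Fintype.ofFinite (P.map (pr K E))
  choose f hf using fun s : T => QuotientGroup.mk'_surjective (Zs K E) s.1
  have f1 : ∀ s, f s ∈ Nm P := fun s => Nm_of_pr hP.sc_le (hf s ▸ hT s.2)
  obtain ⟨d, x, H, hx⟩ := hL.exists_hyp hP (not_le_of_rk (by omega))
  have hP1 := hP.p1 H.hd H.hx H.an
  obtain ⟨d', x', H', -⟩ := (hL.mono P1_le).exists_hyp hP1 (not_le_of_rk (by
    have := hP.rk_P1 H.hd H.hx; omega))
  have n1 : Abelianization.of (⟨-1, hP.sc_le neg_one_mem⟩ : P) = 1 := by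
    have : (⟨-1, hP.sc_le neg_one_mem⟩ : P) = ⁅(⟨d, H.hd⟩ : P), ⟨x, H.hx⟩⁆ := Subtype.ext (by
      change -1 = d * x * d⁻¹ * x⁻¹
      rw [conj_of_anti H.an]; simp)
    rw [this, map_commutatorElement, commutatorElement_eq_one_iff_mul_comm, mul_comm]
  have hl : ∀ a : P.map (pr K E), ∃ w : P, pr K E w = a ∧ w.1 * w = 1 := by
    rintro ⟨_, y, hy, rfl⟩
    obtain ⟨c, hc, e⟩ := hL.pos y hy
    exact ⟨⟨_, mul_mem (hP.sc_le hc) hy⟩, by simp only [map_mul, pr_eq_one.2 hc, one_mul], e⟩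
  choose l l1 l2 using hl
  let π : P →* Abelianization P := ∏ s : T, Abelianization.of.comp
    (MonoidHom.mk' (fun a : P => ⟨f s * a * (f s)⁻¹, Nm_conj (f1 s) a.2⟩) fun a b => Subtype.ext (by simp))
  have πa : ∀ a : P, π a = ∏ s : T, Abelianization.of
    (⟨f s * a * (f s)⁻¹, Nm_conj (f1 s) a.2⟩ : P) := fun a => MonoidHom.finsetProd_apply ..
  have key : ∀ a : P, a.1 ∉ Zs K E → a.1 * a = 1 → Fintype.card T = rk K P - 1 ∧
      π a = ∏ b : {b : P.map (pr K E) // b ≠ 1}, Abelianization.of (l b) := by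
    intro a h1 h2
    let φ : T → {b : P.map (pr K E) // b ≠ 1} := fun s => ⟨⟨pr K E (f s * a * (f s)⁻¹), _,
      Nm_conj (f1 s) a.2, rfl⟩, fun e => h1 (conj_mem_Zs.1 (pr_eq_one.1 (congrArg Subtype.val e)))⟩
    have e0 : ∀ s, (φ s).1.1 = s * pr K E a * s.1⁻¹ := fun s => by simp [φ, ← hf]
    have hφ : Function.Bijective φ := (Function.bijective_iff_existsUnique φ).2 fun b => by
      obtain ⟨s, ⟨s1, s2⟩, s3⟩ := hs _ ⟨a, a.2, rfl⟩ (mt pr_eq_one.1 h1) b.1.1 b.1.2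
        fun e => b.2 (Subtype.ext e)
      exact ⟨⟨s, s1⟩, Subtype.ext (Subtype.ext ((e0 _).trans s2)), fun t ht =>
        Subtype.ext (s3 _ ⟨t.2, (e0 t).symm.trans (congrArg (·.1.1) ht)⟩)⟩
    refine ⟨by rw [Fintype.card_of_bijective hφ, Fintype.card_subtype_compl, ← card_pr,
      Nat.card_eq_fintype_card]; simp, ?_⟩
    rw [πa, ← hφ.prod_comp]
    refine Finset.prod_congr rfl fun s _ => ?_
    rcases h.eq_or_neg (x := f s * a.1 * (f s)⁻¹) (y := l (φ s))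
      ((conj_sq _ h2 (one_mem (Zs K E))).trans (l2 _).symm)
      (by rw [← pr_eq_one, map_mul, map_inv, l1, mul_inv_cancel]) with e | e
    · exact congrArg _ (Subtype.ext e)
    · rw [← one_mul (Abelianization.of (l _)), ← n1, ← map_mul]
      exact congrArg _ (Subtype.ext (by simpa using e))
  obtain ⟨⟨a1, a2⟩, a3⟩ := mem_P1.1 H'.hd
  have k1 := key ⟨d, H.hd⟩ (h.notMem_of_anti H.an) H.dd
  have k2 := (key ⟨d', a1⟩ (h.notMem_of_anti H'.an) H'.dd).2
  have k3 := (key (⟨d, H.hd⟩ * ⟨d', a1⟩) (h.notMem_of_anti (anti_symm (ac (anti_symm H.an) a3.symm)))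
    (by change d * d' * (d * d') = 1
        rw [mul_assoc, ← mul_assoc d', a2, mul_assoc, H'.dd, mul_one, H.dd])).2
  have k4 := (key ⟨x, H.hx⟩ (h.notMem_of_anti (anti_symm H.an)) hx).2
  have k5 := (key (⟨_, hP.sc_le (sc_mem i)⟩ * (⟨d, H.hd⟩ * ⟨x, H.hx⟩))
    (h.notMem_of_anti (sc_anti (sc_mem i) (anti_symm (ca rfl H.an)))) (by
      change Cl.sc K E i * (d * x) * (Cl.sc K E i * (d * x)) = 1
      rw [mul_assoc, ← mul_assoc (d * x), ← sc_comm, mul_assoc, ← mul_assoc (Cl.sc K E i), ← map_mul, hi,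
        mul_assoc d, ← mul_assoc x, anti_symm H.an]
      simp [sc_neg, ← mul_assoc, H.dd, hx])).2
  rw [map_mul, k1.2, k2, mul_eq_left] at k3
  rw [map_mul, map_mul, k1.2, k4, k3, mul_one, mul_one, πa, Finset.prod_congr rfl
    (g := fun _ => Abelianization.of (⟨_, hP.sc_le (sc_mem i)⟩ : P)) (fun s _ => congrArg _
      (Subtype.ext (by simp [← sc_comm]))), Finset.prod_const, Finset.card_univ, k1.1, ← map_pow,
    ← MonoidHom.mem_ker, Abelianization.ker_of] at k5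
  have hc : commutator P ≤ (Subgroup.zpowers (-1 : Eˣ)).subgroupOf P :=
    Subgroup.commutator_le.2 fun a _ b _ => by
      change a.1 * b * a.1⁻¹ * b.1⁻¹ ∈ Subgroup.zpowers (-1 : Eˣ)
      rcases hP.conj_eq a.2 b.2 with e | e <;> rw [e]
      · simp
      · simp
  obtain ⟨k, hk⟩ := hc k5
  obtain ⟨m, hm⟩ := hP.rk_pow
  have ho : Odd (rk K P - 1) := by
    refine Nat.Even.sub_odd (by omega) (hm ▸ (Nat.even_pow.2 ⟨even_two, ?_⟩)) odd_one
    rintro rfl; omega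
  have := congrArg (· ^ 2) hk
  simp only [Subgroup.coe_subtype, SubmonoidClass.coe_pow] at this
  rw [← pow_mul, mul_comm, pow_mul, ← map_pow, _root_.sq i, hi, sc_neg, map_one, ho.neg_one_pow,
    ← zpow_natCast, ← zpow_mul, mul_comm, zpow_mul] at this
  exact h.ne_neg 1 (by simpa using this)

theorem Rel.ti (R : Rel K P G N) (h : Amb τ)
    (hc : ∀ d x, Hyp P d x → ∀ g ∈ G, g * d = d * g → g ∈ Nm P) (g : Eˣ) (hg : g ∈ G) (y : Eˣ)
    (hy : y ∈ P) (hy' : y ∉ Zs K E) (h1 : g * y * g⁻¹ ∈ P) : g ∈ Nm P := by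
  obtain ⟨c, hc', e⟩ := R.lin.pos y hy
  have hd := mul_mem (R.pau.sc_le hc') hy
  have hd' : c * y ∉ Zs K E := fun hz => hy' ((mul_mem_cancel_left hc').1 hz)
  obtain ⟨x, hx, a⟩ := R.pau.exists_anti hd hd'
  obtain ⟨s, ⟨s1, s2, -⟩, e'⟩ := (R.ga.inf R.pau h).trans R.pau R.lin h hd hd'
    (y := g * (c * y) * g⁻¹) (by
      rw [← conj_mul]; exact mul_mem (R.pau.sc_le (conj_mem_Zs.2 hc')) h1)
    (mt conj_mem_Zs.1 hd') e (conj_sq g e (one_mem (Zs K E)))
  have := hc _ x ⟨hd, hx, e, anti_symm a⟩ _ (mul_mem (inv_mem s1) hg)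
    (mul_inv_eq_iff_eq_mul.1 (by rw [mul_inv_rev, mul_assoc s⁻¹, ← mul_assoc, mul_assoc s⁻¹, ← e']; group))
  exact ((Nm P).mul_mem_cancel_left ((Nm P).inv_mem s2)).1 this

/-- the main theorem in the linear case -/
theorem Rel.main (R : Rel K P G N) (h : Amb τ) (hi : i * i = -1) (h3 : H3 (i : K) S)
    (h16 : 16 ≤ rk K P) : G ≤ Nm P ∨ Big K S P N := by
  by_contra hn
  push Not at hn
  obtain ⟨g, hg, hg'⟩ := SetLike.not_le_iff_exists.1 hn.1
  have hT := R.pau.ti R.le (R.ti h fun d x H g hg hc => R.cen h hi h3 hn.2 h16 H hg hc)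
  have hS := R.pau.sc h R.un hT h16 (fun D hD hZ _ b b' _ _ y hy e1 e2 => by
    obtain ⟨c, hc, e⟩ := R.lin.neg y (hD hy)
    have hj := mul_mem (R.pau.sc_le hc) (hD hy)
    have a := sc_anti hc e2
    refine ⟨_, R.ga _ hj e, (h.ga_comm e (sc_comm' hc e1).symm).symm, ?_⟩
    rw [commutatorElement_def, h.ga_anti e a, mul_inv_cancel_right]
    exact ⟨hj, h.notMem_of_anti a⟩) R.le
  obtain ⟨T, t1, t2⟩ := hT.sharp hS ⟨g, hg, rfl⟩ fun e => hg' (Nm_of_pr R.pau.sc_le e)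
  exact R.pau.no_sharp R.lin h hi h16 (fun s hs => (t1 hs).2) t2

end H60.Cl
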