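import Cfsg.Agent.H60.PmB

/-! Overgroups of the real Clifford group: centralisers of skew elements. -/

set_option autoImplicit false
set_option linter.unusedSectionVars false

namespace H60.Cl

open scoped commutatorElement MatrixGroups

variable {K E : Type*} [Field K] [Ring E] [Algebra K E] [Finite E]
variable {τ : E →ₗ[K] K} {P G N Q : Subgroup Eˣ} {x y z d g j u v w b D : Eˣ} {A : Adj K E}

/-- an overgroup of the real Clifford group -/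
structure Rel2 (A : Adj K E) (P G : Subgroup Eˣ) : Prop where
  pau : Pau K P
  le : P ≤ G
  un : G ≤ Un K P
  sim : G ≤ A.S
  two : ∀ j ∈ P, j ∈ A.I → j * j = -1 → ∀ j' ∈ P, j' ∈ A.I → j' * j' = -1 → ga j * ga j' ∈ G

theorem Rel2.ort (R : Rel2 A P G) : Ort A P := ⟨R.pau, R.le.trans R.sim⟩

theorem Rel2.inf (R : Rel2 A P G) (h : Amb τ) : Rel2 A P (G ⊓ Nm P) where
  pau := R.pau
  le := le_inf R.le Subgroup.le_normalizer
  un := inf_le_left.trans R.un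
  sim := inf_le_left.trans R.sim
  two j h1 h2 h3 j' h4 h5 h6 :=
    ⟨R.two j h1 h2 h3 j' h4 h5 h6, mul_mem (R.pau.ga_Nm h h3 h1) (R.pau.ga_Nm h h6 h4)⟩

theorem mul_sq_comm (h : x * y = y * x) : x * y * (x * y) = x * x * (y * y) := by
  rw [mul_assoc, ← mul_assoc y, ← h]; simp only [mul_assoc]

theorem mul_sq_anti (h : x * y = -(y * x)) : x * y * (x * y) = -(x * x * (y * y)) := by
  rw [mul_assoc, ← mul_assoc y, anti_symm h]; simp only [mul_assoc, neg_mul, mul_neg]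

theorem Rel2.ct_neg (R : Rel2 A P G) (h : Amb τ) (hd : d ∈ P) (hd' : d ∈ A.I) (dd : d * d = 1)
    (hj : j ∈ P) (hj' : j ∈ A.I) (jj : j * j = -1) (hc : j * d = d * j) : ct K d j ∈ G := by
  obtain ⟨e1, e2⟩ := h.ct_eq_ga dd jj hc
  rw [e2]
  exact mul_mem (inv_mem (R.le (R.pau.sc_le h.tw_mem)))
    (R.two _ hj hj' jj _ (mul_mem hd hj) (mul_mem hd' hj') e1)

theorem Rel2.ct_mem (R : Rel2 A P G) (h : Amb τ) (h16 : 16 < rk K P) (hd : d ∈ P) (hd' : d ∈ A.I)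
    (dd : d * d = 1) (hy : y ∈ P) (hy' : y ∈ A.I) (hc : y * d = d * y) : ct K d y ∈ G := by
  rcases R.ort.sq h hy hy' with e | e
  swap
  · exact R.ct_neg h hd hd' dd hy hy' e hc
  obtain ⟨j, h1, h2, h3, h4, -⟩ := R.ort.pat h ![d, y] (Fin.forall_fin_two.2 ⟨hd, hy⟩) h16
    (one_mem _) (Or.inr rfl)
  have c1 : j * d = d * j := h4 0 (by simp)
  have c2 : j * y = y * j := h4 1 (by simp)
  have := R.ct_neg h hd hd' dd (mul_mem h1 hy) (mul_mem h2 hy') (by rw [mul_sq_comm c2, h3, e, mul_one])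
    (cc c1.symm hc.symm).symm
  rw [h.ct_mul dd c1 hc] at this
  exact (G.mul_mem_cancel_left (R.ct_neg h hd hd' dd h1 h2 h3 c1)).1 this

theorem Rel2.trans (R : Rel2 A P G) (h : Amb τ) (h16 : 16 < rk K P) (hx : x ∈ P) (hx' : x ∈ A.I)
    (hx0 : x ∉ Zs K E) (hy : y ∈ P) (hy' : y ∈ A.I) (hy0 : y ∉ Zs K E) (e : x * x = y * y) :
    ∃ s ∈ G, s * x * s⁻¹ = y := by
  obtain ⟨w, hw, a1, a2⟩ := R.pau.exists_anti2 hx hx0 hy hy0
  obtain ⟨w', h1, h2, h3, -, h4⟩ := R.ort.pat h ![x, y] (Fin.forall_fin_two.2 ⟨hx, hy⟩) h16 hw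
    (R.ort.sq h hx hx')
  have b1 := anti_symm (h4 0 a1)
  have b2 : w' * y = -(y * w') := h4 1 a2
  refine ⟨_, R.two _ (mul_mem hy (inv_mem h1)) (mul_mem hy' (inv_mem h2)) (move_sq b2 (h3.trans e))
    _ (mul_mem h1 (inv_mem hx)) (mul_mem h2 (inv_mem hx')) (move_sq b1 h3.symm), ?_⟩
  rw [mul_inv_rev, mul_assoc (ga _), ← mul_assoc, mul_assoc (ga _) (_ * _)]
  exact (congrArg (fun t => _ * t * _) (h.move b1 h3.symm)).trans (h.move b2 (h3.trans e))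

/-! ### skew involutions -/

variable {S : Subgroup (GL (Fin 3) K)} {i : Kˣ}

theorem Adj.skew (hi : i * i = -1) (dd : D * D = 1) : sc K E i * D ∈ A.I ↔ A.ad D = -D := by
  rw [Adj.mem_I_of_nsq (isq hi dd), Adj.ad_mul, Adj.ad_Zs (sc_mem i), ← sc_comm, ← mul_neg,
    mul_right_inj]

theorem Rel2.down (R : Rel2 A P G) (h : Amb τ) (hi : i * i = -1) (H : Hyp P D x)
    (hD : A.ad D = -D) : Rel K (P1 P D x) (Gp (K := K) (Un K (P1 P D x)) G fun _ => Un_P1_d)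
      (Gp (K := K) (Un K (P1 P D x)) G fun _ => Un_P1_d) where
  pau := R.pau.p1 H.hd H.hx H.an
  lin := (R.ort.lin h hi).mono P1_le
  le _ hu := mem_Gp_of (le_Un hu) (R.le (P1_le hu))
  un _ hu := hu.1
  nle := le_rfl
  nm := Subgroup.le_normalizer
  jm _ hu _ := mem_Gp_of (le_Un hu) (R.le (P1_le hu))
  ga j hj e := by
    have c := (mem_P1.1 hj).1.2
    obtain ⟨j', h1, h2, h3, h4, h5⟩ : ∃ j' ∈ P, j' ∈ A.I ∧ j' * j' = -1 ∧ j' * D = D * j' ∧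
        (j' : E) * ee K D = j * ee K D := by
      rcases R.ort.typ h (P1_le hj) with e1 | e1
      · have e2 : j * D * (j * D) = -1 := by rw [mul_sq_comm c, e, H.dd, mul_one]
        exact ⟨_, mul_mem (P1_le hj) H.hd, (Adj.mem_I_of_nsq e2).2 (by
          rw [Adj.ad_mul, hD, e1, c, neg_mul]), e2, (cc c.symm rfl).symm, by
          rw [Units.val_mul, mul_assoc, mul_ee H.dd]⟩
      · exact ⟨j, P1_le hj, (Adj.mem_I_of_nsq e).2 e1, e, c, rfl⟩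
    have j1 := isq (E := E) hi H.dd
    have i1 : 1 + (i : K) ≠ 0 := fun e => h.two (by
      have hi' : (i : K) * i = -1 := congrArg Units.val hi
      linear_combination (1 - (i : K)) * e + hi')
    have c1 : D * (sc K E i * D) = sc K E i * D * D := (sc_comm' (sc_mem i) rfl).symm
    refine ⟨h.ga_Un e hj, sc K E (Units.mk0 _ i1)⁻¹ * (Cl.ga j' * Cl.ga (sc K E i * D)),
      mul_mem (R.le (R.pau.sc_le (sc_mem _))) (R.two _ h1 h2 h3 _
        (mul_mem (R.pau.sc_le (sc_mem _)) H.hd) ((Adj.skew hi H.dd).2 hD) j1),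
      sc_comm' (sc_mem _) (cc (h.ga_comm h3 h4.symm) (h.ga_comm j1 c1)).symm, ?_⟩
    rw [sc_mul_val, Units.val_mul, h.ga_val j1, h.ga_val h3, h.ga_val e, smul_mul_assoc, mul_assoc,
      add_mul 1 _ (ee K D), sc_mul_val, smul_mul_assoc, mul_ee H.dd, one_mul,
      show ee K D + (i : K) • ee K D = (1 + (i : K)) • ee K D by rw [add_smul, one_smul],
      mul_smul_comm, smul_smul, add_mul, add_mul, h5]
    simp [i1]

theorem Amb.st_ee (A : Adj K E) (d : Eˣ) : A.st (ee K d) = ee K (A.ad d) := by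
  rw [ee, map_smul, map_add, A.one]; rfl

theorem Amb.eq_ct (h : Amb τ) (dd : D * D = 1) (hD : A.ad D = -D) (hg : g ∈ A.S)
    (hc : g * D = D * g) (e : (g : E) * ee K D = ee K D) : ∃ z ∈ Zs K E, g = ct K (-D) z := by
  have hz := Adj.mult hg
  refine ⟨_, hz, Units.ext ?_⟩
  have e1 := congrArg A.st e
  rw [A.mul, Amb.st_ee, hD] at e1
  rw [h.ct_val (by simp [dd]) (Zs_comm hz _), ee_comm (comm_val (Zs_comm hz _)), Units.val_mul,
    Adj.ad_val, ← mul_assoc, e1, h.ee_neg, sub_sub_cancel, sub_mul, ← ee_comm (comm_val hc), e]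
  simp

theorem Amb.skew_notMem (h : Amb τ) (h1 : j ∈ A.I) (h2 : j * j = -1) : j ∉ Zs K E := fun hz => by
  rcases h.I_Zs h1 hz with rfl | rfl <;> exact h.ne_neg 1 (by simpa using h2)

theorem Adj.exists_skew (hi : i * i = -1) (h1 : j ∈ A.I) (h2 : j * j = -1) :
    sc K E i⁻¹ * j * (sc K E i⁻¹ * j) = 1 ∧ A.ad (sc K E i⁻¹ * j) = -(sc K E i⁻¹ * j) := by
  have e : sc K E i⁻¹ * j * (sc K E i⁻¹ * j) = 1 := by
    rw [sc_mul_sq, h2, ← mul_inv, hi]; simp [sc_neg]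
  exact ⟨e, (Adj.skew hi e).1 (by simpa using h1)⟩

theorem Rel2.cen_skew (R : Rel2 A P G) (h : Amb τ) (hi : i * i = -1) (h16 : 16 < rk K P)
    (hB : ∀ D x, Hyp P D x → A.ad D = -D →
      Gp (K := K) (Un K (P1 P D x)) G (fun _ => Un_P1_d) ≤ Nm (P1 P D x))
    (H : Hyp P D x) (hD : A.ad D = -D) (hg : g ∈ G) (hc : g * D = D * g) : g ∈ Nm P := by
  obtain ⟨u, hu, e1⟩ := H.part R.pau h (R.un hg) hc
  have R' := (R.inf h).down h hi H hD
  obtain ⟨-, k, ⟨k1, k2⟩, k3, k4⟩ := Gates.gen h _ _ rfl R'.pau R'.lin R'.le R'.ga u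
    (hB D x H hD ⟨hu, g, hg, hc, e1⟩) hu
  have m := G.mul_mem (G.inv_mem k1) hg
  obtain ⟨z, hz, e2⟩ := h.eq_ct H.dd hD (R.sim m) (cc (cinv k3.symm) hc.symm).symm (by
    rw [Units.val_mul, mul_assoc, e1, ← k4, Units.inv_mul_cancel_left])
  refine ((Nm P).mul_mem_cancel_left ((Nm P).inv_mem k2)).1 ?_
  rw [e2] at m ⊢
  have H1 := H.neg R.pau
  have c3 := Zs_comm hz (-D)
  obtain ⟨j, j1, j2, j3, j4, -⟩ := R.ort.pat h ![D, x] (Fin.forall_fin_two.2 ⟨H.hd, H.hx⟩) h16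
    (one_mem _) (Or.inr rfl)
  have j5 : j ∈ P1 P D x := mem_P1.2 ⟨⟨j1, j4 0 (by simp)⟩, j4 1 (by simp)⟩
  obtain ⟨x', hx', an⟩ := R'.pau.exists_anti j5 (h.skew_notMem j2 j3)
  obtain ⟨s1, s2⟩ := Adj.exists_skew hi j2 j3
  obtain ⟨⟨a1, a2⟩, a3⟩ := mem_P1.1 (mul_mem (R'.pau.sc_le (sc_mem i⁻¹)) j5)
  obtain ⟨⟨b1, b2⟩, b3⟩ := mem_P1.1 hx'
  have H0 : Hyp P _ x' := ⟨a1, b1, s1, sc_anti (sc_mem _) (anti_symm an)⟩
  have k5 := hB _ _ H0 s2 (mem_Gp_of (h.ct_Un H1.dd (mem_P1.2 ⟨⟨H1.hd, by rw [neg_mul, mul_neg, a2]⟩, by simp [b2]⟩)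
    c3 (le_Un ((R.pau.p1 a1 b1 H0.an).sc_le hz))) m)
  refine mem_Nm_of_P1 R.pau H1.hd H.hx H1.an ?_
    (P1_le (Nm_conj k5 (mem_P1.2 ⟨⟨H.hx, a3.symm⟩, b3.symm⟩))) fun y hy => ?_
  · rw [← h.ct_comm H1.dd c3 rfl c3.symm, mul_inv_cancel_right]; exact H1.hd
  · rw [← h.ct_comm H1.dd c3 (mem_P1.1 hy).1.2 (Zs_comm hz y).symm, mul_inv_cancel_right]
    exact P1_le hy

end H60.Cl
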