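import Cfsg.Agent.H60.PauMat

/-! Extraspecial groups of isometries: adjoints, types, two-gate elements. -/

set_option autoImplicit false
set_option linter.unusedSectionVars false

namespace H60.Cl

open scoped commutatorElement

variable (K E : Type*) [Field K] [Ring E] [Algebra K E] in
/-- an anti-automorphism -/
structure Adj where
  /-- the adjoint -/
  st : E →ₗ[K] E
  mul : ∀ a b, st (a * b) = st b * st a
  one : st 1 = 1

variable {K E : Type*} [Field K] [Ring E] [Algebra K E] [Finite E]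
variable {τ : E →ₗ[K] K} {P G N D Q : Subgroup Eˣ} {x y z d g j u v w b : Eˣ} {A : Adj K E}

/-- the adjoint of a unit -/
def Adj.ad (A : Adj K E) (g : Eˣ) : Eˣ :=
  ⟨A.st g, A.st ↑g⁻¹, by rw [← A.mul, Units.inv_mul, A.one], by rw [← A.mul, Units.mul_inv, A.one]⟩

theorem Adj.ad_val (g : Eˣ) : (A.ad g : E) = A.st g := rfl

theorem Adj.ad_mul (a b : Eˣ) : A.ad (a * b) = A.ad b * A.ad a := Units.ext (A.mul a b)

theorem Adj.ad_inv (a : Eˣ) : A.ad a⁻¹ = (A.ad a)⁻¹ := rfl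

theorem Adj.ad_neg (a : Eˣ) : A.ad (-a) = -A.ad a := Units.ext (map_neg A.st _)

theorem Adj.ad_Zs (hz : z ∈ Zs K E) : A.ad z = z := by
  obtain ⟨c, rfl⟩ := hz
  exact Units.ext (by rw [ad_val, sc_val, Algebra.algebraMap_eq_smul_one, map_smul, A.one])

/-- the isometries -/
def Adj.I (A : Adj K E) : Subgroup Eˣ where
  carrier := {g | A.ad g = g⁻¹}
  one_mem' := Units.ext A.one
  mul_mem' {a b} ha hb := by
    rw [Set.mem_setOf_eq] at *; rw [A.ad_mul, ha, hb, mul_inv_rev]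
  inv_mem' {a} ha := by rw [Set.mem_setOf_eq] at *; rw [A.ad_inv, ha]

theorem Adj.mem_I : g ∈ A.I ↔ A.ad g = g⁻¹ := Iff.rfl

theorem Adj.neg_mem (hg : g ∈ A.I) : -g ∈ A.I := by
  rw [mem_I] at *; rw [ad_neg, hg, inv_neg]

/-- the similarities with square multiplier -/
abbrev Adj.S (A : Adj K E) : Subgroup Eˣ := A.I ⊔ Zs K E

theorem Adj.mem_S : g ∈ A.S ↔ ∃ c ∈ Zs K E, c * g ∈ A.I :=
  mem_sup_Zs.trans ⟨fun ⟨c, r, hr, e⟩ => ⟨_, inv_mem (sc_mem c), by rwa [e, inv_mul_cancel_left]⟩,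
    fun ⟨_, ⟨c, rfl⟩, h⟩ => ⟨c⁻¹, _, h, by simp⟩⟩

theorem Adj.conj (hg : g ∈ A.S) (hx : x ∈ A.I) : g * x * g⁻¹ ∈ A.I := Nm_conj (le_Nm_sup hg) hx

theorem Adj.mult (hg : g ∈ A.S) : A.ad g * g ∈ Zs K E := by
  obtain ⟨c, hc, e⟩ := mem_S.1 hg
  rw [mem_I, ad_mul, ad_Zs hc, mul_inv_rev] at e
  rw [eq_mul_inv_of_mul_eq e, mul_assoc g⁻¹, mul_assoc, Zs_comm (mul_mem (inv_mem hc) (inv_mem hc)),
    inv_mul_cancel_left]
  exact mul_mem (inv_mem hc) (inv_mem hc)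

theorem Adj.mem_I_of_sq (h1 : x * x = 1) : x ∈ A.I ↔ A.ad x = x := by
  rw [mem_I, inv_eq_of_mul_eq_one_right h1]

theorem inv_of_nsq (h1 : j * j = -1) : j⁻¹ = -j := inv_eq_of_mul_eq_one_right (by simp [h1])

theorem Adj.mem_I_of_nsq (h1 : j * j = -1) : j ∈ A.I ↔ A.ad j = -j := by
  rw [mem_I, inv_of_nsq h1]

theorem Amb.I_Zs (h : Amb τ) (h1 : z ∈ A.I) (h2 : z ∈ Zs K E) : z = 1 ∨ z = -1 :=
  h.sc_sq h2 (by nth_rw 1 [← A.ad_Zs h2, h1, inv_mul_cancel])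

/-- a Pauli group of similarities -/
structure Ort (A : Adj K E) (P : Subgroup Eˣ) : Prop where
  pau : Pau K P
  sim : P ≤ A.S

theorem Ort.real (O : Ort A P) (hx : x ∈ P) : ∃ c ∈ Zs K E, c * x ∈ P ∧ c * x ∈ A.I :=
  (Adj.mem_S.1 (O.sim hx)).imp fun _ h => ⟨h.1, mul_mem (O.pau.sc_le h.1) hx, h.2⟩

theorem Ort.sq (O : Ort A P) (h : Amb τ) (hx : x ∈ P) (hx' : x ∈ A.I) : x * x = 1 ∨ x * x = -1 :=
  h.I_Zs (mul_mem hx' hx') (O.pau.sq x hx)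

theorem Ort.typ (O : Ort A P) (h : Amb τ) (hx : x ∈ P) : A.ad x = x ∨ A.ad x = -x := by
  obtain ⟨c, hc, h1, h2⟩ := O.real hx
  refine (O.sq h h1 h2).imp (fun e => ?_) fun e => ?_
  · rwa [Adj.mem_I_of_sq e, Adj.ad_mul, Adj.ad_Zs hc, ← Zs_comm hc, mul_right_inj] at h2
  · rwa [Adj.mem_I_of_nsq e, Adj.ad_mul, Adj.ad_Zs hc, ← Zs_comm hc, ← mul_neg, mul_right_inj] at h2

theorem Ort.of_le (O : Ort A P) (hQ : Pau K Q) (h : Q ≤ P) : Ort A Q := ⟨hQ, h.trans O.sim⟩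

theorem Ort.lin (O : Ort A P) (h : Amb τ) {i : Kˣ} (hi : i * i = -1) : Lin K P :=
  (lin_sup (R := P ⊓ A.I) hi fun _ hx => O.sq h hx.1 hx.2).mono fun x hx => by
    obtain ⟨c, hc, h1⟩ := O.real hx
    exact (Subgroup.mul_mem_cancel_left _ (Subgroup.mem_sup_right hc)).1 (Subgroup.mem_sup_left h1)

/-! ### elements with prescribed type and commutation pattern -/

theorem Pau.cen_step (hP : Pau K P) (hy : y ∈ P) : ∃ Q ≤ P, Pau K Q ∧ rk K P ≤ 4 * rk K Q ∧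
    (∀ w ∈ Q, w * y = y * w) ∧ ∀ z ∈ P, ∃ z' ∈ Q, ∀ w ∈ Q, w * z' = z' * w → w * z = z * w := by
  by_cases hz : y ∈ Zs K E
  · exact ⟨P, le_rfl, hP, by omega, fun w _ => (Zs_comm hz w).symm, fun z hz => ⟨z, hz, fun _ _ e => e⟩⟩
  obtain ⟨x, hx, a⟩ := hP.exists_anti hy hz
  refine ⟨_, P1_le, hP.p1 hy hx (anti_symm a), hP.rk_P1 hy hx, fun w hw => (mem_P1.1 hw).1.2,
    fun z hz => ?_⟩
  rcases hP.decomp hy hx (anti_symm a) hz with e | e | e | e <;> refine ⟨_, e, fun w hw c => ?_⟩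
  · exact c
  · simpa using cc c (cinv (mem_P1.1 hw).1.2)
  · simpa using cc c (cinv (mem_P1.1 hw).2)
  · simpa only [mul_inv_cancel_right] using cc c (cinv (cc (mem_P1.1 hw).1.2 (mem_P1.1 hw).2))

theorem Pau.cen_list : ∀ (n : ℕ) {P : Subgroup Eˣ}, Pau K P → ∀ f : Fin n → Eˣ, (∀ a, f a ∈ P) →
    ∃ Q ≤ P, Pau K Q ∧ rk K P ≤ 4 ^ n * rk K Q ∧ ∀ a, ∀ w ∈ Q, w * f a = f a * w
  | 0, P, hP, _, _ => ⟨P, le_rfl, hP, by simp, fun a => a.elim0⟩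
  | n + 1, P, hP, f, hf => by
    obtain ⟨Q, q1, q2, q3, q4, q5⟩ := hP.cen_step (hf 0)
    choose g g1 g2 using fun a : Fin n => q5 _ (hf a.succ)
    obtain ⟨Q', r1, r2, r3, r4⟩ := Pau.cen_list n q2 g g1
    refine ⟨Q', r1.trans q1, r2, q3.trans (by rw [pow_succ', mul_assoc]; gcongr),
      Fin.forall_fin_succ.2 ⟨fun w hw => q4 w (r1 hw), fun a w hw => g2 a w (r1 hw) (r4 a w hw)⟩⟩

theorem Ort.adjust (O : Ort A P) (h : Amb τ) (hQ : Pau K Q) (hQP : Q ≤ P) (hn : ¬ Q ≤ Zs K E)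
    (hw : w ∈ P) {s : Eˣ} (hs : s = 1 ∨ s = -1) : ∃ a ∈ Q, w * a ∈ A.I ∧ w * a * (w * a) = s := by
  obtain ⟨c, hc, m1, m2⟩ := O.real hw
  rw [Zs_comm hc] at m1 m2
  suffices ∃ a ∈ Q, a ∈ A.I ∧ w * c * a * (w * c * a) = s by
    obtain ⟨a, h1, h2, h3⟩ := this
    exact ⟨c * a, mul_mem (hQ.sc_le hc) h1, by rw [← mul_assoc]; exact ⟨mul_mem m2 h2, h3⟩⟩
  generalize w * c = w at m1 m2
  by_contra hn'
  push Not at hn'
  have k : ∀ a ∈ Q, a ∈ A.I → a * w * a = w := fun a h1 h2 => by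
    have e1 := hn' a h1 h2
    have e2 := hn' 1 (one_mem _) (one_mem _)
    rw [mul_one] at e2
    refine mul_left_cancel (a := w) ?_
    rw [← mul_assoc, ← mul_assoc, mul_assoc (w * a)]
    rcases O.sq h (mul_mem m1 (hQP h1)) (mul_mem m2 h2) with e3 | e3 <;>
    rcases O.sq h m1 m2 with e4 | e4 <;> rcases hs with rfl | rfl <;> simp_all
  obtain ⟨a, ha, ha'⟩ := SetLike.not_le_iff_exists.1 hn
  obtain ⟨b, hb, an⟩ := hQ.exists_anti ha ha'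
  obtain ⟨c1, hc1, a1, a2⟩ := (O.of_le hQ hQP).real ha
  obtain ⟨c2, hc2, b1, b2⟩ := (O.of_le hQ hQP).real hb
  have an' := sc_anti hc1 (anti_symm (sc_anti hc2 an))
  have := k _ (mul_mem a1 b1) (mul_mem a2 b2)
  nth_rw 2 [an'] at this
  rw [mul_neg, ← mul_assoc, mul_assoc (c1 * a), mul_assoc (c1 * a), k _ b1 b2, k _ a1 a2] at this
  exact h.ne_neg w this.symm

/-- an element of prescribed type with the commutation pattern of `w` -/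
theorem Ort.pat (O : Ort A P) (h : Amb τ) {n : ℕ} (f : Fin n → Eˣ) (hf : ∀ a, f a ∈ P)
    (hn : 4 ^ n < rk K P) (hw : w ∈ P) {s : Eˣ} (hs : s = 1 ∨ s = -1) :
    ∃ w' ∈ P, w' ∈ A.I ∧ w' * w' = s ∧ (∀ a, w * f a = f a * w → w' * f a = f a * w') ∧
      ∀ a, w * f a = -(f a * w) → w' * f a = -(f a * w') := by
  obtain ⟨Q, q1, q2, q3, q4⟩ := O.pau.cen_list n f hf
  obtain ⟨a, h1, h2, h3⟩ := O.adjust h q2 q1 (not_le_of_rk (by
    by_contra hc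
    exact (hn.trans_le (q3.trans (Nat.mul_le_mul_left _ (not_lt.1 hc)))).ne (mul_one _).symm)) hw hs
  exact ⟨_, mul_mem hw (q1 h1), h2, h3, fun b e => (cc e.symm (q4 b a h1).symm).symm,
    fun b e => anti_symm (ac (anti_symm e) (q4 b a h1).symm)⟩

end H60.Cl
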