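import Cfsg.Agent.H60.PmA

/-! Overgroups of the real Clifford group: centralisers of symmetric involutions. -/

set_option autoImplicit false
set_option linter.unusedSectionVars false

namespace H60.Cl

open scoped commutatorElement MatrixGroups

variable {K E : Type*} [Field K] [Ring E] [Algebra K E] [Finite E]
variable {τ : E →ₗ[K] K} {P G N Q U : Subgroup Eˣ} {x y z d g j k u v w a b c D : Eˣ} {A : Adj K E}

theorem rk_le_four (h : ∀ y ∈ U, y ∈ Zs K E ∨ y * a ∈ Zs K E ∨ y * b ∈ Zs K E ∨ y * c ∈ Zs K E) :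
    rk K U ≤ 4 := by
  classical
  rw [← card_pr]
  refine le_trans ?_ (Finset.card_le_four (a := 1) (b := (pr K E a)⁻¹) (c := (pr K E b)⁻¹)
    (d := (pr K E c)⁻¹))
  rw [← Set.ncard_coe_finset]
  refine Set.ncard_le_ncard ?_ (Set.toFinite _)
  rintro _ ⟨y, hy, rfl⟩
  have := h y hy
  simp only [← pr_eq_one, map_mul, mul_eq_one_iff_eq_inv] at this
  simpa using this

theorem Pau.dual2 (hP : Pau K P) (ha : a ∈ P) (hb : b ∈ P) (hc : c ∈ P) (h1 : c ∉ Zs K E)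
    (h2 : c * a ∉ Zs K E) (h3 : c * b ∉ Zs K E) (h4 : c * b * a ∉ Zs K E) :
    ∃ y ∈ P, y * a = a * y ∧ y * b = b * y ∧ y * c = -(c * y) := by
  obtain ⟨u, hu, e1, e2⟩ := hP.dual1 ha hc h1 h2
  obtain ⟨v, hv, e3, e4⟩ := hP.dual1 ha (mul_mem hc hb) h3 h4
  obtain ⟨y, hy, e⟩ := hP.dual_step (Ce_le (x := a)) hb ⟨u, mem_Ce.2 ⟨hu, e1⟩, e2⟩ ⟨v, mem_Ce.2 ⟨hv, e3⟩, e4⟩
  exact ⟨y, hy.1, (mem_Ce.1 hy).2, e⟩

theorem Pau.comm_Zs (hP : Pau K P) (hx : x ∈ P) (hy : y ∈ P) : x * y * x⁻¹ * y⁻¹ ∈ Zs K E := by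
  rcases hP.conj_eq hx hy with e | e <;> rw [e]
  · simp
  · simpa using neg_one_mem

theorem Pau.two_fix (hQ : Pau K Q) (h : Amb τ) (ha : a ∈ Q) (hb : b ∈ Q) (aa : a * a = -1)
    (bb : b * b = -1) (hm : ga a * (ga b)⁻¹ ∈ Q) : a * b⁻¹ ∈ Zs K E := by
  by_contra hn
  by_cases hz : a ∈ Zs K E
  · obtain ⟨y, hy, e⟩ := hQ.exists_anti hb fun hb' => hn (mul_mem hz (inv_mem hb'))
    have := hQ.comm_Zs (inv_mem hm) hy
    rw [inv_inv, mul_inv_rev, inv_inv, mul_assoc (ga b), ← cinv (h.ga_comm aa (Zs_comm hz y).symm),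
      mul_assoc (ga b), mul_assoc y, inv_mul_cancel_left, ← mul_assoc, h.ga_anti bb (anti_symm e),
      mul_inv_cancel_right] at this
    exact hn (mul_mem hz (inv_mem this))
  obtain ⟨y, hy, e1, e2⟩ := hQ.dual1 (inv_mem hb) ha hz hn
  have := hQ.comm_Zs hm hy
  rw [mul_inv_rev, inv_inv, mul_assoc (ga a), ← cinv (h.ga_comm bb (by simpa using cinv e1)),
    mul_assoc (ga a), mul_assoc y, inv_mul_cancel_left, ← mul_assoc, h.ga_anti aa (anti_symm e2),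
    mul_inv_cancel_right] at this
  exact hz this

/-- an element commuting with the two-gate elements modulo `Q` fixes the skew elements -/
theorem Ort.fix (O : Ort A Q) (h : Amb τ) (hk : k ∈ Nm Q) (hU : U ≤ Q) (hZ : Zs K E ≤ U)
    (h8 : 8 < rk K U) (hc : ∀ w ∈ U, w ∈ A.I → w * w = -1 → ∀ w' ∈ U, w' ∈ A.I → w' * w' = -1 →
      ⁅k, ga w' * ga w⁆ ∈ Q) (hw : w ∈ U) (hw' : w ∈ A.I) (ww : w * w = -1) : ⁅k, w⁆ ∈ Zs K E := by
  by_contra hn
  have sq := fun {w : Eˣ} (e : w * w = -1) => conj_sq (K := K) k e neg_one_mem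
  have m0 := Nm_conj hk (hU hw)
  have key : ∀ v ∈ U, v ∈ A.I → v * v = -1 → ∀ t ∈ Q, t * w = w * t →
      t * (k * w * k⁻¹) = k * w * k⁻¹ * t → ¬ t * v = -(v * t) := by
    intro v h1 h2 h3 t ht c1 c2 c3
    have m1 := Nm_conj hk (hU h1)
    have m := hc w hw hw' ww v h1 h2 h3
    rw [commutatorElement_def, ← conj_mul, h.ga_conj ww, h.ga_conj h3, mul_inv_rev, ← mul_assoc,
      mul_assoc (ga _) (ga _)] at m
    have c4 := cc (h.ga_comm (sq ww) c2) (cinv (h.ga_comm ww c1))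
    set X := ga (k * w * k⁻¹) * (ga w)⁻¹
    have e := O.pau.comm_Zs m (mul_mem (hU h1) ht)
    rw [← h.ga_anti h3 (anti_symm c3), show ∀ a b : Eˣ, a * X * b⁻¹ * (b * t * b⁻¹) * (a * X * b⁻¹)⁻¹ =
      a * (X * t * X⁻¹) * a⁻¹ from fun a b => by group, conj_of_comm c4.symm,
      h.ga_anti h3 (anti_symm c3)] at e
    rcases O.pau.comm _ m1 t ht with c5 | c5
    · rw [conj_of_comm (h.ga_comm (sq h3) c5.symm).symm, mul_inv_rev, mul_inv_cancel_left] at e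
      exact h.skew_notMem h2 h3 (by simpa using inv_mem e)
    · rw [h.ga_anti (sq h3) c5, mul_inv_rev, mul_assoc, mul_inv_cancel_left] at e
      refine hn (O.pau.two_fix h m0 (hU hw) (sq ww) ww (?_ : X ∈ Q))
      clear_value X
      have n1 := O.pau.ga_Nm h h3 (hU h1)
      rcases h.eq_or_neg ((sq h3).trans h3.symm) e with e' | e' <;> rw [e'] at m
      · simpa [mul_assoc] using Nm_conj ((Nm Q).inv_mem n1) m
      · rw [h.ga_neg h3, mul_assoc, mul_assoc, Q.mul_mem_cancel_left (O.pau.neg_mem (hU h1))] at m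
        simpa [mul_assoc] using Nm_conj ((Nm Q).inv_mem n1) m
  have h1 := rk_Ce hZ fun y hy => O.pau.comm y (hU hy) w (hU hw)
  have h2 : rk K (Ce U w) ≤ 4 := rk_le_four (a := w) (b := k * w * k⁻¹) (c := k * w * k⁻¹ * w)
    fun y hy => by
      by_contra hy'
      push Not at hy'
      obtain ⟨t, ht, c1, c2, c3⟩ := O.pau.dual2 (hU hw) m0 (hU hy.1) hy'.1 hy'.2.1 hy'.2.2.1
        (by rw [mul_assoc]; exact hy'.2.2.2)
      obtain ⟨c, c4, m1, m2⟩ := O.real (hU hy.1)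
      have m3 := mul_mem (hZ c4) hy.1
      have c5 := anti_symm (sc_anti c4 (anti_symm c3))
      rcases O.sq h m1 m2 with e | e
      · exact key _ (mul_mem hw m3) (mul_mem hw' m2) (by
          rw [mul_sq_comm (sc_comm' c4 (mem_Ce.1 hy).2).symm, ww, e, mul_one]) t ht c1 c2 (ca c1 c5)
      · exact key _ m3 m2 e t ht c1 c2 c5
  omega

theorem Amb.ct_ee (h : Amb τ) (dd : d * d = 1) (hu : u * d = d * u) :
    (ct K d u : E) * ee K d = u * ee K d := by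
  rw [h.ct_val dd hu, add_mul, h.compl_mul_ee dd, mul_assoc, h.ee_sq dd, add_zero]

theorem Amb.ct_ee' (h : Amb τ) (dd : d * d = 1) (hu : u * d = d * u) :
    (ct K d u : E) * ee K (-d) = ee K (-d) := by
  rw [h.ct_val dd hu, h.ee_neg, add_mul, mul_assoc, h.ee_mul_compl dd, ← h.ee_neg,
    h.ee_sq (by simp [dd])]
  simp

theorem Rel2.fixed (R : Rel2 A P G) (h : Amb τ) (h16 : 16 < rk K P)
    (hC : ∀ j ∈ P, j ∈ A.I → j * j = -1 → ∀ g ∈ G, g * j = j * g → g ∈ Nm P) (H : Hyp P d x)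
    (hd : d ∈ A.I) (hk : k ∈ Un K (P1 P d x)) (hk' : ct K d k ∈ G) (hu : u ∈ P1 P d x) (hu' : u ∈ A.I)
    (uu : u * u = -1) (hc : ⁅k, u⁆ ∈ Zs K E) : k ∈ P1 P d x := by
  have P' := R.pau.p1 H.hd H.hx H.an
  have key : ∀ k ∈ Un K (P1 P d x), ct K d k ∈ G → u * k = k * u → k ∈ P1 P d x := by
    intro k hk hk' c
    have c1 := Un_P1_d hk
    have c2 : k⁻¹ * -d = -d * k⁻¹ := by simp [cinv c1.symm]
    have m := mul_mem (Nm_conj (hC u (P1_le hu) hu' uu _ hk'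
      (h.ct_comm H.dd c1 (mem_P1.1 hu).1.2 c).symm) H.hx) (inv_mem H.hx)
    rw [mul_assoc, mul_assoc, ← mul_assoc x, ← h.ct_inv H.dd c1, h.ct_conj H.dd (cinv c1.symm).symm,
      conj_of_anti (anti_symm H.an), conj_of_comm (cinv (Un_P1_x hk).symm)] at m
    have e := h.ct_ee' (H.neg R.pau).dd c2
    have c3 := cc (h.ct_comm H.dd c1 rfl c1.symm)
      (h.ct_comm (H.neg R.pau).dd c2 (g := d) (by simp) (cinv c1.symm))
    have e1 : ((ct K d k * ct K (-d) k⁻¹ : Eˣ) : E) * ee K d = k * ee K d := by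
      rw [neg_neg] at e
      rw [Units.val_mul, mul_assoc, e, h.ct_ee H.dd c1]
    generalize ct K d k * ct K (-d) k⁻¹ = y at m c3 e1
    rcases R.pau.comm x H.hx y m with c4 | c4
    · rw [show k = y from Units.ext (h.inj H.an (Al_P1_x hk.1) (comm_val c4.symm) e1.symm)]
      exact mem_P1.2 ⟨⟨m, c3.symm⟩, c4.symm⟩
    · have c5 := (aa c4 (anti_symm H.an)).symm
      rw [show k = y * d from Units.ext (h.inj H.an (Al_P1_x hk.1) (comm_val c5) (by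
        rw [Units.val_mul, mul_assoc, mul_ee H.dd, e1]))]
      exact mem_P1.2 ⟨⟨mul_mem m H.hd, (cc c3 rfl).symm⟩, c5⟩
  rcases P'.anti_of_comm_mem h hu (by simpa using inv_mem hc) with c | c
  · exact key k hk hk' c
  obtain ⟨t, ht, an⟩ := P'.exists_anti hu (h.skew_notMem hu' uu)
  obtain ⟨s, hs, m1, m2⟩ := (R.ort.of_le P' P1_le).real ht
  have c1 := (mem_P1.1 m1).1.2
  refine ((P1 P d x).mul_mem_cancel_right m1).1 (key _ (mul_mem hk (le_Un m1)) ?_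
    (aa c (anti_symm (sc_anti hs an))))
  rw [h.ct_mul H.dd (Un_P1_d hk) c1]
  exact mul_mem hk' (R.ct_mem h h16 H.hd hd H.dd (P1_le m1) m2 c1)

theorem Rel2.two_Gp (R : Rel2 A P G) (h : Amb τ) (hw : w ∈ P1 P d x) (hw' : w ∈ A.I) (ww : w * w = -1)
    (hv : v ∈ P1 P d x) (hv' : v ∈ A.I) (vv : v * v = -1) :
    ga w * ga v ∈ Gp (K := K) (Un K (P1 P d x)) G fun _ => Un_P1_d :=
  mem_Gp_of (mul_mem (h.ga_Un ww hw) (h.ga_Un vv hv)) (R.two _ (P1_le hw) hw' ww _ (P1_le hv) hv' vv)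

theorem Rel2.Kp_le (R : Rel2 A P G) (h : Amb τ) (h128 : 128 < rk K P)
    (hC : ∀ j ∈ P, j ∈ A.I → j * j = -1 → ∀ g ∈ G, g * j = j * g → g ∈ Nm P) (H : Hyp P d x)
    (hd : d ∈ A.I) :
    (h.Kp H.dd (Un K (P1 P d x)) G fun _ => Un_P1_d) ⊓ Nm (P1 P d x) ≤ P1 P d x := by
  intro k hk
  have O := R.ort.of_le (R.pau.p1 H.hd H.hx H.an) P1_le
  have r1 := R.pau.rk_P1 H.hd H.hx
  obtain ⟨u, u1, u2, u3, -⟩ := O.pat h ![] (fun a => a.elim0) (by simp; omega) (one_mem _) (Or.inr rfl)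
  have u4 := Nm_conj ((Nm _).inv_mem hk.2) u1
  have r2 := O.pau.rk_P1 u1 u4
  obtain ⟨w, w1, w2, w3, w4, -⟩ := O.pat h ![u, _] (Fin.forall_fin_two.2 ⟨u1, u4⟩) (by omega)
    (one_mem _) (Or.inr rfl)
  refine R.fixed h (by omega) hC H hd hk.1.1 hk.1.2 w1 w2 w3 (O.fix h hk.2 (U := P1 _ u (k⁻¹ * u * k⁻¹⁻¹))
    P1_le (Zs_le_Ce (Zs_le_Ce O.pau.sc_le)) (by omega) (fun w a1 a2 a3 v b1 b2 b3 => ?_)
    (mem_P1.2 ⟨⟨w1, w4 0 (by simp)⟩, w4 1 (by simp)⟩) w2 w3)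
  have m := comm_mem_of_Nm (Nm_inf' (h.Kp_Nm H.dd (R.two_Gp h (P1_le b1) b2 b3 (P1_le a1) a2 a3))
    (Subgroup.le_normalizer (mul_mem (O.pau.ga_Nm h b3 (P1_le b1)) (O.pau.ga_Nm h a3 (P1_le a1))))) hk
  rw [← commutatorElement_inv, inv_mem_iff] at m
  refine R.fixed h (by omega) hC H hd m.1.1 m.1.2 u1 u2 u3 ?_
  have c1 := cc (h.ga_comm b3 (mem_P1.1 b1).1.2.symm) (h.ga_comm a3 (mem_P1.1 a1).1.2.symm)
  have c2 := conj_comm k (cc (h.ga_comm b3 (mem_P1.1 b1).2.symm) (h.ga_comm a3 (mem_P1.1 a1).2.symm))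
  rw [show k * (k⁻¹ * u * k⁻¹⁻¹) * k⁻¹ = u by group] at c2
  exact (commutatorElement_eq_one_iff_mul_comm.2 (cc c2 (cinv c1)).symm).symm ▸ one_mem _

end H60.Cl
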