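import Cfsg.Agent.H60.PmM
import Cfsg.Agent.H60.Bridge
import Cfsg.Agent.H60.SubfStab
import Cfsg.Agent.H62.SpFull
import Cfsg.Agent.H56.OmegaFin
import Cfsg.Agent.H56.Root

/-! Normalisers of `2^{1+2k}_±` are maximal in `Sp` and `Ω`. -/

set_option autoImplicit false
set_option linter.unusedSectionVars false

namespace H60.Cl

open Module H59 Cfsg Cfsg.Geo H25
open scoped commutatorElement MatrixGroups Matrix

section abs
variable {K E : Type*} [Field K] [Ring E] [Algebra K E] [Finite E]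
variable {τ : E →ₗ[K] K} {P : Subgroup Eˣ} {j j' : Eˣ} {A : Adj K E}

theorem Amb.two_I (h : Amb τ) (h1 : j ∈ A.I) (h2 : j * j = -1) (h3 : j' ∈ A.I) (h4 : j' * j' = -1) :
    -h.tw⁻¹ * (ga j * ga j') ∈ A.I := by
  have k : ∀ {j : Eˣ}, j ∈ A.I → j * j = -1 → A.ad (ga j) = ga (-j) := fun {j} h1 h2 => Units.ext (by
    rw [Adj.ad_val, h.ga_val h2, h.ga_val (neg_nsq h2), map_add, A.one, ← Adj.ad_val,
      (Adj.mem_I_of_nsq h2).1 h1])
  have z := neg_mem_Zs.2 (inv_mem h.tw_mem)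
  refine eq_inv_of_mul_eq_one_left ?_
  rw [A.ad_mul, A.ad_mul, A.ad_Zs z, k h1 h2, k h3 h4, mul_assoc, ← mul_assoc (-h.tw⁻¹),
    Zs_comm (mul_mem z z), ← mul_assoc, mul_assoc (ga (-j')), ← mul_assoc (ga (-j)), h.ga_neg_mul h2,
    Zs_comm h.tw_mem, ← mul_assoc (ga (-j')), h.ga_neg_mul h4]
  simp

theorem Amb.two_cube (h : Amb τ) (h2 : j * j = -1) (h4 : j' * j' = -1) (an : j * j' = -(j' * j)) :
    (-h.tw⁻¹ * (ga j * ga j')) ^ 3 = 1 := by
  have e : (ga j * ga j') ^ 3 = (-h.tw) ^ 3 := Units.ext (by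
    have a1 : ∀ b : E, j * (j * b) = -b := fun b => by rw [← mul_assoc, nsq_val h2, neg_one_mul]
    have a2 : ∀ b : E, j' * (j' * b) = -b := fun b => by rw [← mul_assoc, nsq_val h4, neg_one_mul]
    have a3 : ∀ b : E, j' * (j * b) = -(j * (j' * b)) := fun b => by
      rw [← mul_assoc, anti_val (anti_symm an), neg_mul, mul_assoc]
    simp only [pow_three, one_mul, Units.val_mul, h.ga_val h2, h.ga_val h4, Units.val_neg,
      h.tw_val, mul_add, add_mul, mul_one, mul_assoc, a1, a2, a3, mul_neg, neg_neg, nsq_val h2,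
      nsq_val h4, anti_val (anti_symm an), ← one_add_one_eq_two, neg_add, neg_mul]
    abel)
  rw [Commute.mul_pow (Zs_comm (neg_mem_Zs.2 (inv_mem h.tw_mem)) _), e, ← inv_neg, inv_pow, inv_mul_cancel]

theorem Ort.exists_pair (O : Ort A P) (h : Amb τ) (h4 : 4 < rk K P) : ∃ a ∈ P, ∃ b ∈ P, a ∈ A.I ∧
    b ∈ A.I ∧ a * a = 1 ∧ b * b = 1 ∧ a * b = -(b * a) := by
  obtain ⟨b, hb, hb'⟩ := SetLike.not_le_iff_exists.1 (not_le_of_rk (show 1 < rk K P by omega))
  obtain ⟨a, ha, an⟩ := O.pau.exists_anti hb hb'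
  obtain ⟨a, a1, a2, a3, -, a4⟩ := O.pat h ![b] (by simpa) h4 ha (Or.inl rfl)
  obtain ⟨b, b1, b2, b3, -, b4⟩ := O.pat h ![a] (by simpa) h4 hb (Or.inl rfl)
  exact ⟨b, b1, a, a1, b2, a2, b3, a3, b4 0 (anti_symm (a4 0 an))⟩

end abs

variable {ι : Type} [Fintype ι] [DecidableEq ι] {F : Type*} [Field F] [Fintype F]
  {R M Ω : Subgroup (GL ι F)} {J : GL ι F}

theorem pm_max (hp : (Fintype.card F).Prime) (h2 : (2 : F) ≠ 0) (hJ : J.valᵀ = J ∨ J.valᵀ = -J)
    (hn : 16 ≤ Fintype.card ι) (h1 : Spans R)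
    (h3 : ∀ x ∈ R, ∀ y ∈ R, ⁅x, y⁆ ∈ scalars ι F) (h4 : ∀ x ∈ R, x ^ 2 ∈ scalars ι F)
    (hI : R ≤ (adjJ J).I) (hΩ : Ω ≤ (adjJ J).I) (h5 : ∀ g ∈ (adjJ J).I, g ^ 3 = 1 → g ∈ Ω)
    (hne : ¬ Ω ≤ subgroupNormalizer R) (hB : ∀ M, (∀ j ∈ R, j * j = -1 → ∀ u ∈ (adjJ J).I,
      u ^ Fintype.card F = 1 → u * j = j * u → u ∈ M) → Ω ≤ M) :
    IsMaximalIn Ω (subgroupNormalizer R ⊓ Ω) := by
  obtain ⟨h, X, -⟩ := ex_mat (by omega) h2 h1 h3 h4 hI
  refine isMaximalIn_of (SetLike.not_le_iff_exists.1 hne) fun M h6 h7 g hg hg' => hB M ?_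
  refine (pm_main hp h2 hJ hn h1 h3 h4 hI (h7.trans hΩ) fun j a1 a2 j' a3 a4 a5 => ?_).resolve_left
    fun e => hg' (e hg)
  have z := neg_mem_Zs.2 (inv_mem h.tw_mem)
  have m := h.two_I (hI a1) a2 (hI a3) a4
  exact ⟨_, z, h6 ⟨X.Nm h (Subgroup.mem_sup_left m) (mul_mem (Subgroup.le_normalizer (X.pau.sc_le z))
    (mul_mem (X.pau.ga_Nm h a2 (Subgroup.mem_sup_left a1)) (X.pau.ga_Nm h a4 (Subgroup.mem_sup_left a3)))),
    h5 _ m (h.two_cube a2 a4 a5)⟩⟩

theorem exists_gram {B : LinearMap.BilinForm F (ι → F)} (hB : B.Nondegenerate) :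
    ∃ J : GL ι F, ∀ u v, B u v = u ⬝ᵥ J.val *ᵥ v :=
  ⟨Matrix.GeneralLinearGroup.mkOfDetNeZero (LinearMap.BilinForm.toMatrix' B)
    (LinearMap.BilinForm.nondegenerate_toBilin'_iff_det_ne_zero.1 (by rwa [Matrix.toBilin'_toMatrix'])),
    fun u v => by rw [← Matrix.toBilin'_apply']; exact congrArg (· u v) (Matrix.toBilin'_toMatrix' B).symm⟩

theorem gram_symm {c : F} (h : ∀ u v, u ⬝ᵥ J.val *ᵥ v = c * v ⬝ᵥ J.val *ᵥ u) : J.valᵀ = c • J.val := by
  ext a b
  simpa using h (Pi.single b 1) (Pi.single a 1)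

open QuadraticMap H56 in
theorem max_omega (hp : (Fintype.card F).Prime) (h2 : (2 : F) ≠ 0) (hn : 16 ≤ Fintype.card ι)
    {Q : QuadraticForm F (ι → F)} (hQ : Q.polarBilin.Nondegenerate) (h1 : Spans R)
    (h3 : ∀ x ∈ R, ∀ y ∈ R, ⁅x, y⁆ ∈ scalars ι F) (h4 : ∀ x ∈ R, x ^ 2 ∈ scalars ι F)
    (hR : R ≤ isometryGroup F Q) :
    IsMaximalIn (omegaGL ⇑Q) (subgroupNormalizer R ⊓ omegaGL ⇑Q) := by
  obtain ⟨J, hJ⟩ := exists_gram hQ
  simp only [polarBilin_apply_apply] at hJ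
  have hd : finrank F (ι → F) = Fintype.card ι := finrank_fintype_fun_eq_card F
  have i1 : ∀ g : O Q, toGL Q g ∈ (adjJ J).I := fun g => mem_adjJ.2 fun u v => by simp [← hJ]
  have i2 : ∀ g ∈ (adjJ J).I, ∃ k : O Q, toGL Q k = g := fun g hg =>
    ⟨toO Q rfl ⟨g, mem_isometryGroup.2 fun v => mul_left_cancel₀ h2 (by
      rw [← smul_eq_mul, ← smul_eq_mul, ← Nat.cast_ofNat, Nat.cast_smul_eq_nsmul,
        Nat.cast_smul_eq_nsmul, ← polar_self, ← polar_self, hJ, hJ, mem_adjJ.1 hg])⟩, by simp [toGL]⟩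
  have hI : R ≤ (adjJ J).I := fun g hg => by simpa [toGL] using i1 (toO Q rfl ⟨g, hR hg⟩)
  obtain ⟨e, -, e0, he⟩ := exists_sing (Q := Q) ⊤ (by rw [finrank_top]; omega)
  obtain ⟨f, hf⟩ := exists_isHyp hQ e0 he
  have : CharP F (Fintype.card F) := charP_of_card_eq_prime rfl (hp := Fact.mk hp)
  have hs := gram_symm (J := J) (c := 1) fun u v => by simp [← hJ, polar_comm]
  refine pm_max hp h2 (Or.inl (by simpa using hs))
    hn h1 h3 h4 hI ?_ (fun g hg e => ?_) (fun hle => ?_) fun M hM => ?_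
  · rw [omegaGL_eq]; rintro _ ⟨g, -, rfl⟩; exact i1 g
  · obtain ⟨g, rfl⟩ := i2 g hg
    have := Subgroup.pow_index_mem (commutator (O Q)) g
    rw [index_commutator_of_two_ne hQ h2 (by omega), pow_succ,
      toGL_injective (show toGL Q (g ^ 3) = toGL Q 1 by rw [map_pow, e, map_one]), one_mul] at this
    rw [omegaGL_eq]; exact ⟨g, this, rfl⟩
  · obtain ⟨w, w1, w2, w3⟩ := hf.exists_perp_Q_ne hQ (by omega)
    have : Nonempty ι := Fintype.card_pos_iff.1 (by omega)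
    refine not_mem_normalizer h1 h3 (t := toGL Q (eich Q e w)) (s := 2) (Submodule.span F {e, w})
      (by
        classical
        have := (finrank_span_finset_le_card (R := F) {e, w}).trans Finset.card_le_two
        rwa [Finset.coe_pair] at this) (fun v => ?_) (by omega)
      (fun e' => w3 ?_) (hle (by rw [omegaGL_eq]; exact ⟨_, eich_mem_commutator hQ (by omega) e w, rfl⟩))
    · rw [toGL_mulVec]
      exact eich_sub_mem (Submodule.subset_span (by simp)) (Submodule.subset_span (by simp)) v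
    · have := congrArg (fun g : GL ι F => polar Q f (g.val *ᵥ f)) e'
      simpa [eich_apply he w1, hf.ef, hf.fe, w2, pc w2] using this
  have key : ∀ u, u ≠ 0 → Q u = 0 → Full (M.comap (toGL Q)) u := fun u u0 hu => by
    have k : ∀ a : Matrix ι ι F, (a - (adjJ J).st a) *ᵥ u ∈ AS (M.comap (toGL Q)) u := fun a => by
      refine Al_ind (p := fun a => (a - (adjJ J).st a) *ᵥ u ∈ AS (M.comap (toGL Q)) u)
        (mem_Al_of_spans h1 le_rfl a) (fun j hj => ?_) (by simp) (fun a b _ _ h1 h2 => ?_)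
        fun c a _ h => ?_
      · obtain ⟨h, X, -⟩ := ex_mat (by omega) h2 h1 h3 h4 hI
        rw [← Adj.ad_val]
        rcases X.ort.sq h (Subgroup.mem_sup_left hj) (hI hj) with e | e
        · simp [(Adj.mem_I_of_sq e).1 (hI hj)]
        rw [(Adj.mem_I_of_nsq e).1 (hI hj), Units.val_neg, sub_neg_eq_add, Matrix.add_mulVec]
        obtain ⟨k, rfl⟩ := i2 j (hI hj)
        have e1 : ∀ v, k (k v) = -v := fun v => by
          simpa [← Matrix.mulVec_mulVec, Matrix.neg_mulVec] using congrArg (fun g : GL ι F => g.val *ᵥ v) e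
        have e2 : polar Q u (k u) = 0 := by
          have := k.map_polar u (k u)
          rw [e1, polar_neg_right, polar_comm] at this
          exact mul_left_cancel₀ h2 (by linear_combination -this)
        have : k u ∈ AS (M.comap (toGL Q)) u := ⟨e2, fun c => hM _ hj e _ (i1 _)
          (by rw [← map_pow, eich_pow_char, map_one]) (by
            rw [← map_mul, ← map_mul, eq_mul_of_mul_inv_eq (conj_eich k u _), map_smul, e1]
            simpa using congrArg (fun g => toGL Q (g * k))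
              (eich_det hu (by simp [hu]) e2 0 1 (-c) 0).symm)⟩
        simpa using add_mem this this
      · rw [map_add, add_sub_add_comm, Matrix.add_mulVec]; exact add_mem h1 h2
      · rw [map_smul, ← smul_sub, Matrix.smul_mulVec]; exact Submodule.smul_mem _ _ h
    obtain ⟨w, hw⟩ := exists_isHyp hQ u0 hu
    refine full_of_ort_le fun v hv => ?_
    have e1 : ∀ x, LinearMap.toMatrix' ((Q.polarBilin w).smulRight v) *ᵥ x = polar Q w x • v := fun x => by
      simp [← Matrix.toLin'_apply]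
    have := k (LinearMap.toMatrix' ((Q.polarBilin w).smulRight v))
    rwa [Matrix.sub_mulVec, e1, hw.fe, one_smul, form_ext (J := J) (x := _ *ᵥ u) (y := 0)
      fun x => by rw [← form_adj, e1, ← hJ]; simp [mem_ort'.1 hv], sub_zero] at this
  rw [omegaGL_eq, Subgroup.map_le_iff_le_comap]
  exact commutator_le_of_full₂ hQ (by omega) (key e e0 he) (key f hf.symm.ne_zero hf.qf) he hf.qf
    (by simp [hf.ef])

section sp
open H62
variable {V : Type*} [AddCommGroup V] [Module F V] [FiniteDimensional F V]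
  {B : LinearMap.BilinForm F V} {N : Subgroup (V ≃ₗ[F] V)}

theorem full_link (hB : B.Nondegenerate) (hA : B.IsAlt) (h2 : (2 : F) ≠ 0) {a b c : End F V}
    (sa : ∀ x y, B (a x) y = B x (a y)) (sb : ∀ x y, B (b x) y = B x (b y))
    (sc : ∀ x y, B (c x) y = B x (c y)) (aa : ∀ x, a (a x) = x) (bb : ∀ x, b (b x) = x)
    (cc : ∀ x, c (c x) = x) (ab : ∀ x, a (b x) = -b (a x)) (ac : ∀ x, c (a x) = a (c x))
    (bc : ∀ x, c (b x) = b (c x)) (h1 : ∀ v, c v = v → a v = v → FullSp N B v)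
    (h3 : ∀ v, c v = v → -a v = v → FullSp N B v) (h4 : ∀ v, c v = v → b v = v → FullSp N B v)
    {v : V} (hv : c v = v) : FullSp N B v := by
  have e : v = (2 : F)⁻¹ • ((v + a v) + (v - a v)) := by
    rw [show v + a v + (v - a v) = (2 : F) • v by rw [two_smul]; abel, inv_smul_smul₀ h2]
  have f1 := h1 (v + a v) (by simp [hv, ac]) (by simp [aa, add_comm])
  have f2 := h3 (v - a v) (by simp [hv, ac]) (by simp [aa])
  rw [e]
  refine FullSp.smul ?_ _
  by_cases z1 : v + a v = 0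
  · simpa [z1] using f2
  by_cases z2 : v - a v = 0
  · simpa [z2] using f1
  obtain ⟨x, hx⟩ := exists_form_ne_zero hB z1
  obtain ⟨y, hy⟩ := exists_form_ne_zero hB (show b (v - a v) ≠ 0 from fun e => z2 (by
    rw [← bb (v - a v), e, map_zero]))
  obtain ⟨z, k1, k2⟩ : ∃ z, B z (v + a v) ≠ 0 ∧ B z (b (v - a v)) ≠ 0 := by
    by_cases k1 : B y (v + a v) = 0
    · by_cases k2 : B x (b (v - a v)) = 0
      · exact ⟨x + y, by simpa only [map_add B, LinearMap.add_apply, k1, add_zero], by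
          simpa only [map_add B, LinearMap.add_apply, k2, zero_add]⟩
      · exact ⟨x, hx, k2⟩
    · exact ⟨y, k1, hy⟩
  have h4' : (4 : F) ≠ 0 := by rw [show (4 : F) = 2 * 2 by norm_num]; exact mul_ne_zero h2 h2
  refine f1.add_of_link hA h2 f2 (h4 ((1 + b) ((1 + a) ((1 + c) z))) (by simp [cc, ac, bc]; abel)
    (by simp [bb]; abel)) (fun e => mul_ne_zero h4' k1 ?_) fun e => mul_ne_zero h4' k2 ?_ <;>
  rw [alt_swap hA, neg_eq_zero] at e <;> rw [← e] <;>
  simp [sa, sb, sc, aa, ab, ac, bc, hv] <;> ring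

theorem max_sp (hp : (Fintype.card F).Prime) (h2 : (2 : F) ≠ 0) (hn : 16 ≤ Fintype.card ι)
    {B : LinearMap.BilinForm F (ι → F)} (hB : B.Nondegenerate) (hA : B.IsAlt)
    (hΩ : ∀ g, g ∈ Ω ↔ ∀ u v, B (toLE g u) (toLE g v) = B u v) (h1 : Spans R)
    (h3 : ∀ x ∈ R, ∀ y ∈ R, ⁅x, y⁆ ∈ scalars ι F) (h4 : ∀ x ∈ R, x ^ 2 ∈ scalars ι F)
    (hR : R ≤ Ω) : IsMaximalIn Ω (subgroupNormalizer R ⊓ Ω) := by
  obtain ⟨J, hJ⟩ := exists_gram hB
  obtain rfl : Ω = (adjJ J).I := Subgroup.ext fun g => by simp only [hΩ, mem_adjJ, hJ, toLE_apply]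
  have hs := gram_symm (J := J) (c := -1) fun u v => by rw [← hJ, ← hJ, alt_swap hA, neg_one_mul]
  have tv : ∀ u c, ∃ g ∈ (adjJ J).I, ∀ x, g.val *ᵥ x = x + (c * B x u) • u := fun u c => by
    obtain ⟨g, -, hg⟩ := hasSp_of_forall (H := ⊤) (v := u) (c := c) hA fun _ _ => trivial
    obtain ⟨g, rfl⟩ := toLE.surjective g
    exact ⟨g, (hΩ g).2 (isom_of_sp hA hg), hg⟩
  have ext : ∀ {g k : GL ι F}, (∀ x, g.val *ᵥ x = k.val *ᵥ x) → g = k := fun h =>
    toLE.injective (LinearEquiv.ext h)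
  refine pm_max hp h2 (Or.inr (by simpa using hs)) hn h1 h3 h4 hR le_rfl (fun g hg _ => hg)
    (fun hle => ?_) fun M hM g hg => ?_
  · have : Nonempty ι := Fintype.card_pos_iff.1 (by omega)
    obtain ⟨u, hu⟩ := exists_ne (0 : ι → F)
    obtain ⟨g, hg, e⟩ := tv u 1
    obtain ⟨x, hx⟩ := exists_form_ne_zero hB hu
    refine not_mem_normalizer h1 h3 (t := g) (F ∙ u) (finrank_span_singleton hu).le (fun v => ?_)
      (by omega) (fun e' => ?_) (hle hg)
    · rw [e, add_sub_cancel_left]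
      exact Submodule.smul_mem _ _ (Submodule.mem_span_singleton_self u)
    · simpa [e', hx, hu] using e x
  obtain ⟨h, X, hr⟩ := ex_mat (by omega) h2 h1 h3 h4 hR
  have r1 : 256 ≤ rk F (R ⊔ Zs F (Matrix ι ι F)) := by nlinarith
  have iso : ∀ g ∈ R, ∀ x y, B (g.val *ᵥ x) (g.val *ᵥ y) = B x y := fun g hg => (hΩ g).1 (hR hg)
  have mv : ∀ (a b : GL ι F) x, a.val *ᵥ b.val *ᵥ x = (a * b).val *ᵥ x := fun a b x =>
    Matrix.mulVec_mulVec ..
  have k1 : ∀ j ∈ R, j * j = -1 → ∀ u, B u (j.val *ᵥ u) = 0 → ∀ c : F, ∃ g ∈ M, ∀ x,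
      g.val *ᵥ x = x + (c * B x u) • u + (c * B x (j.val *ᵥ u)) • j.val *ᵥ u := by
    intro j hj jj u hu c
    obtain ⟨a, ha, e1⟩ := tv u c
    obtain ⟨b, hb, e2⟩ := tv (j.val *ᵥ u) c
    have hu' : B (j.val *ᵥ u) u = 0 := by rw [alt_swap hA, hu, neg_zero]
    have e : ∀ x, (b * a).val *ᵥ x = x + (c * B x u) • u + (c * B x (j.val *ᵥ u)) • j.val *ᵥ u :=
      fun x => by rw [← mv, e1, e2]; simp [hu]
    have e3 : ∀ x, j.val *ᵥ j.val *ᵥ x = -x := fun x => by simp [mv, jj, Matrix.neg_mulVec]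
    refine ⟨_, hM j hj jj _ (mul_mem hb ha) (ext fun x => ?_) (ext fun x => ?_), e⟩
    · have : ∀ n : ℕ, ((b * a) ^ n).val *ᵥ x =
          x + (n : F) • ((c * B x u) • u + (c * B x (j.val *ᵥ u)) • j.val *ᵥ u) := fun n => by
        induction n with
        | zero => simp
        | succ n ih => rw [pow_succ', ← mv, ih, e]; simp [hu, hu', hA.self_eq_zero]; module
      rw [this]; simp
    · rw [← mv, ← mv j, e, e, iso j hj, ← iso j hj _ u, e3]
      simp [Matrix.mulVec_add, Matrix.mulVec_smul, e3]; abel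
  have k2 : ∀ a ∈ R, ∀ b ∈ R, a ∉ Zs F _ → b ∉ Zs F _ → a * b ∉ Zs F _ → a * b = b * a → ∀ u,
      a.val *ᵥ u = u → b.val *ᵥ u = u → FullSp (M.map toLE.toMonoidHom) B u := by
    intro a ha b hb a0 b0 ab0 c0 u a1 b1 c
    have s := @Subgroup.mem_sup_left _ _ R (Zs F (Matrix ι ι F))
    obtain ⟨j, j0, c1, c2⟩ := X.pau.dual1 (s hb) (s ha) a0 ab0
    obtain ⟨j, j1, j2, j3, j4⟩ := X.pat h ![a, b] (Fin.forall_fin_two.2 ⟨ha, hb⟩) (by omega) j0 (Or.inr rfl)
    have c3 : j * a = -(a * j) := j4 0 c2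
    have c4 : j * b = b * j := j3 1 c1
    obtain ⟨k, k0, d1, d2, d3⟩ := X.pau.dual2 (s ha) (s (mul_mem (inv_mem hb) j1)) (s hb) b0 (c0 ▸ ab0)
      (by simpa using h.notMem_of_anti c3)
      (by simpa using h.notMem_of_anti (anti_symm (ac (anti_symm c3) rfl)))
    obtain ⟨k, l1, l2, l3, l4⟩ := X.pat h ![a, b, j] (by simp [Fin.forall_fin_succ, ha, hb, j1])
      (by omega) k0 (Or.inr rfl)
    have d4 : k * a = a * k := l3 0 d1
    have d5 : k * b = -(b * k) := l4 1 d3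
    have d6 : k * j = -(j * k) := l4 2 (by simpa using ac d3 d2)
    have o : ∀ d ∈ R, ∀ x y, d.val *ᵥ x = x → d.val *ᵥ y = -y → B x y = 0 := fun d hd x y e1 e2 => by
      have := iso d hd x y
      rw [e1, e2, map_neg] at this
      exact mul_left_cancel₀ h2 (by linear_combination -this)
    have an : ∀ {d j : GL ι F}, j * d = -(d * j) → d.val *ᵥ u = u → d.val *ᵥ j.val *ᵥ u = -(j.val *ᵥ u) :=
      fun e e' => by rw [mv, anti_symm e, Units.val_neg, Matrix.neg_mulVec, ← mv, e']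
    have o1 := o a ha _ _ a1 (an c3 a1)
    have o2 := o b hb _ _ b1 (an d5 b1)
    have o3 := o a ha (k.val *ᵥ u) _ (by rw [mv, ← d4, ← mv, a1]) (an c3 a1)
    have o4 : B (j.val *ᵥ u) (k.val *ᵥ u) = 0 := by rw [alt_swap hA, o3, neg_zero]
    obtain ⟨g₁, m1, e1⟩ := k1 j j1 j2 u o1 (c / 2)
    obtain ⟨g₂, m2, e2⟩ := k1 k l1 l2 u o2 (c / 2)
    obtain ⟨g₃, m3, e3⟩ := k1 _ (mul_mem l1 (inv_mem j1)) (move_sq (anti_symm d6) (j2.trans l2.symm))
      (j.val *ᵥ u) (by rwa [mv, inv_mul_cancel_right]) (-(c / 2))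
    refine ⟨_, ⟨_, mul_mem (mul_mem m1 m2) m3, rfl⟩, fun x => ?_⟩
    change (g₁ * g₂ * g₃).val *ᵥ x = _
    rw [← mv, ← mv, e3, e2, e1, mv _ j, inv_mul_cancel_right]
    have o5 : B (j.val *ᵥ u) u = 0 := by rw [alt_swap hA, o1, neg_zero]
    have o6 : B (k.val *ᵥ u) u = 0 := by rw [alt_swap hA, o2, neg_zero]
    simp [o1, o4, o5, o6, hA.self_eq_zero]
    match_scalars <;> field_simp <;> ring
  have lk : ∀ c ∈ R, c * c = 1 → ∀ a ∈ R, ∀ b ∈ R, a * a = 1 → b * b = 1 → a * b = -(b * a) →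
      c * a = a * c → c * b = b * c → (∀ d ∈ R, d * d = 1 → c * d = d * c → d ∉ Zs F _ →
        c * d ∉ Zs F _ → ∀ v, c.val *ᵥ v = v → d.val *ᵥ v = v → FullSp (M.map toLE.toMonoidHom) B v) →
      ∀ v, c.val *ᵥ v = v → FullSp (M.map toLE.toMonoidHom) B v := by
    intro c hc cc' a ha b hb aa' bb' an c1 c2 H v hv
    have sa : ∀ d ∈ R, d * d = 1 → ∀ x y, B (d.val *ᵥ x) y = B x (d.val *ᵥ y) := fun d hd e x y => by
      rw [← iso d hd x, mv, e, Units.val_one, Matrix.one_mulVec]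
    have sq : ∀ d : GL ι F, d * d = 1 → ∀ x, d.val *ᵥ d.val *ᵥ x = x := fun d e x => by
      rw [mv, e, Units.val_one, Matrix.one_mulVec]
    have na := mul_mem X.neg ha
    rw [neg_one_mul] at na
    exact full_link hB hA h2 (a := Matrix.toLin' a.val) (b := Matrix.toLin' b.val)
      (c := Matrix.toLin' c.val) (sa a ha aa') (sa b hb bb') (sa c hc cc') (sq a aa') (sq b bb') (sq c cc')
      (fun x => by simp only [Matrix.toLin'_apply, mv, an, Units.val_neg, Matrix.neg_mulVec])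
      (fun x => by simp only [Matrix.toLin'_apply, mv, c1]) (fun x => by simp only [Matrix.toLin'_apply, mv, c2])
      (H a ha aa' c1 (h.notMem_of_anti an) (h.notMem_of_anti (anti_symm (ca c2.symm (anti_symm an)))))
      (fun v e1 e2 => H _ na (by simp [aa']) (by simp [c1]) (mt neg_mem_Zs.1 (h.notMem_of_anti an))
        (by simpa [neg_mem_Zs] using h.notMem_of_anti (anti_symm (ca c2.symm (anti_symm an)))) v e1
        (by simpa [Matrix.neg_mulVec] using e2))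
      (H b hb bb' c2 (h.notMem_of_anti (anti_symm an)) (h.notMem_of_anti (anti_symm (ca c1.symm an)))) hv
  obtain ⟨a, a1, b, b1, a2, b2, a3, b3, an⟩ := X.ort.exists_pair h (by omega)
  refine (Subgroup.mem_map_iff_mem (f := toLE.toMonoidHom) toLE.injective).1 <| mem_of_forall_fullSp hB hA (fun v => lk 1 (one_mem _) (one_mul 1) a
    (X.real h a1 a2) b (X.real h b1 b2) a3 b3 an (by simp) (by simp) (fun d hd dd _ d0 _ v _ hv => ?_) v
    (Matrix.one_mulVec v)) (toLE g) ((hΩ g).1 hg)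
  obtain ⟨Q, q1, q2, q3, q4, -⟩ := X.pau.cen_step (Subgroup.mem_sup_left hd)
  obtain ⟨a, a1, b, b1, a2, b2, a3, b3, an⟩ := (X.ort.of_le q2 q1).exists_pair h (by omega)
  exact lk d hd dd a (X.real h (q1 a1) a2) b (X.real h (q1 b1) b2) a3 b3 an (q4 a a1).symm
    (q4 b b1).symm (fun c hc _ c1 c0 c2 => k2 d hd c hc d0 c0 c2 c1) v hv

end sp

theorem sixteen_le {n k : ℕ} (h : 2 ^ (1 + 2 * k) = n ^ 2 * 2) (hn : 9 ≤ n) : 16 ≤ n := by
  obtain rfl := eq_pow_of_sq_mul (a := 1) two_pos h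
  exact Nat.pow_le_pow_right two_pos (show 4 ≤ k from
    (Nat.pow_lt_pow_iff_right one_lt_two).1 (show 2 ^ 3 < 2 ^ k by omega))

end H60.Cl
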