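import Cfsg.Agent.H60.PmU
import Mathlib.FieldTheory.Finite.Extension

/-! Overgroups of the normaliser of an extraspecial group of isometries: matrix form. -/

set_option autoImplicit false
set_option linter.unusedSectionVars false

namespace H60.Cl

open Module H59 Cfsg Cfsg.Geo H25
open scoped commutatorElement MatrixGroups Matrix

section abs
variable {K E : Type*} [Field K] [Ring E] [Algebra K E] [Finite E]
variable {τ : E →ₗ[K] K} {P R G M : Subgroup Eˣ} {x y z d g j u v : Eˣ} {A : Adj K E}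

/-- an extraspecial group of isometries -/
structure Ex (A : Adj K E) (R : Subgroup Eˣ) : Prop where
  iso : R ≤ A.I
  pau : Pau K (R ⊔ Zs K E)
  neg : -1 ∈ R

theorem Ex.ort (X : Ex A R) : Ort A (R ⊔ Zs K E) := ⟨X.pau, sup_le_sup_right X.iso _⟩

theorem Ex.real (X : Ex A R) (h : Amb τ) (hx : x ∈ R ⊔ Zs K E) (hx' : x ∈ A.I) : x ∈ R := by
  obtain ⟨c, r, hr, rfl⟩ := mem_sup_Zs.1 hx
  rcases h.I_Zs ((A.I.mul_mem_cancel_right (X.iso hr)).1 hx') (sc_mem c) with e | e <;> rw [e]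
  · simpa using hr
  · exact mul_mem X.neg hr

theorem Ex.pat (X : Ex A R) (h : Amb τ) {n : ℕ} (f : Fin n → Eˣ) (hf : ∀ a, f a ∈ R)
    (hn : 4 ^ n < rk K (R ⊔ Zs K E)) {w : Eˣ} (hw : w ∈ R ⊔ Zs K E) {s : Eˣ} (hs : s = 1 ∨ s = -1) :
    ∃ w' ∈ R, w' * w' = s ∧ (∀ a, w * f a = f a * w → w' * f a = f a * w') ∧
      ∀ a, w * f a = -(f a * w) → w' * f a = -(f a * w') :=
  let ⟨w', h1, h2, h3⟩ := X.ort.pat h f (fun a => Subgroup.mem_sup_left (hf a)) hn hw hs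
  ⟨w', X.real h h1 h2, h3⟩

theorem Ex.Nm (X : Ex A R) (h : Amb τ) (hg : g ∈ A.S) (hg' : g ∈ Nm (R ⊔ Zs K E)) : g ∈ Nm R :=
  mem_Nm fun _ hy => X.real h (Nm_conj hg' (Subgroup.mem_sup_left hy)) (Adj.conj hg (X.iso hy))

theorem Ex.rel2 (X : Ex A R) (h : Amb τ) (h16 : 16 < rk K (R ⊔ Zs K E))
    (hU : ∀ g, g ∈ Un K (R ⊔ Zs K E)) (hM : M ≤ A.I) (anti : ∀ j ∈ R, j * j = -1 → ∀ j' ∈ R,
      j' * j' = -1 → j * j' = -(j' * j) → ∃ c ∈ Zs K E, c * (ga j * ga j') ∈ M) :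
    Rel2 A (R ⊔ Zs K E) (M ⊔ Zs K E) := by
  have k1 : ∀ j ∈ R, j * j = -1 → ∀ j' ∈ R, j' * j' = -1 → j * j' = -(j' * j) →
      ga j * ga j' ∈ M ⊔ Zs K E := fun j h1 h2 j' h3 h4 h5 => by
    obtain ⟨c, hc, e⟩ := anti j h1 h2 j' h3 h4 h5
    exact (Subgroup.mul_mem_cancel_left _ (Subgroup.mem_sup_right hc)).1 (Subgroup.mem_sup_left e)
  have k2 : ∀ j ∈ R, j * j = -1 → ∀ j' ∈ R, j' * j' = -1 → ga j * ga j' ∈ M ⊔ Zs K E := by
    intro j h1 h2 j' h3 h4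
    obtain ⟨w, hw, a1, a2⟩ := X.pau.exists_anti2 (Subgroup.mem_sup_left h1)
      (h.skew_notMem (X.iso h1) h2) (Subgroup.mem_sup_left h3) (h.skew_notMem (X.iso h3) h4)
    obtain ⟨w, w1, w2, -, w3⟩ := X.pat h ![j, j'] (Fin.forall_fin_two.2 ⟨h1, h3⟩) h16 hw (Or.inr rfl)
    have b2 : w * j' = -(j' * w) := w3 1 a2
    have := mul_mem (k1 j h1 h2 (-w) (by simpa using mul_mem X.neg w1) (neg_nsq w2)
      (by rw [mul_neg, neg_mul, neg_inj]; exact anti_symm (w3 0 a1))) (k1 w w1 w2 j' h3 h4 b2)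
    rw [mul_assoc, ← mul_assoc (ga (-w)), h.ga_neg_mul w2, ← mul_assoc, ← Zs_comm h.tw_mem,
      mul_assoc] at this
    exact (Subgroup.mul_mem_cancel_left _ (Subgroup.mem_sup_right h.tw_mem)).1 this
  have k3 : ∀ j ∈ R, j * j = -1 → j ∈ M ⊔ Zs K E := fun j h1 h2 => by
    have := k2 j h1 h2 j h1 h2
    rwa [h.ga_sq h2, Subgroup.mul_mem_cancel_left _ (Subgroup.mem_sup_right h.tw_mem)] at this
  refine ⟨X.pau, sup_le (fun y hy => ?_) le_sup_right, fun g _ => hU g, sup_le_sup_right hM _,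
    fun j h1 h2 h3 j' h4 h5 h6 => k2 j (X.real h h1 h2) h3 j' (X.real h h4 h5) h6⟩
  rcases X.ort.sq h (Subgroup.mem_sup_left hy) (X.iso hy) with e | e
  · obtain ⟨j, j1, j2, j3, -⟩ := X.pat h ![y] (by simpa) (by omega) (one_mem _) (Or.inr rfl)
    exact (Subgroup.mul_mem_cancel_left _ (k3 j j1 j2)).1 (k3 _ (mul_mem j1 hy)
      (by rw [mul_sq_comm (y := y) (j3 0 (by simp)), j2, e, mul_one]))
  · exact k3 y hy e

end abs

variable {ι : Type} [Fintype ι] [DecidableEq ι] {F K : Type*} [Field F] [Fintype F] [Field K]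
  [Fintype K] [Algebra F K] {R M : Subgroup (GL ι F)} {J : GL ι F}

/-- the adjoint for the form with Gram matrix `J` -/
def adjJ (J : GL ι F) : Adj F (Matrix ι ι F) where
  st := { toFun := fun a => J⁻¹.val * aᵀ * J.val
          map_add' := fun a b => by simp [mul_add, add_mul]
          map_smul' := fun c a => by simp }
  mul a b := by simp [Matrix.transpose_mul, mul_assoc]
  one := by simp

theorem adjJ_st (a : Matrix ι ι F) : (adjJ J).st a = J⁻¹.val * aᵀ * J.val := rfl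

theorem form_adj (a : Matrix ι ι F) (u v : ι → F) :
    (a *ᵥ u) ⬝ᵥ J.val *ᵥ v = u ⬝ᵥ J.val *ᵥ (adjJ J).st a *ᵥ v := by
  rw [adjJ_st, Matrix.mulVec_mulVec, ← mul_assoc, ← mul_assoc, Units.mul_inv, one_mul,
    ← Matrix.mulVec_mulVec, Matrix.dotProduct_mulVec u, Matrix.vecMul_transpose]

theorem form_ext {x y : ι → F} (h : ∀ u, u ⬝ᵥ J.val *ᵥ x = u ⬝ᵥ J.val *ᵥ y) : x = y := by
  have : J.val *ᵥ x = J.val *ᵥ y := dotProduct_eq _ _ fun u => by rw [dotProduct_comm, h, dotProduct_comm]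
  simpa [Matrix.mulVec_mulVec] using congrArg (J⁻¹.val *ᵥ ·) this

theorem mem_adjJ {g : GL ι F} : g ∈ (adjJ J).I ↔
    ∀ u v, (g.val *ᵥ u) ⬝ᵥ J.val *ᵥ g.val *ᵥ v = u ⬝ᵥ J.val *ᵥ v := by
  refine ⟨fun h u v => ?_, fun h => eq_inv_of_mul_eq_one_left (Units.ext
    (Matrix.toLin'.injective (LinearMap.ext fun v => form_ext (J := J) fun u => ?_)))⟩
  · rw [form_adj, ← Adj.ad_val, h, Matrix.mulVec_mulVec v, Units.inv_mul, Matrix.one_mulVec]
  · simp only [Matrix.toLin'_apply, Units.val_mul, ← Matrix.mulVec_mulVec, Adj.ad_val, ← form_adj, h,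
      Units.val_one, Matrix.one_mulVec]

theorem ex_mat (hn : 2 ≤ Fintype.card ι) (h2 : (2 : F) ≠ 0) (h1 : Spans R)
    (h3 : ∀ x ∈ R, ∀ y ∈ R, ⁅x, y⁆ ∈ scalars ι F) (h4 : ∀ x ∈ R, x ^ 2 ∈ scalars ι F)
    (hI : R ≤ (adjJ J).I) : Amb (tauM ι F) ∧ Ex (adjJ J) R ∧
      rk F (R ⊔ Zs F (Matrix ι ι F)) = Fintype.card ι * Fintype.card ι := by
  have : Nonempty ι := Fintype.card_pos_iff.1 (by omega)
  have h := amb_tauM (card_ne_zero_of_comm_scalar h1 h3) h2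
  have hP := h.pau_sup (R := R) (by rwa [Zs_eq]) (fun x hx => by rw [Zs_eq, ← sq]; exact h4 x hx)
    fun x hx => by
      rw [Zs_eq]
      exact mem_scalars_of_comm_eq_one h1 fun y hy => commutatorElement_eq_one_iff_mul_comm.2 (hx y hy)
  have hr : rk F (R ⊔ Zs F (Matrix ι ι F)) = Fintype.card ι * Fintype.card ι := by
    rw [← (rep_toLin h1 le_sup_left).finrank_sq hP h, finrank_fintype_fun_eq_card]
  refine ⟨h, ⟨hI, hP, ?_⟩, hr⟩
  obtain ⟨a, ha, ha'⟩ := SetLike.not_le_iff_exists.1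
    (not_le_of_rk (show 1 < rk F (R ⊔ Zs F (Matrix ι ι F)) by nlinarith))
  obtain ⟨b, hb, an⟩ := hP.exists_anti ha ha'
  obtain ⟨c, a, ha1, rfl⟩ := mem_sup_Zs.1 ha
  obtain ⟨c', b, hb1, rfl⟩ := mem_sup_Zs.1 hb
  have := conj_of_anti (sc_anti (inv_mem (sc_mem c)) (anti_symm (sc_anti (inv_mem (sc_mem c')) an)))
  simp only [inv_mul_cancel_left] at this
  simpa [this] using mul_mem (mul_mem (mul_mem ha1 hb1) (inv_mem ha1)) (inv_mem hb1)

variable (K) in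
/-- extension of scalars -/
abbrev ex : GL ι F →* GL ι K := Matrix.GeneralLinearGroup.map (algebraMap F K)

theorem ex_val (g : GL ι F) : (ex K g).val = g.val.map (algebraMap F K) := rfl

theorem ex_inj : Function.Injective (ex K : GL ι F → _) := fun _ _ e =>
  Units.ext (Matrix.map_injective (algebraMap F K).injective (congrArg Units.val e))

theorem ex_neg (g : GL ι F) : ex K (-g) = -ex K g := Units.ext (by ext; simp [ex_val])

theorem ex_Zs {z : GL ι F} (hz : z ∈ Zs F _) : ex K z ∈ Zs K (Matrix ι ι K) := by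
  obtain ⟨c, rfl⟩ := hz
  exact ⟨Units.map (algebraMap F K : F →* K) c, Units.ext (by
    simp [ex_val, sc_val, Matrix.algebraMap_eq_diagonal, Matrix.diagonal_map, Pi.algebraMap_def])⟩

theorem ex_st (a : Matrix ι ι F) :
    (adjJ (ex K J)).st (a.map (algebraMap F K)) = ((adjJ J).st a).map (algebraMap F K) := by
  rw [adjJ_st, adjJ_st, Matrix.map_mul, Matrix.map_mul, ← map_inv]; rfl

theorem ex_I {g : GL ι F} (hg : g ∈ (adjJ J).I) : ex K g ∈ (adjJ (ex K J)).I :=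
  Units.ext (by rw [Adj.ad_val, ex_val, ex_st, ← Adj.ad_val, hg, ← map_inv]; rfl)

theorem ex_spans (h : Spans R) : Spans (R.map (ex K)) := by
  have k : ∀ a : Matrix ι ι F, a.map (algebraMap F K) ∈ Submodule.span K (matrixSet (R.map (ex K))) :=
    fun a => Al_ind (p := fun a => a.map (algebraMap F K) ∈ Submodule.span K (matrixSet (R.map (ex K))))
      (mem_Al_of_spans h le_rfl a) (fun x hx => Submodule.subset_span ⟨_, ⟨x, hx, rfl⟩, rfl⟩) (by simp)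
      (fun a b _ _ h1 h2 => by rw [Matrix.map_add _ (map_add _)]; exact add_mem h1 h2)
      fun c a _ h => by
        rw [show (c • a).map (algebraMap F K) = algebraMap F K c • a.map (algebraMap F K) by
          ext; simp]
        exact Submodule.smul_mem _ _ h
  refine eq_top_iff.2 fun a _ => ?_
  rw [Matrix.matrix_eq_sum_single a]
  refine Submodule.sum_mem _ fun b _ => Submodule.sum_mem _ fun c _ => ?_
  simpa [Matrix.map_single] using Submodule.smul_mem _ (a b c) (k (Matrix.single b c 1))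

theorem pm_K (hn : 16 ≤ Fintype.card ι) (h2 : (2 : F) ≠ 0) (h1 : Spans R)
    (h3 : ∀ x ∈ R, ∀ y ∈ R, ⁅x, y⁆ ∈ scalars ι F) (h4 : ∀ x ∈ R, x ^ 2 ∈ scalars ι F)
    (hI : R ≤ (adjJ J).I) (hM : M ≤ (adjJ J).I) (anti : ∀ j ∈ R, j * j = -1 → ∀ j' ∈ R,
      j' * j' = -1 → j * j' = -(j' * j) → ∃ c ∈ Zs F _, c * (ga j * ga j') ∈ M)
    {i : Kˣ} (hi : i * i = -1) {S : Subgroup (GL (Fin 3) K)} (hS : H3 (i : K) S) {n : ℕ}
    (key : ∀ G D x, Amb (tauM ι K) → Ex (adjJ (ex K J)) (R.map (ex K)) →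
      256 ≤ rk K (R.map (ex K) ⊔ Zs K _) → Rel2 (adjJ (ex K J)) (R.map (ex K) ⊔ Zs K _) G →
      Hyp (R.map (ex K) ⊔ Zs K _) D x → (adjJ (ex K J)).ad D = -D →
      Big K S (P1 (R.map (ex K) ⊔ Zs K _) D x)
        (Gp (K := K) (Un K (P1 (R.map (ex K) ⊔ Zs K _) D x)) G fun _ => Un_P1_d) →
      ∀ u ∈ (adjJ J).I, u ^ n = 1 → ex K u * D = D * ex K u →
        ∃ g ∈ G, g ^ (Fintype.card K - 1) = (ex K u)⁻¹) :
    M ≤ Nm R ∨ ∀ j ∈ R, j * j = -1 → ∀ u ∈ (adjJ J).I, u ^ n = 1 → u * j = j * u → u ∈ M := by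
  obtain ⟨h, X, hr⟩ := ex_mat (by omega) h2 h1 h3 h4 hI
  obtain ⟨h', X', hr'⟩ := ex_mat (J := ex K J) (by omega)
    (by rw [← map_ofNat (algebraMap F K)]; exact (map_ne_zero _).2 h2) (ex_spans (K := K) h1)
    (by rintro _ ⟨x, hx, rfl⟩ _ ⟨y, hy, rfl⟩
        rw [← map_commutatorElement, ← Zs_eq]; exact ex_Zs (by rw [Zs_eq]; exact h3 x hx y hy))
    (by rintro _ ⟨x, hx, rfl⟩; rw [← map_pow, ← Zs_eq]; exact ex_Zs (by rw [Zs_eq]; exact h4 x hx))
    (by rintro _ ⟨x, hx, rfl⟩; exact ex_I (hI hx))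
  have r1 : 256 ≤ rk K (R.map (ex K) ⊔ Zs K _) := by nlinarith
  have n1 : ∀ j : GL ι F, ex K j * ex K j = -1 → j * j = -1 := fun j e =>
    ex_inj (K := K) (by rw [map_mul, e, ex_neg, map_one])
  have g1 : ∀ j : GL ι F, j * j = -1 → ga (ex K j) = ex K (ga j) := fun j e => Units.ext (by
    rw [h'.ga_val (by rw [← map_mul, e, ex_neg, map_one]), ex_val, ex_val, h.ga_val e,
      Matrix.map_add _ (map_add _), Matrix.map_one _ (map_zero _) (map_one _)])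
  have R2 := X'.rel2 h' (by omega) (fun g => mem_Un.2 (mem_Al_of_spans (ex_spans h1) le_sup_left _))
    (M := M.map (ex K)) (by rintro _ ⟨x, hx, rfl⟩; exact ex_I (hM hx)) (by
      rintro _ ⟨j, a1, rfl⟩ a2 _ ⟨j', a3, rfl⟩ a4 a5
      obtain ⟨c, hc, e⟩ := anti j a1 (n1 j a2) j' a3 (n1 j' a4)
        (ex_inj (K := K) (by rw [map_mul, a5, ex_neg, map_mul]))
      exact ⟨_, ex_Zs hc, _, e, by rw [map_mul, map_mul, g1 j (n1 j a2), g1 j' (n1 j' a4)]⟩)
  rcases R2.main h' hi hS r1 with e | ⟨D, x, H, hD, hB⟩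
  · refine Or.inl fun g hg => mem_Nm fun y hy => ?_
    obtain ⟨y', hy', e'⟩ := Nm_conj (X'.Nm h' (Subgroup.mem_sup_left (ex_I (hM hg)))
      (e (Subgroup.mem_sup_left ⟨g, hg, rfl⟩))) ⟨y, hy, rfl⟩
    rwa [← ex_inj (K := K) (show ex K y' = ex K (g * y * g⁻¹) by simp [e'])]
  refine Or.inr fun j j1 j2 u u1 u2 u3 => ?_
  obtain ⟨j0, k1, k2⟩ := X'.real h' (mul_mem (X'.pau.sc_le (sc_mem i)) H.hd) ((Adj.skew hi H.dd).2 hD)
  have k3 := n1 j0 (k2 ▸ isq hi H.dd)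
  obtain ⟨s, hs, e⟩ := (X.rel2 h (by nlinarith)
    (fun g => mem_Un.2 (mem_Al_of_spans h1 le_sup_left _)) hM anti).trans h (by nlinarith)
    (Subgroup.mem_sup_left j1) (hI j1) (h.skew_notMem (hI j1) j2) (Subgroup.mem_sup_left k1) (hI k1)
    (h.skew_notMem (hI k1) k3) (j2.trans k3.symm)
  obtain ⟨c, m, hm, rfl⟩ := mem_sup_Zs.1 hs
  have e1 : m * j * m⁻¹ = j0 := by
    rw [← e, mul_inv_rev, mul_assoc (sc F _ c), mul_assoc (sc F _ c), ← mul_assoc _ m⁻¹, ← mul_assoc,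
      conj_of_comm (sc_comm c _)]
  obtain ⟨g, hg, e2⟩ := key _ D x h' X' r1 R2 H hD hB (m * u * m⁻¹)
    (Adj.conj (Subgroup.mem_sup_left (hM hm)) u1) (by rw [conj_pow, u2]; simp) (by
      have := congrArg (ex K) (conj_comm m u3)
      rw [e1, map_mul _ _ j0, map_mul _ j0, k2] at this
      simpa using (sc_comm' (inv_mem (sc_mem i)) this.symm).symm)
  obtain ⟨c', _, ⟨m', hm', rfl⟩, rfl⟩ := mem_sup_Zs.1 hg
  rw [Commute.mul_pow (sc_comm _ _), Zs_pow (sc_mem c'), one_mul, ← map_pow, ← map_inv] at e2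
  have := M.inv_mem (pow_mem hm' (Fintype.card K - 1))
  rw [ex_inj e2, inv_inv] at this
  simpa [mul_assoc] using mul_mem (mul_mem (inv_mem hm) this) hm

theorem ex_map {q : ℕ} (hF : Fintype.card F = q) (hK : Fintype.card K = q ^ 2) (g : GL ι F) :
    (ex K g).val.map (frob hK) = (ex K g).val := by
  ext; simp [ex_val, frob_apply, ← map_pow, ← hF, FiniteField.pow_card]

theorem pm_uni (hK : Fintype.card K = Fintype.card F ^ 2) (h5 : Fintype.card F % 4 = 3)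
    (hp : (Fintype.card F).Prime) (h2 : (2 : F) ≠ 0) (hJ : J.valᵀ = J ∨ J.valᵀ = -J)
    (hn : 16 ≤ Fintype.card ι) (h1 : Spans R)
    (h3 : ∀ x ∈ R, ∀ y ∈ R, ⁅x, y⁆ ∈ scalars ι F) (h4 : ∀ x ∈ R, x ^ 2 ∈ scalars ι F)
    (hI : R ≤ (adjJ J).I) (hM : M ≤ (adjJ J).I) (anti : ∀ j ∈ R, j * j = -1 → ∀ j' ∈ R,
      j' * j' = -1 → j * j' = -(j' * j) → ∃ c ∈ Zs F _, c * (ga j * ga j') ∈ M) :
    M ≤ Nm R ∨ ∀ j ∈ R, j * j = -1 → ∀ u ∈ (adjJ J).I, u ^ Fintype.card F = 1 →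
      u * j = j * u → u ∈ M := by
  obtain ⟨i, hi⟩ := FiniteField.isSquare_neg_one_iff.2 (show Fintype.card K % 4 ≠ 3 by
    rw [hK, Nat.pow_mod, h5]; decide)
  have i0 : i ≠ 0 := by rintro rfl; simp at hi
  have hi' : Units.mk0 i i0 * Units.mk0 i i0 = -1 := Units.ext hi.symm
  have hσ := frob_i hK h5 hi.symm
  obtain ⟨l, l0, hl⟩ : ∃ l : K, l ≠ 0 ∧ frob hK l • (ex K J).valᵀ = l • (ex K J).val := by
    rcases hJ with e | e
    · exact ⟨1, one_ne_zero, by rw [map_one, ex_val, ← Matrix.transpose_map, e]⟩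
    · exact ⟨i, i0, by rw [hσ, ex_val, ← Matrix.transpose_map, e, Matrix.map_neg _ (map_neg _), neg_smul,
        smul_neg, neg_neg]⟩
  let B : (ι → K) →ₛₗ[frob hK] (ι → K) →ₗ[K] K := LinearMap.mk₂'ₛₗ (frob hK) (RingHom.id K)
    (fun u v => l * (frob hK ∘ u) ⬝ᵥ (ex K J).val *ᵥ v)
    (fun a b c => by rw [← mul_add, ← add_dotProduct]; congr 2; ext; simp)
    (fun a b c => by
      rw [show frob hK ∘ (a • b) = frob hK a • (frob hK ∘ b) by ext; simp, smul_dotProduct]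
      simp [mul_left_comm])
    (fun a b c => by simp [Matrix.mulVec_add, mul_add])
    fun a b c => by simp [Matrix.mulVec_smul, mul_left_comm]
  have hB : ∀ u v, B u v = l * (frob hK ∘ u) ⬝ᵥ (ex K J).val *ᵥ v := fun _ _ => rfl
  have m1 : ∀ (a : Matrix ι ι K) u, frob hK ∘ (a *ᵥ u) = a.map (frob hK) *ᵥ (frob hK ∘ u) :=
    fun a u => funext fun b => RingHom.map_mulVec _ a u b
  let s : Matrix ι ι K →+ Matrix ι ι K := AddMonoidHom.mk' (fun a => (adjJ (ex K J)).st (a.map (frob hK)))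
    fun a b => by rw [Matrix.map_add _ (map_add _), map_add]
  refine pm_K hn h2 h1 h3 h4 hI hM anti hi' (h3_uni hK hp h5 hi')
    fun G D x h X r R2 H hD hB' u u1 u2 u3 => R2.unip_uni h hi' (rep_toLin (ex_spans h1) le_sup_left)
      hK h5 (by omega) (B := B) ⟨frob_ne_id hK, frob_frob hK, fun x y => ?_, fun x hx => ?_⟩ (s := s)
      (fun a b => by simp [s, Matrix.map_mul, Adj.mul]) (fun x hx e => ?_) (fun a x y => ?_) H hD hB'
      (mem_Un.2 (mem_Al_of_spans (ex_spans h1) le_sup_left _)) (ex_I u1) u3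
      (by rw [← map_pow, hK, sq, pow_mul, u2, one_pow, map_one]) fun x y => ?_
  · rw [hB, hB, map_mul, RingHom.map_dotProduct, m1, ex_map rfl, Matrix.dotProduct_mulVec,
      ← Matrix.mulVec_transpose, dotProduct_comm, ← smul_eq_mul, ← smul_eq_mul,
      ← dotProduct_smul, ← dotProduct_smul, ← Matrix.smul_mulVec, ← Matrix.smul_mulVec, hl,
      show frob hK ∘ frob hK ∘ x = x from funext fun a => frob_frob hK _]
  · have : frob hK ∘ x = 0 := by
      by_contra hn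
      obtain ⟨a, ha⟩ := Function.ne_iff.1 hn
      have := hx ((ex K J)⁻¹.val *ᵥ Pi.single a 1)
      rw [hB, Matrix.mulVec_mulVec, Units.mul_inv, Matrix.one_mulVec, dotProduct_single, mul_one] at this
      exact ha ((mul_eq_zero.1 this).resolve_left l0)
    ext a
    simpa using congrFun this a
  · obtain ⟨c, _, ⟨r, hr, rfl⟩, rfl⟩ := mem_sup_Zs.1 hx
    have e1 : s (sc K _ c * ex K r).val = frob hK c • ((ex K r)⁻¹).val := by
      rw [← ex_I (hI hr), Adj.ad_val, ← map_smul, sc_mul_val]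
      exact congrArg (adjJ (ex K J)).st (by
        rw [Matrix.map_smul' _ _ _ (map_mul _), ex_map rfl])
    rw [e1, sc_mul_val]
    rw [sc_mul_sq] at e
    rcases X.ort.sq h (Subgroup.mem_sup_left ⟨r, hr, rfl⟩) (ex_I (hI hr)) with e2 | e2
    · rw [e2, mul_one, ← map_one (sc K _)] at e
      rw [inv_eq_of_mul_eq_one_right e2]
      rcases mul_self_eq_one_iff.1 (congrArg Units.val (h.sc_inj e)) with e3 | e3 <;> simp [e3]
    · rw [e2, mul_neg_one, ← sc_neg, ← map_one (sc K _)] at e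
      rw [inv_of_nsq e2, frob_i hK h5 (i := c) (congrArg Units.val (neg_eq_iff_eq_neg.1 (h.sc_inj e)))]
      simp
  · change B (a *ᵥ x) y = B x (s a *ᵥ y)
    rw [hB, hB, m1, form_adj]; rfl
  · change B (_ *ᵥ x) (_ *ᵥ y) = B x y
    rw [hB, hB, m1, ex_map rfl, mem_adjJ.1 (ex_I u1)]

theorem pm_main (hp : (Fintype.card F).Prime) (h2 : (2 : F) ≠ 0) (hJ : J.valᵀ = J ∨ J.valᵀ = -J)
    (hn : 16 ≤ Fintype.card ι) (h1 : Spans R)
    (h3 : ∀ x ∈ R, ∀ y ∈ R, ⁅x, y⁆ ∈ scalars ι F) (h4 : ∀ x ∈ R, x ^ 2 ∈ scalars ι F)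
    (hI : R ≤ (adjJ J).I) (hM : M ≤ (adjJ J).I) (anti : ∀ j ∈ R, j * j = -1 → ∀ j' ∈ R,
      j' * j' = -1 → j * j' = -(j' * j) → ∃ c ∈ Zs F _, c * (ga j * ga j') ∈ M) :
    M ≤ Nm R ∨ ∀ j ∈ R, j * j = -1 → ∀ u ∈ (adjJ J).I, u ^ Fintype.card F = 1 →
      u * j = j * u → u ∈ M := by
  by_cases h5 : Fintype.card F % 4 = 3
  swap
  · obtain ⟨i, hi⟩ := FiniteField.isSquare_neg_one_iff.2 h5
    have i0 : i ≠ 0 := by rintro rfl; simp at hi
    have hi' : Units.mk0 i i0 * Units.mk0 i i0 = -1 := Units.ext hi.symm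
    exact pm_K hn h2 h1 h3 h4 hI hM anti hi' (h3_lin hp hi' h2) fun G D x h X _ R2 H hD hB u u1 u2 u3 =>
      R2.unip_lin h hi' (rep_toLin (ex_spans h1) le_sup_left) hp H hD hB
        (mem_Un.2 (mem_Al_of_spans (ex_spans h1) le_sup_left _)) (ex_I u1) u3
        (by rw [← map_pow, u2, map_one])
  have := Fact.mk hp
  have : CharP F (Fintype.card F) := charP_of_card_eq_prime rfl
  have := Fintype.ofFinite (FiniteField.Extension F (Fintype.card F) 2)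
  exact pm_uni (K := FiniteField.Extension F (Fintype.card F) 2) (by
    rw [← Nat.card_eq_fintype_card, FiniteField.natCard_extension, Nat.card_eq_fintype_card])
    h5 hp h2 hJ hn h1 h3 h4 hI hM anti

end H60.Cl
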