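import Cfsg.Agent.H60.PmC

/-! Overgroups of the real Clifford group: the main theorem. -/

set_option autoImplicit false
set_option linter.unusedSectionVars false

namespace H60.Cl

open scoped commutatorElement MatrixGroups

variable {K E : Type*} [Field K] [Ring E] [Algebra K E] [Finite E]
variable {τ : E →ₗ[K] K} {P G N Q U : Subgroup Eˣ} {x y z d g j k u v w a b c D : Eˣ} {A : Adj K E}

theorem Adj.ad_comm (hy : y ∈ A.I) (hc : u * y = y * u) : A.ad u * y = y * A.ad u := by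
  have := congrArg A.ad hc
  rw [A.ad_mul, A.ad_mul, hy] at this
  simpa using cinv this.symm

theorem Amb.Gp_sim (h : Amb τ) (H : Hyp P d x) (hd : d ∈ A.I) (hx : x ∈ A.I) (hG : G ≤ A.S) :
    Gp (K := K) (Un K (P1 P d x)) G (fun _ => Un_P1_d) ≤ A.S := by
  rintro u ⟨hu, g, hg, c1, e1⟩
  obtain ⟨c, hc, e2⟩ := Adj.mem_S.1 (hG hg)
  refine Adj.mem_S.2 ⟨c, hc, eq_inv_of_mul_eq_one_left (Units.ext ?_)⟩
  have c2 := sc_comm' hc (Un_P1_d hu)
  have c3 := sc_comm' hc (Un_P1_x hu)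
  have e3 : ((c * g : Eˣ) : E) * ee K d = (c * u : Eˣ) * ee K d := by
    rw [Units.val_mul, Units.val_mul, mul_assoc, e1, mul_assoc]
  have e4 := congrArg A.st e3
  rw [A.mul, A.mul, Amb.st_ee, (Adj.mem_I_of_sq H.dd).1 hd, ← Adj.ad_val, ← Adj.ad_val, e2] at e4
  refine h.inj H.an (comm_val (cc (Adj.ad_comm hx c3).symm c3.symm).symm) (by simp) ?_
  rw [Units.val_mul, mul_assoc, ← e3, ee_comm (comm_val (sc_comm' hc c1)), ← mul_assoc,
    ee_comm (comm_val (Adj.ad_comm hd c2)), ← e4]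
  simp only [Units.inv_mul_cancel_right, Units.val_one, one_mul]

theorem Amb.mem_I_of_ct (h : Amb τ) (dd : d * d = 1) (an : d * x = -(x * d)) (hd : d ∈ A.I)
    (hx : x ∈ A.I) (c1 : k * d = d * k) (c2 : k * x = x * k) (hk : ct K d k ∈ A.S) : k ∈ A.I := by
  have c3 := Adj.ad_comm hd c1
  have e1 : A.ad (ct K d k) = ct K d (A.ad k) := Units.ext (by
    rw [Adj.ad_val, h.ct_val dd c1, h.ct_val dd c3, map_add, map_sub, A.mul, A.one, Amb.st_ee,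
      (Adj.mem_I_of_sq dd).1 hd, ee_comm (comm_val c3), Adj.ad_val])
  have hz := Adj.mult hk
  have c4 := (cc c3.symm c1.symm).symm
  rw [e1, ← h.ct_mul dd c3 c1] at hz
  have e2 := h.inj (d := -d) (b := 1) (by simp [an]) (comm_val (Zs_comm hz x)) (by simp)
    (by rw [h.ct_ee' dd c4, one_mul])
  have e3 := h.ct_ee dd c4
  rw [e2] at e3
  exact eq_inv_of_mul_eq_one_left (Units.ext (h.inj an
    (comm_val (cc (Adj.ad_comm hx c2).symm c2.symm).symm) (by simp) e3.symm))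

theorem Rel2.Gp_le (R : Rel2 A P G) (h : Amb τ) (h128 : 128 < rk K P)
    (hC : ∀ j ∈ P, j ∈ A.I → j * j = -1 → ∀ g ∈ G, g * j = j * g → g ∈ Nm P) (H : Hyp P d x)
    (hd : d ∈ A.I) : Gp (K := K) (Un K (P1 P d x)) G (fun _ => Un_P1_d) ≤ Nm (P1 P d x) := by
  have O := R.ort.of_le (R.pau.p1 H.hd H.hx H.an) P1_le
  have r1 := R.pau.rk_P1 H.hd H.hx
  refine O.pau.le_Nm_of h (N := h.Kp H.dd (Un K (P1 P d x)) G fun _ => Un_P1_d) (fun _ hu => hu.1)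
    (fun _ hu => mem_Gp_of (le_Un hu) (R.le (P1_le hu)))
    (fun u hu => ⟨hu.1, _, hu.2, (h.ct_comm H.dd (Un_P1_d hu.1) rfl (Un_P1_d hu.1).symm).symm,
      h.ct_ee H.dd (Un_P1_d hu.1)⟩) (h.Kp_Nm H.dd) (fun y hy => ?_) (R.Kp_le h h128 hC H hd)
    fun y hy hy' => ?_
  · obtain ⟨c, hc, m1, m2⟩ := O.real hy
    exact (Subgroup.mul_mem_cancel_left _ (Subgroup.mem_sup_right hc)).1 (Subgroup.mem_sup_left
      ⟨le_Un m1, R.ct_mem h (by omega) H.hd hd H.dd (P1_le m1) m2 (mem_P1.1 m1).1.2⟩)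
  obtain ⟨w, hw, an⟩ := O.pau.exists_anti hy hy'
  obtain ⟨w, w1, w2, w3, -, w4⟩ := O.pat h ![y] (by simpa) (by omega) hw (Or.inr rfl)
  obtain ⟨v, v1, v2, v3, v4, -⟩ := O.pat h ![y] (by simpa) (by omega) (one_mem _) (Or.inr rfl)
  have a1 : w * y = -(y * w) := w4 0 an
  have a2 : v * y = y * v := v4 0 (by simp)
  refine ⟨_, R.two_Gp h w1 w2 w3 v1 v2 v3, ?_⟩
  rw [mul_inv_rev, mul_assoc (ga w), ← h.ga_comm v3 a2.symm, ← mul_assoc, ← mul_assoc,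
    mul_inv_cancel_right, h.ga_anti w3 a1]
  exact anti_symm (ac (anti_symm a1) rfl)

theorem Rel2.cen_sym (R : Rel2 A P G) (h : Amb τ) (h128 : 128 < rk K P)
    (hC : ∀ j ∈ P, j ∈ A.I → j * j = -1 → ∀ g ∈ G, g * j = j * g → g ∈ Nm P) (H : Hyp P d x)
    (hd : d ∈ A.I) (hx : x ∈ A.I) (hg : g ∈ G) (hc : g * d = d * g) : g ∈ Nm P := by
  have O := R.ort.of_le (R.pau.p1 H.hd H.hx H.an) P1_le
  have r1 := R.pau.rk_P1 H.hd H.hx
  have s2 := R.Gp_le h h128 hC H hd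
  obtain ⟨u, hu, v, hv, rfl⟩ := H.part' R.pau h (R.le H.hx) R.un hg hc
  have hk := mul_mem (inv_mem hv) hu
  set k := v⁻¹ * u
  have c1 := Un_P1_d hk.1
  have v1 := h.Gp_sim H hd hx R.sim hv
  have k1 : k ∈ P1 P d x := O.pau.inn h hk.1 fun y hy => by
    have key : ∀ w ∈ P1 P d x, w ∈ A.I → w * w = -1 → Commute (pr K E k) (pr K E w) :=
      fun w w1 w2 w3 => pr_comm.2 (O.fix h (s2 hk) le_rfl O.pau.sc_le (by omega)
        (fun w a1 a2 a3 w' b1 b2 b3 => ?_) w1 w2 w3)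
    · obtain ⟨c, hc, m1, m2⟩ := O.real hy
      rw [← pr_comm, ← one_mul (pr K E y), ← pr_eq_one.2 hc, ← map_mul]
      rcases O.sq h m1 m2 with e | e
      swap
      · exact (key _ m1 m2 e).symm
      obtain ⟨j, j1, j2, j3, j4, -⟩ := O.pat h ![c * y] (by simpa) (by omega) (one_mem _) (Or.inr rfl)
      have := ((key j j1 j2 j3).inv_right).mul_right (key _ (mul_mem j1 m1) (mul_mem j2 m2) (by
        rw [mul_sq_comm (y := c * y) (j4 0 (by simp)), j3, e, mul_one]))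
      rw [map_mul (pr K E) j, inv_mul_cancel_left] at this
      exact this.symm
    have σ1 := R.two_Gp h b1 b2 b3 a1 a2 a3
    have σ2 := R.two _ (P1_le b1) b2 b3 _ (P1_le a1) a2 a3
    have σ3 := R.two _ (P1_le (Nm_conj (s2 hv) b1)) (Adj.conj v1 b2) (conj_sq (K := K) v b3 neg_one_mem)
      _ (P1_le (Nm_conj (s2 hv) a1)) (Adj.conj v1 a2) (conj_sq (K := K) v a3 neg_one_mem)
    rw [← h.ga_conj b3, ← h.ga_conj a3, conj_mul] at σ3
    set σ := ga w' * ga w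
    have m := mul_mem (mul_mem (mul_mem hk σ1) (inv_mem hk)) (inv_mem σ1)
    have m' := mul_mem (mul_mem hv m) (inv_mem hv)
    have c2 := Un_P1_d σ1.1
    have e : ct K d (v * (k * σ * k⁻¹ * σ⁻¹) * v⁻¹) =
        v * ct K d k * σ * (v * ct K d k)⁻¹ * (v * σ * v⁻¹)⁻¹ := by
      rw [← h.ct_conj_of H.dd (Un_P1_d m.1) (Un_P1_d hv.1) (Un_P1_d hv.1) rfl, mul_assoc k, mul_assoc k,
        h.ct_mul H.dd c1 (cc (cc c2.symm (cinv c1.symm)) (cinv c2.symm)).symm,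
        ← h.ct_conj_of H.dd (cinv c1.symm).symm c2 c2 rfl, h.ct_inv H.dd c1]
      group
    have := Nm_conj ((Nm _).inv_mem (s2 hv)) (R.Kp_le h h128 hC H hd ⟨⟨m'.1, e ▸
      mul_mem (mul_mem (mul_mem hg σ2) (inv_mem hg)) (inv_mem σ3)⟩, s2 m'⟩)
    simpa [mul_assoc, commutatorElement_def] using this
  have k2 := h.mem_I_of_ct H.dd H.an hd hx c1 (Un_P1_x hk.1)
    ((A.S.mul_mem_cancel_left v1).1 (R.sim hg))
  exact mul_mem (mem_Nm_of_P1 R.pau H.hd H.hx H.an (by rw [conj_of_comm (Un_P1_d hv.1)]; exact H.hd)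
    (by rw [conj_of_comm (Un_P1_x hv.1)]; exact H.hx) fun y hy => P1_le (Nm_conj (s2 hv) hy))
    ((R.inf h).ct_mem h (by omega) H.hd hd H.dd (P1_le k1) k2 c1).2

theorem Rel2.ti (R : Rel2 A P G) (h : Amb τ) (h128 : 128 < rk K P)
    (hC : ∀ j ∈ P, j ∈ A.I → j * j = -1 → ∀ g ∈ G, g * j = j * g → g ∈ Nm P) (g : Eˣ) (hg : g ∈ G)
    (y : Eˣ) (hy : y ∈ P) (hy' : y ∉ Zs K E) (h1 : g * y * g⁻¹ ∈ P) : g ∈ Nm P := by
  obtain ⟨c, hc', hd, hd1⟩ := R.ort.real hy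
  have hd' : c * y ∉ Zs K E := fun hz => hy' ((mul_mem_cancel_left hc').1 hz)
  obtain ⟨s, ⟨s1, s2⟩, e'⟩ := (R.inf h).trans h (by omega) hd hd1 hd' (y := g * (c * y) * g⁻¹) (by
      rw [← conj_mul]; exact mul_mem (R.pau.sc_le (conj_mem_Zs.2 hc')) h1) (Adj.conj (R.sim hg) hd1)
    (mt conj_mem_Zs.1 hd') (conj_sq g rfl (R.pau.sq _ hd)).symm
  have m := G.mul_mem (G.inv_mem s1) hg
  have c1 : s⁻¹ * g * (c * y) = c * y * (s⁻¹ * g) := mul_inv_eq_iff_eq_mul.1 (by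
    rw [mul_inv_rev, mul_assoc s⁻¹, ← mul_assoc, mul_assoc s⁻¹, ← e']; group)
  refine ((Nm P).mul_mem_cancel_left ((Nm P).inv_mem s2)).1 ?_
  rcases R.ort.sq h hd hd1 with e | e
  · obtain ⟨x, hx, a⟩ := R.pau.exists_anti hd hd'
    obtain ⟨c', hc, x1, x2⟩ := R.ort.real hx
    exact R.cen_sym h h128 hC ⟨hd, x1, e, anti_symm (sc_anti hc a)⟩ hd1 x2 m c1
  · exact hC _ hd hd1 e _ m c1

theorem Amb.ct_neg_one (h : Amb τ) (dd : d * d = 1) : ct K d (-1) = -d := Units.ext (by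
  rw [h.ct_val dd (by simp), Units.val_neg d, h.val_eq_ee d]; simp; abel)

theorem Rel2.le_Nm (R : Rel2 A P G) (h : Amb τ) (h256 : 256 ≤ rk K P)
    (hC : ∀ j ∈ P, j ∈ A.I → j * j = -1 → ∀ g ∈ G, g * j = j * g → g ∈ Nm P) : G ≤ Nm P := by
  intro g hg
  by_contra hg'
  have hT := R.pau.ti R.le (R.ti h (by omega) hC)
  have hS := R.pau.sc h R.un hT (by omega) (fun D hD hZ hr b b' s1 s2 y hy e1 e2 => by
    have r0 : 16 ≤ rk K D := by nlinarith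
    have r1 := rk_Ce hZ s1
    have r2 := rk_Ce (Zs_le_Ce (b := b) hZ) fun w hw => s2 w hw.1
    have r3 := rk_Ce (Zs_le_Ce (b := b') (Zs_le_Ce (b := b) hZ))
      fun w hw => R.pau.comm w (hD hw.1.1) y (hD hy)
    obtain ⟨d, hd, hd'⟩ := SetLike.not_le_iff_exists.1
      (not_le_of_rk (show 1 < rk K (Ce (Ce (Ce D b) b') y) by omega))
    obtain ⟨c, hc, y1, y2⟩ := R.ort.real (hD hy)
    obtain ⟨c', hc', d1, d2⟩ := R.ort.real (hD hd.1.1.1)
    have a1 := sc_comm' hc e1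
    have a2 := sc_anti hc e2
    have a3 := sc_comm' hc' (mem_Ce.1 hd.1.1).2
    have a4 := sc_comm' hc' (mem_Ce.1 hd.1).2
    have a5 := sc_comm' hc (sc_comm' hc' (mem_Ce.1 hd).2).symm
    have a6 : c' * d ∉ Zs K E := fun hz => hd' ((mul_mem_cancel_left hc').1 hz)
    generalize c * y = y at *
    generalize c' * d = d at *
    rcases R.ort.sq h d1 d2 with e | e
    · refine ⟨_, R.ct_mem h (by omega) d1 d2 e y1 y2 a5, (h.ct_comm e a5 a3.symm a1.symm).symm, ?_⟩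
      rw [commutatorElement_def, mul_assoc, mul_assoc, ← mul_assoc b', ← h.ct_inv e a5,
        h.ct_conj_of e (cinv a5.symm).symm a4.symm a4.symm rfl, conj_of_anti (ainv (anti_symm a2)),
        ← h.ct_mul e a5 (by simp [cinv a5.symm]), mul_neg, mul_inv_cancel, h.ct_neg_one e]
      exact ⟨R.pau.neg_mem d1, mt neg_mem_Zs.1 a6⟩
    obtain ⟨y, y1, y2, y3, a1, a2⟩ : ∃ y ∈ P, y ∈ A.I ∧ y * y = -1 ∧ y * b = b * y ∧
        y * b' = -(b' * y) := by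
      rcases R.ort.sq h y1 y2 with e' | e'
      · exact ⟨_, mul_mem y1 d1, mul_mem y2 d2, by rw [mul_sq_comm a5, e, e', one_mul],
          (cc a1.symm a3.symm).symm, anti_symm (ac (anti_symm a2) a4.symm)⟩
      · exact ⟨y, y1, y2, e', a1, a2⟩
    refine ⟨_, R.two _ y1 y2 y3 _ d1 d2 e,
      (cc (h.ga_comm y3 a1.symm) (h.ga_comm e a3.symm)).symm, ?_⟩
    rw [commutatorElement_def, mul_inv_rev, mul_assoc (ga y), ← h.ga_comm e a4.symm, ← mul_assoc,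
      ← mul_assoc, mul_inv_cancel_right, h.ga_anti y3 a2, mul_inv_cancel_right]
    exact ⟨y1, h.notMem_of_anti a2⟩) R.le
  obtain ⟨T, t1, t2⟩ := hT.sharp hS ⟨g, hg, rfl⟩ fun e => hg' (Nm_of_pr R.pau.sc_le e)
  obtain ⟨j, j1, j2, j3, -⟩ := R.ort.pat h ![] (fun a => a.elim0) (by simp; omega) (one_mem _) (Or.inr rfl)
  obtain ⟨w, hw, an⟩ := R.pau.exists_anti j1 (h.skew_notMem j2 j3)
  obtain ⟨w, w1, w2, w3, -, w4⟩ := R.ort.pat h ![j] (by simpa) (by omega) hw (Or.inl rfl)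
  obtain ⟨s, ⟨s1, s2⟩, -⟩ := t2 _ ⟨w, w1, rfl⟩ (mt pr_eq_one.1 (h.notMem_of_anti (w4 0 an))) _ ⟨j, j1, rfl⟩
    (mt pr_eq_one.1 (h.skew_notMem j2 j3))
  obtain ⟨s, hs, rfl⟩ := (t1 s1).1
  have e := conj_sq s w3 (one_mem (Zs K E))
  rcases h.I_Zs (mul_mem (Adj.conj (R.sim hs) w2) (inv_mem j2)) (pr_eq_one.1 (by
      rw [map_mul, map_mul, map_mul, map_inv, map_inv, s2, mul_inv_cancel])) with
    e' | e' <;> rw [eq_mul_of_mul_inv_eq e'] at e <;> exact h.ne_neg 1 (by simpa [j3] using e.symm)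

variable {S : Subgroup (GL (Fin 3) K)} {i : Kˣ}

/-- the main theorem for the real Clifford groups -/
theorem Rel2.main (R : Rel2 A P G) (h : Amb τ) (hi : i * i = -1) (h3 : H3 (i : K) S)
    (h256 : 256 ≤ rk K P) : G ≤ Nm P ∨ ∃ D x, Hyp P D x ∧ A.ad D = -D ∧
      Big K S (P1 P D x) (Gp (K := K) (Un K (P1 P D x)) G fun _ => Un_P1_d) := by
  by_contra hn
  push Not at hn
  refine hn.1 (R.le_Nm h h256 fun j j1 j2 j3 g hg hc => ?_)
  obtain ⟨e1, e2⟩ := Adj.exists_skew hi j2 j3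
  obtain ⟨x, hx, an⟩ := R.pau.exists_anti j1 (h.skew_notMem j2 j3)
  refine R.cen_skew h hi (by omega) (fun D x H hD => ((R.down h hi H hD).main h hi h3 ?_).resolve_right
    (hn.2 D x H hD)) ⟨mul_mem (R.pau.sc_le (sc_mem _)) j1, hx, e1, sc_anti (sc_mem _) (anti_symm an)⟩
    e2 hg (sc_comm' (sc_mem _) hc.symm).symm
  have := R.pau.rk_P1 H.hd H.hx
  omega

end H60.Cl
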