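import Cfsg.Agent.H60.PmT

/-! Overgroups of the real Clifford group: unipotent elements centralising a skew element. -/

set_option autoImplicit false
set_option linter.unusedSectionVars false

namespace H60.Cl

open Module H59
open scoped commutatorElement MatrixGroups

variable {K E W : Type*} [Field K] [Ring E] [Algebra K E] [Finite E] [AddCommGroup W] [Module K W]
variable {τ : E →ₗ[K] K} {P G N : Subgroup Eˣ} {x y z d g j u v D : Eˣ} {φ : E →ₗ[K] End K W}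
variable {A : Adj K E} [Fintype K] [FiniteDimensional K W]

theorem pow_ee (hv : v * d = d * v) (e : (u : E) * ee K d = v * ee K d) (n : ℕ) :
    ((u ^ n : Eˣ) : E) * ee K d = (v ^ n : Eˣ) * ee K d := by
  induction n with
  | zero => simp
  | succ n ih =>
    rw [pow_succ, pow_succ, Units.val_mul, Units.val_mul, mul_assoc, e, ee_comm (comm_val hv),
      ← mul_assoc, ih, mul_assoc, mul_assoc, ee_comm (comm_val hv)]

theorem Amb.ct_pow (h : Amb τ) (dd : d * d = 1) (hu : u * d = d * u) (n : ℕ) :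
    ct K d (u ^ n) = ct K d u ^ n := by
  induction n with
  | zero => simp [h.ct_one dd]
  | succ n ih => rw [pow_succ, pow_succ, h.ct_mul dd ((Commute.pow_left hu n).eq) hu, ih]

theorem Zs_pow (hz : z ∈ Zs K E) : z ^ (Fintype.card K - 1) = 1 := by
  obtain ⟨c, rfl⟩ := hz
  rw [← map_pow, show c ^ (Fintype.card K - 1) = 1 from
    Units.ext (by simpa using FiniteField.pow_card_sub_one_eq_one c.1 c.ne_zero), map_one]

theorem Rel2.unip (R : Rel2 A P G) (h : Amb τ) (H : Hyp P D x) (hD : A.ad D = -D) (hu : u ∈ Un K P)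
    (hI : u ∈ A.I) (hc : u * D = D * u) (hp : u ^ Fintype.card K = 1)
    (key : ∀ v ∈ Un K (P1 P D x), (u : E) * ee K D = v * ee K D → v ^ Fintype.card K = 1 →
      v ∈ Gp (K := K) (Un K (P1 P D x)) G fun _ => Un_P1_d) :
    ∃ g ∈ G, g ^ (Fintype.card K - 1) = u⁻¹ := by
  obtain ⟨v, hv, e⟩ := H.part R.pau h hu hc
  obtain ⟨-, g, hg, c, e1⟩ := key v hv e (Units.ext (h.inj H.an (Al_P1_x (pow_mem hv _).1) (by simp)
    (by rw [← pow_ee (Un_P1_d hv) e, hp])))
  obtain ⟨z, hz, e2⟩ := h.eq_ct H.dd hD (mul_mem (inv_mem (Subgroup.mem_sup_left hI)) (R.sim hg))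
    (cc (cinv hc.symm) c.symm).symm (by rw [Units.val_mul, mul_assoc, e1, ← e, Units.inv_mul_cancel_left])
  have d1 := (H.neg R.pau).dd
  refine ⟨g, hg, ?_⟩
  rw [eq_mul_of_inv_mul_eq e2, Commute.mul_pow (h.ct_comm d1 (Zs_comm hz _) (by simp [hc])
    (Zs_comm hz _).symm), ← h.ct_pow d1 (Zs_comm hz _), Zs_pow hz, h.ct_one d1, mul_one,
    eq_inv_iff_mul_eq_one, ← pow_succ, Nat.sub_add_cancel Fintype.card_pos, hp]

theorem Rep.mem_of_det (hφ : Rep P φ) (hG : G ≤ Un K P) (hu : u ∈ Un K P)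
    (hp : u ^ Fintype.card K = 1) (h : ∀ e : W ≃ₗ[K] W, (∀ w, e w = φ u w) →
      LinearMap.det (e : W →ₗ[K] W) = 1 → ∃ g ∈ G, ∀ w, e w = φ g w) : u ∈ G := by
  obtain ⟨e, he⟩ := hφ.exists_equiv hu
  have e1 : (e : W →ₗ[K] W) = φ u := LinearMap.ext he
  have e2 : ∀ n : ℕ, φ (u ^ n : Eˣ) = φ u ^ n := fun n => by
    induction n with
    | zero => simp [hφ.one]
    | succ n ih => rw [pow_succ, pow_succ, Units.val_mul, hφ.mul _ (pow_mem hu n).1 _ hu.1, ih]
  obtain ⟨g, hg, e3⟩ := h e he (by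
    rw [e1, ← FiniteField.pow_card (LinearMap.det _), ← map_pow, ← e2, hp, Units.val_one, hφ.one, map_one])
  rwa [show u = g from Units.ext (sub_eq_zero.1 (hφ.inj _ (sub_mem hu.1 (hG hg).1)
    (LinearMap.ext fun w => by simp [← he, ← e3])))]

variable {i : Kˣ}

theorem Rel2.unip_lin (R : Rel2 A P G) (h : Amb τ) (hi : i * i = -1) (hφ : Rep P φ)
    (hp : (Fintype.card K).Prime) (H : Hyp P D x) (hD : A.ad D = -D)
    (hB : Big K (L3.S3 K) (P1 P D x) (Gp (K := K) (Un K (P1 P D x)) G fun _ => Un_P1_d))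
    (hu : u ∈ Un K P) (hI : u ∈ A.I) (hc : u * D = D * u) (h1 : u ^ Fintype.card K = 1) :
    ∃ g ∈ G, g ^ (Fintype.card K - 1) = u⁻¹ :=
  R.unip h H hD hu hI hc h1 fun _ hv _ e => (hφ.down h R.pau H).mem_of_det (fun _ h => h.1) hv e
    fun e _ he => (R.down h hi H hD).sl h (hφ.down h R.pau H) hp hB e he

theorem Rel2.unip_uni (R : Rel2 A P G) (h : Amb τ) (hi : i * i = -1) (hφ : Rep P φ) {q : ℕ}
    (hF : Fintype.card K = q ^ 2) (h4 : q % 4 = 3) (h64 : 64 ≤ rk K P) {B : W →ₛₗ[frob hF] W →ₗ[K] K}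
    (hB : IsHerm B) {s : E →+ E} (hs1 : ∀ a b, s (a * b) = s b * s a)
    (hs2 : ∀ x ∈ P, x * x = 1 → s x = x) (hadj : ∀ a x y, B (φ a x) y = B x (φ (s a) y))
    (H : Hyp P D x) (hD : A.ad D = -D)
    (hBig : Big K (L3.G0 K q) (P1 P D x) (Gp (K := K) (Un K (P1 P D x)) G fun _ => Un_P1_d))
    (hu : u ∈ Un K P) (hI : u ∈ A.I) (hc : u * D = D * u) (h1 : u ^ Fintype.card K = 1)
    (hiso : ∀ x y, B (φ u x) (φ u y) = B x y) : ∃ g ∈ G, g ^ (Fintype.card K - 1) = u⁻¹ := by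
  have se : ∀ x y, B (φ (ee K D) x) y = B x (φ (ee K D) y) := fun x y => by
    rw [hadj, h.star_ee (hs2 1 (one_mem _) (one_mul 1)) (hs2 D H.hd H.dd)]
  refine R.unip h H hD hu hI hc h1 fun v hv e1 e => (hφ.down h R.pau H).mem_of_det (fun _ h => h.1)
    hv e fun e e2 he => Rep.su (R.down h hi H hD) h (hφ.down h R.pau H) hF h4 hi
      (by have := R.pau.rk_P1 H.hd H.hx; omega)
      (B := B.domRestrict₁₂ (LinearMap.range (φ (ee K D))) (LinearMap.range (φ (ee K D))))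
      ⟨hB.ne_id, hB.invol, fun x y => hB.symm x y, fun x hx => Subtype.ext (hB.nondeg _ fun y => ?_)⟩
      hs1 (fun y hy => hs2 y (P1_le hy)) (fun a ha x y => ?_) hBig e 
      ⟨fun x y => ?_, Units.ext ((LinearEquiv.coe_det e).trans he)⟩
  · rw [← hφ.ee_fix h H.hd H.dd x, se]
    exact hx ⟨_, y, rfl⟩
  · change B (resE φ D a x : W) y = B x (φ (ee K D) (φ (s a) y))
    rw [hφ.resE_val h H.hd H.dd (Al_mono P1_le ha) (Al_P1_d ha), ← se,
      hφ.ee_fix h H.hd H.dd, hadj]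
  · have k : ∀ x, (e x : W) = φ u x := fun x => by
      rw [e2, hφ.resE_val h H.hd H.dd (Al_mono P1_le hv.1) (Al_P1_d hv.1), ← hφ.ee_fix h H.hd H.dd x,
        hφ.mul_apply (Al_mono P1_le hv.1) (ee_mem H.hd), ← e1, hφ.mul_apply hu.1 (ee_mem H.hd)]
    change B (e x : W) (e y : W) = B x y
    rw [k, k, hiso]

end H60.Cl
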