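import Cfsg.Agent.H34.R5Spec

/-! Tower R5 (S3194), job G2: the centralisers of the good elements. -/

set_option autoImplicit false

namespace H60.R5G2
open Cfsg Subgroup H41.IT H34.R5

universe u

/-- a subgroup containing a Sylow subgroup for each prime is everything -/
theorem top_of_sylows {X : Type*} [Group X] [Finite X] (K : Subgroup X)
    (h : ∀ (r : ℕ) [Fact r.Prime], ∃ R : Sylow r X, (R : Subgroup X) ≤ K) : K = ⊤ := by
  by_contra hK
  have h1 : K.index ≠ 1 := fun m => hK (index_eq_one.1 m)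
  have : Fact (K.index.minFac).Prime := ⟨Nat.minFac_prime h1⟩
  obtain ⟨R, hR⟩ := h K.index.minFac
  exact R.not_dvd_index ((Nat.minFac_dvd _).trans (index_dvd_of_le hR))

theorem other_prime {n s : ℕ} (hn : n ≠ 0) (h : ∀ k : ℕ, n ≠ s ^ k) :
    ∃ q : ℕ, q.Prime ∧ q ≠ s ∧ q ∣ n := by
  by_contra hc
  push Not at hc
  refine h n.primeFactorsList.length (Nat.eq_prime_pow_of_unique_prime_dvd hn ?_)
  intro d hd hdn
  by_contra m
  exact hc d hd m hdn

section
variable {G : Type*} [Group G] [Finite G] {x y : G} {e s : ℕ}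

theorem cauchy {g : G} {q : ℕ} (hq : q.Prime) (h : q ∣ c g) :
    ∃ u : G, orderOf u = q ∧ Commute u g := by
  have := Fact.mk hq
  obtain ⟨u, hu⟩ := exists_prime_orderOf_dvd_card' (G := C g) q h
  exact ⟨u, by rw [← hu, Subgroup.orderOf_coe], mem_C.1 u.2⟩

omit [Finite G] in
theorem comm_conj (g a k : G) : Commute k (g * a * g⁻¹) ↔ Commute (g⁻¹ * k * g) a := by
  constructor
  · intro h
    have := h.eq
    show g⁻¹ * k * g * a = a * (g⁻¹ * k * g)
    calc g⁻¹ * k * g * a = g⁻¹ * (k * (g * a * g⁻¹)) * g := by group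
      _ = g⁻¹ * ((g * a * g⁻¹) * k) * g := by rw [this]
      _ = a * (g⁻¹ * k * g) := by group
  · intro h
    have := h.eq
    show k * (g * a * g⁻¹) = g * a * g⁻¹ * k
    calc k * (g * a * g⁻¹) = g * (g⁻¹ * k * g * a) * g⁻¹ := by group
      _ = g * (a * (g⁻¹ * k * g)) * g⁻¹ := by rw [this]
      _ = g * a * g⁻¹ * k := by group

theorem ab (h : BS x y e) (hce : ∀ u : G, Gd y s u → c u = e)
    (hab : ∀ (q : ℕ) (Q : Sylow q G), q.Prime → q ≠ s → q ∣ c y →
      ∀ a ∈ (Q : Subgroup G), ∀ b ∈ (Q : Subgroup G), Commute a b)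
    (u : G) (hu : Gd y s u) : ∀ a ∈ C u, ∀ b ∈ C u, Commute a b := by
  have u1 : u ≠ 1 := fun m => hu.1.one_lt.ne' (by simp [m])
  have := Fact.mk hu.1
  have hz : ∀ (r : ℕ) [Fact r.Prime], r ≠ orderOf u → ∀ R : Sylow r (C u),
      (R : Subgroup (C u)) ≤ center (C u) := by
    intro r hr hne R k hk
    obtain ⟨n, hn⟩ := (IsPGroup.iff_orderOf.1 R.isPGroup') ⟨k, hk⟩
    have hn' : orderOf (k : G) = r ^ n := by
      rw [Subgroup.orderOf_coe, ← hn]
      exact (Subgroup.orderOf_coe (⟨k, hk⟩ : (R : Subgroup (C u)))).symm.symm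
    have hc : (orderOf u).Coprime (orderOf (k : G)) := by
      rw [hn']
      exact Nat.Coprime.pow_right _ ((Nat.coprime_primes hu.1 hr.1).2 hne.symm)
    have := h.min u1 (hce u hu) (mem_C.1 k.2).symm hc
    rw [mem_center_iff]
    intro g
    exact Subtype.ext (mem_C.1 (this g.2)).eq
  obtain ⟨Q⟩ : Nonempty (Sylow (orderOf u) (C u)) := inferInstance
  have hQ : (Q : Subgroup (C u)) ≤ centralizer ((Q : Subgroup (C u)) : Set (C u)) := by
    obtain ⟨Q', hQ'⟩ := (Q.isPGroup'.map (C u).subtype).exists_le_sylow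
    intro a ha
    rw [mem_centralizer_iff]
    intro b hb
    exact Subtype.ext (hab _ Q' hu.1 hu.2.1 hu.2.2 b (hQ' (mem_map_of_mem _ hb)) a
      (hQ' (mem_map_of_mem _ ha))).eq
  have h1 : centralizer ((Q : Subgroup (C u)) : Set (C u)) = ⊤ := by
    refine top_of_sylows _ fun r hr => ?_
    by_cases m : r = orderOf u
    · subst m
      exact ⟨Q, hQ⟩
    · obtain ⟨R⟩ : Nonempty (Sylow r (C u)) := inferInstance
      exact ⟨R, (hz r m R).trans (center_le_centralizer _)⟩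
  have h2 : center (C u) = ⊤ := by
    refine top_of_sylows _ fun r hr => ?_
    by_cases m : r = orderOf u
    · subst m
      refine ⟨Q, fun k hk => ?_⟩
      rw [mem_center_iff]
      intro g
      have : g ∈ centralizer ((Q : Subgroup (C u)) : Set (C u)) := h1 ▸ mem_top g
      exact ((mem_centralizer_iff.1 this) k hk).symm
    · obtain ⟨R⟩ : Nonempty (Sylow r (C u)) := inferInstance
      exact ⟨R, hz r m R⟩
  intro a ha b hb
  have : (⟨b, hb⟩ : C u) ∈ center (C u) := h2 ▸ mem_top _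
  exact congrArg Subtype.val (mem_center_iff.1 this ⟨a, ha⟩)

theorem good (h : BS x y e) (hs : s.Prime) (t : T1 y e s) {g : G}
    (hg : c g = c y ∨ c g = e) : ∃ u : G, Gd y s u ∧ Commute u g := by
  obtain ⟨q, hq, hqs, hqb⟩ := other_prime (n := c y) (s := s) Nat.card_pos.ne'
    (fun k => h.np s k hs)
  obtain ⟨j, -, hj⟩ := t.pw
  have hqe : q ∣ e := by
    rw [hj] at hqb
    exact (Nat.Coprime.pow_right j ((Nat.coprime_primes hq hs).2 hqs)).dvd_of_dvd_mul_right hqb
  obtain ⟨u, hu, hc⟩ := cauchy (g := g) hq (by rcases hg with m | m <;> rw [m] <;> assumption)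
  exact ⟨u, ⟨hu ▸ hq, hu ▸ hqs, hu ▸ hqb⟩, hc⟩

theorem sd (h : BS x y e) (hs : s.Prime) (t : T1 y e s) (hce : ∀ u : G, Gd y s u → c u = e) :
    s ∣ e := by
  have := Fact.mk hs
  obtain ⟨j, j0, hj⟩ := t.pw
  have hb : s * e ∣ c y := by
    rw [hj, mul_comm]
    exact Nat.mul_dvd_mul_left e (dvd_pow_self s j0.ne')
  have h1 : s ∣ c y := (Dvd.intro _ rfl).trans hb
  obtain ⟨P⟩ : Nonempty (Sylow s G) := inferInstance
  have h3 : 0 < (c y).factorization s := hs.factorization_pos_of_dvd Nat.card_pos.ne' h1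
  have : Nontrivial (P : Subgroup G) := by
    rw [← Finite.one_lt_card_iff_nontrivial, h.sylow_card h1 P]
    exact Nat.one_lt_pow h3.ne' hs.one_lt
  have := P.isPGroup'.center_nontrivial
  obtain ⟨z, z1⟩ := exists_ne (1 : center (P : Subgroup G))
  have z1' : ((z : (P : Subgroup G)) : G) ≠ 1 := fun m => z1 (Subtype.ext (Subtype.ext m))
  have hz : (P : Subgroup G) ≤ C ((z : (P : Subgroup G)) : G) := fun k hk =>
    mem_C.2 (congrArg Subtype.val (mem_center_iff.1 z.2 ⟨k, hk⟩))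
  obtain ⟨u, hu, hc⟩ := good h hs t (Or.inl (h.full hb P z1' hz))
  obtain ⟨n, hn⟩ := (IsPGroup.iff_orderOf.1 P.isPGroup') (z : (P : Subgroup G))
  have hn' : orderOf ((z : (P : Subgroup G)) : G) = s ^ n := by
    rw [Subgroup.orderOf_coe, hn]
  have n0 : n ≠ 0 := fun m => z1' (orderOf_eq_one_iff.1 (by rw [hn', m, pow_zero]))
  have := ord_dvd_c (mem_C.2 hc.symm)
  rw [hce u hu, hn'] at this
  exact (dvd_pow_self s n0).trans this

theorem cj (h : BS x y e) (hs : s.Prime) (t : T1 y e s) (hce : ∀ u : G, Gd y s u → c u = e)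
    (ha : ∀ u : G, Gd y s u → ∀ a ∈ C u, ∀ b ∈ C u, Commute a b) (u v : G) (hu : Gd y s u)
    (hv : Gd y s v) : ∃ g : G, C (g * u * g⁻¹) = C v := by
  have := Fact.mk hv.1
  obtain ⟨j, -, hj⟩ := t.pw
  obtain ⟨R⟩ : Nonempty (Sylow (orderOf v) (C u)) := inferInstance
  obtain ⟨R', hR'⟩ := (R.isPGroup'.map (C u).subtype).exists_le_sylow
  have e0 : e ≠ 0 := by
    rw [← hce u hu]
    exact Nat.card_pos.ne'
  have hf : (c y).factorization (orderOf v) = e.factorization (orderOf v) := by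
    have h0 : ¬ orderOf v ∣ s ^ j := fun m =>
      hv.2.1 ((Nat.prime_dvd_prime_iff_eq hv.1 hs).1 (hv.1.dvd_of_dvd_pow m))
    rw [hj, Nat.factorization_mul e0 (pow_ne_zero _ hs.ne_zero), Finsupp.add_apply,
      Nat.factorization_eq_zero_of_not_dvd h0, add_zero]
  have hcard : Nat.card (R' : Subgroup G) = Nat.card ((R : Subgroup (C u)).map (C u).subtype) := by
    rw [h.sylow_card hv.2.2 R', card_map_of_injective (C u).subtype_injective,
      R.card_eq_multiplicity, hf, ← hce u hu]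
  have hE := eq_of_le_of_card_ge hR' hcard.le
  have hL : (R' : Subgroup G) ≤ C u := hE ▸ map_subtype_le _
  have hp : IsPGroup (orderOf v) (zpowers v) :=
    IsPGroup.of_card (n := 1) (by rw [Nat.card_zpowers, pow_one])
  obtain ⟨R'', hR''⟩ := hp.exists_le_sylow
  obtain ⟨g, hg⟩ := MulAction.exists_smul_eq G R'' R'
  have hv' : g * v * g⁻¹ ∈ C u := by
    apply hL
    rw [← hg, Sylow.coe_subgroup_smul]
    exact smul_mem_pointwise_smul _ (MulAut.conj g) _ (hR'' (mem_zpowers v))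
  have ho : orderOf (g * v * g⁻¹) = orderOf v := by
    rw [← MulAut.conj_apply]
    exact (MulAut.conj g).orderOf_eq v
  have hG : Gd y s (g * v * g⁻¹) := by
    unfold Gd
    rw [ho]
    exact hv
  have hC : C u = C (g * v * g⁻¹) :=
    C_eq (fun k hk => mem_C.2 (ha u hu k hk _ hv')) ((hce _ hG).trans (hce u hu).symm)
  refine ⟨g⁻¹, ?_⟩
  ext k
  rw [mem_C, comm_conj, ← mem_C, hC, mem_C, comm_conj, mem_C]
  simp [mul_assoc]

theorem ti (h : BS x y e) (hce : ∀ u : G, Gd y s u → c u = e)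
    (ha : ∀ u : G, Gd y s u → ∀ a ∈ C u, ∀ b ∈ C u, Commute a b) (u : G) (hu : Gd y s u)
    (v : G) (hv : v ∈ C u) (hn : ¬ PE s v) : C v = C u := by
  obtain ⟨r, hr, hrs, hrv⟩ := other_prime (n := orderOf v) (s := s) (orderOf_pos v).ne'
    (fun k m => hn ⟨k, m⟩)
  have ho : orderOf (v ^ (orderOf v / r)) = r := orderOf_pow_orderOf_div (orderOf_pos v).ne' hrv
  have hd : orderOf v ∣ c y := (hce u hu ▸ ord_dvd_c hv).trans h.dvd
  have hG : Gd y s (v ^ (orderOf v / r)) := by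
    unfold Gd
    rw [ho]
    exact ⟨hr, hrs, hrv.trans hd⟩
  have hC : C u = C (v ^ (orderOf v / r)) :=
    C_eq (fun k hk => mem_C.2 (ha u hu k hk _ (pow_mem hv _))) ((hce _ hG).trans (hce u hu).symm)
  refine le_antisymm (fun k hk => ?_) (fun k hk => mem_C.2 (ha u hu k hk v hv))
  rw [hC]
  exact mem_C.2 ((mem_C.1 hk).pow_right _)

end

theorem jobG2 : JobG2.{u} := by
  intro G _ _ x y e s hs h t hce hab
  have ha := ab h hce hab
  exact ⟨hce, ha, sd h hs t hce, cj h hs t hce ha, ti h hce ha,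
    fun g g1 hg => good h hs t (h.of_dvd g1 hg)⟩

end H60.R5G2
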