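/- Tower RR (row S3530), slots K2R and Fin. -/
import Cfsg.Agent.H70.RRAsm
import Cfsg.Agent.H66.O3R27

set_option autoImplicit false

namespace H60.RR

open Cfsg Subgroup H24 H70.Sq H10.W H70.RR H14 H98

universe u

theorem prime_eq {G : Type*} [Group G] [Finite G] {W : Subgroup G} {r p : ℕ} (hr : r.Prime) (hp : p.Prime)
    (hW : IsElementaryAbelian r W) (h : p ∣ Nat.card W) : p = r := by
  have := Fact.mk hr
  obtain ⟨n, e⟩ := (H2.isPGroup_of_isElementaryAbelian hW).exists_card_eq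
  exact (Nat.prime_dvd_prime_iff_eq hp hr).1 (hp.dvd_of_dvd_pow (e ▸ h))

theorem fr7 {T : Type*} [Group T] (h : NSd T 7) : Fr1 T 7 2 := by
  obtain ⟨S, -, x, h1, h2, h3⟩ := h
  exact ⟨S, x, S.isPGroup', h1, h2, h3⟩

variable {m : ℕ} {G H : Type u} [Group G] [Finite G] [Group H] {ψ : G →* H} {T T' : Subgroup H}

omit [Finite G] in
theorem zp_cent (h : Two T T') {x : G} (hx : ψ x ∈ T') : (zpowers x).map ψ ≤ centralizer (T : Set H) := by
  rw [MonoidHom.map_zpowers, zpowers_le]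
  exact fun t ht => commutator_eq_bot_iff_comm.1 h.comm _ ht _ hx

omit [Finite G] in
theorem top_cov (A : Amb m ψ) (T : Subgroup H) : T ≤ (⊤ : Subgroup G).map ψ :=
  le_top.trans (map_top_of_surjective ψ A.sj).ge

theorem jobK2R (kB : KitB.{u}) (hAF : JobAF.{u}) (hT : JobT.{u}) : JobK2R.{u} := by
  intro m G H _ _ _ _ ψ A T T' h g h3 ht
  induction hn : Nat.card G using Nat.strong_induction_on generalizing G with | _ n ih => ?_
  intro r0 hr0 hd
  by_contra h23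
  have h0 : ψ.ker ≠ ⊥ := fun e => hr0.one_lt.ne' (by simpa [e] using hd)
  obtain ⟨r, W, hr, hW, hW0, hE, hN⟩ := kB.min (K := ⊤) A.sol h0 le_normalizer_of_normal
  have : W.Normal := normalizer_eq_top_iff.1 (top_le_iff.1 (le_sup_left.trans hN))
  have hf := QuotientGroup.mk'_surjective W
  have e : (QuotientGroup.lift W ψ hW).ker = ψ.ker.map (QuotientGroup.mk' W) := QuotientGroup.ker_lift _ _ _
  have := A.sol
  have key := ih _ (by
      rw [← hn, card_eq_card_quotient_mul_card_subgroup W]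
      exact lt_mul_of_one_lt_right Nat.card_pos ((one_lt_card_iff_ne_bot W).2 hW0)) (G ⧸ W)
    (QuotientGroup.lift W ψ hW) ⟨A.num, A.num2, A.sub.of_surjective hf, fun y => by
      obtain ⟨x, rfl⟩ := A.sj y
      exact ⟨x, rfl⟩, e ▸ H2.isSolvable_map ψ.ker _⟩ rfl
  have hp : ∀ p : ℕ, p.Prime → p ∣ Nat.card ψ.ker → p = r ∨ p = 2 ∨ p = 3 := fun p hp hd => by
    rw [← card_mul_index (W.subgroupOf ψ.ker), Nat.card_congr (subgroupOfEquivOfLe hW).toEquiv] at hd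
    refine (hp.dvd_mul.1 hd).imp (prime_eq hr hp hE) fun k => key p hp ?_
    rw [e, ← relIndex_ker, QuotientGroup.ker_mk']
    exact k
  obtain rfl := (hp r0 hr0 hd).resolve_right h23
  obtain ⟨ρ, hρ⟩ := (A.num.prime r0 hr0 (A.sub.om (ord_top (ord_of_prime hr0 hd)))).resolve_left
    fun e => h23 (.inl e)
  have ρ0 : ρ ≠ 0 := fun e => h23 (.inr ((A.num.zero _).1 (e ▸ hρ)))
  have r7 := A.num.big ρ r0 ρ0 hρ
  obtain ⟨ε, a, q, ε0, ερ, ha, hq, q3, hF⟩ : ∃ ε a q, ε ≠ 0 ∧ ε ≠ ρ ∧ Cl m ε a ∧ q.Prime ∧ q ≤ 3 ∧ Fr1 T' a q := by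
    by_cases k : ρ = 1
    · obtain ⟨i, h1, h2, h4⟩ := A.num.seven
      exact ⟨i, 7, 2, h1, k ▸ h2, h4, Nat.prime_two, by omega, fr7 g.ns7⟩
    · obtain ⟨a, ha⟩ := A.num.ex 1
      exact ⟨1, a, 3, by decide, Ne.symm k, ha, Nat.prime_three, le_rfl, g.fr1 a ha⟩
  have a7 := A.num.big ε a ε0 ha
  have ar : a ≠ r0 := fun e => ερ (A.num.uniq _ _ _ ha (e ▸ hρ))
  have nd : ¬ a ∣ Nat.card ↥(⊤ ⊓ ψ.ker) := fun k => by
    rw [top_inf_eq] at k
    have := hp a ha.1 k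
    omega
  obtain ⟨x, -, w, hw, ox, hx, ow, c⟩ := hAF G H ψ T' ⊤ W a q r0 h.r.simple (top_cov A T') ha.1 hq hr0 (by omega) ar
    (by omega) (fun _ => A.num.ab2 A.sub) hF nd hE hW0 le_normalizer_of_normal
  have cv := kB.cov (A := zpowers x) A.sol (top_cov A T) le_top
    (by rw [Nat.card_zpowers, ox]; exact ha.1.coprime_iff_not_dvd.2 nd) (zp_cent h hx)
  rcases hT G H ψ T (centralizer {x}) r0 h.l.simple h.l.nab (cv.trans (map_mono (inf_le_right.trans
    (centralizer_le (by simp))))) (A.num.ab2 A.sub) h3 hr0 (by omega)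
    (ord_dvd (ow ▸ ord_mem ⟨mem_centralizer_singleton_iff.2 c.symm, hW hw⟩)) with k | k
  · exact A.num.tri A.sub ε0 ερ ρ0.symm ha A.num.c3 hρ ox k
  · obtain ⟨i, b, h1, h2, h4, h5⟩ := ht.avoid ε
    exact A.num.tri A.sub ε0 h2.symm h1.symm ha A.num.c3 h4 ox
      (k b h4.1 (by have := A.num.big i b h1 h4; omega) (ord_dvd h5))

theorem fin3 [Finite H] (kB : KitB.{u}) (hAF : JobAF.{u}) (A : Amb m ψ) (h : Two T T') (g : RG m T) (g' : RG m T')
    (hV : IsElementaryAbelian 3 ψ.ker) (h0 : ψ.ker ≠ ⊥) {y : G} (hy : ψ y ∈ T) (oy : orderOf (ψ y) = 9) :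
    y ^ 3 ∉ centralizer (ψ.ker : Set G) := fun hc => by
  have cv := kB.cent h.l.simple (top_cov A T) le_normalizer_of_normal (mem_top _) (map_pow ψ y 3 ▸ pow_mem hy 3)
    (by rw [map_pow, Ne, ← orderOf_dvd_iff_pow_eq_one, oy]; norm_num) hc
  have nd : ∀ K : Subgroup G, ¬ 7 ∣ Nat.card ↥(K ⊓ ψ.ker) := fun K k =>
    absurd (prime_eq Nat.prime_three (by norm_num) hV (k.trans (card_dvd_of_le inf_le_right))) (by norm_num)
  obtain ⟨x, -, w, hw, ox, hx, ow, c⟩ := hAF G H ψ T' ⊤ ψ.ker 7 2 3 h.r.simple (top_cov A T') (by norm_num)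
    Nat.prime_two Nat.prime_three (by omega) (by omega) (by omega) (fun _ => A.num.ab2 A.sub) (fr7 g'.ns7) (nd _) hV h0
    le_normalizer_of_normal
  have cv2 := kB.cov (K := centralizer {w}) (A := zpowers x) A.sol
    (cv.trans (map_mono (inf_le_right.trans (centralizer_le (by simpa using hw)))))
    (zpowers_le.2 (mem_centralizer_singleton_iff.2 c))
    (by rw [Nat.card_zpowers, ox]; exact (Nat.Prime.coprime_iff_not_dvd (by norm_num)).2 (nd _)) (zp_cent h hx)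
  obtain ⟨i, h1, -, h2⟩ := A.num.seven
  obtain ⟨j, b, h3, h4, h5, h6⟩ := (g.two A.num).avoid i
  obtain ⟨z, oz⟩ := ord_of_cover cv2 h6
  rw [← orderOf_coe] at oz
  have := ord_of_commute3 c.symm (mem_centralizer_singleton_iff.1 z.2.1 : Commute (z : G) w).symm
    (z.2.2 x (mem_zpowers x)) (by rw [ow, ox]; norm_num) (by rw [ow, oz]; exact A.num.cop h3.symm A.num.c3 h5)
    (by rw [ox, oz]; exact A.num.cop h4.symm h2 h5)
  rw [ow, ox, oz] at this
  exact A.num.three 0 i j 3 7 b h1.symm h3.symm h4.symm A.num.c3 h2 h5 (A.sub.om this)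

theorem fin2 (kB : KitB.{u}) (A : Amb m ψ) (h : NS T) (g : RG m T) (hV : IsElementaryAbelian 2 ψ.ker) :
    T ≤ (⊤ ⊓ centralizer (ψ.ker : Set G)).map ψ := by
  have := Finite.of_surjective ψ A.sj
  obtain ⟨⟨t, ht⟩, et⟩ := (g.full 0).of_dvd (show 2 ∣ 6 by norm_num)
  obtain ⟨y, rfl⟩ := A.sj t
  rw [← orderOf_coe] at et
  have et : orderOf (ψ y) = 2 := et
  have sq : ∀ w : G, ψ w = ψ y → w * w = 1 := fun w hw =>
    (ab2_of_no_four fun e => A.num.no4 (A.sub.om e)).1 w 2 (by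
      rw [show 2 ^ 2 = 2 * 2 from rfl, pow_mul]
      refine hV.2 _ ?_
      rw [MonoidHom.mem_ker, map_pow, hw, ← et, pow_orderOf_eq_one])
  refine kB.cent h.simple (top_cov A T) le_normalizer_of_normal (mem_top y) ht (fun e => by simp [e] at et)
    fun w hw => ?_
  have e1 := sq (w * y) (by rw [map_mul, hw, one_mul])
  have e2 : w * w = 1 := by rw [← pow_two]; exact hV.2 w hw
  rw [← inv_eq_of_mul_eq_one_right e1, mul_inv_rev, inv_eq_of_mul_eq_one_right e2,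
    inv_eq_of_mul_eq_one_right (sq y rfl)]

theorem jobFin (kB : KitB.{u}) (hAF : JobAF.{u}) : JobFin.{u} := by
  intro m G H _ _ _ _ ψ A T T' r h ht g g' hr hV hmin
  by_contra h0
  rcases hr with rfl | rfl
  · obtain ⟨c, hc⟩ := A.num.ex 3
    obtain ⟨d, hd⟩ := A.num.ex 4
    obtain ⟨y, oy⟩ := ord_of_cover (sup_le (fin2 kB A h.l g hV) (fin2 kB A h.r g' hV))
      (h.ord (g.ord hc) (g'.ord hd) (A.num.cop (by decide) hc hd))
    obtain ⟨v, hv, ov⟩ := exists_ord_of_elem Nat.prime_two hV h0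
    rw [← orderOf_coe] at oy
    have := ord_of_commute (y.2.2 v hv) (by
      rw [ov, oy]
      exact ((Nat.coprime_primes Nat.prime_two hc.1).2 (A.num.ne_two hc).symm).mul_right
        ((Nat.coprime_primes Nat.prime_two hd.1).2 (A.num.ne_two hd).symm))
    rw [ov, oy, ← mul_assoc] at this
    exact A.num.cd c d hc hd (A.sub.om this)
  · have ex : Exp G 3 2 := exp_of_not_ord Nat.prime_three fun e => A.num.no27 (A.sub.om e)
    have lift : ∀ {L : Subgroup H}, RG m L → ∃ y, ψ y ∈ L ∧ orderOf (ψ y) = 9 ∧ y ^ 9 = 1 := fun k => by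
      obtain ⟨⟨t, ht⟩, et⟩ := k.full 1
      obtain ⟨y, rfl⟩ := A.sj t
      rw [← orderOf_coe] at et
      have et : orderOf (ψ y) = 9 := et
      refine ⟨y, ht, et, ex y ⟨3, ?_⟩⟩
      rw [show 3 ^ 3 = 9 * 3 from rfl, pow_mul]
      refine hV.2 _ ?_
      rw [MonoidHom.mem_ker, map_pow, ← et, pow_orderOf_eq_one]
    obtain ⟨y, y1, y2, y3⟩ := lift g
    obtain ⟨x, x1, x2, x3⟩ := lift g'
    refine (H66.O3.jobR27 G ψ.ker (T.comap ψ) (T'.comap ψ) inferInstance hV hmin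
      (fun e => A.num.no4 (A.sub.om e)) ex ?_ ?_ y y1 x x1 y3 x3).elim (fin3 kB hAF A h g g' hV h0 y1 y2)
      (fin3 kB hAF A h.symm g' g hV h0 x1 x2)
    · rw [comap_sup_eq ψ _ _ A.sj, ht, comap_top]
    · rw [← Subgroup.map_eq_bot_iff, map_commutator, map_comap_eq_self_of_surjective A.sj,
        map_comap_eq_self_of_surjective A.sj, h.comm]

end H60.RR
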