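import Cfsg.Agent.H67.SPHL
import Cfsg.Agent.H64.SGKit
import Cfsg.Agent.H21.CoverId

/-! STD-SP (row S3129), slots HB, HL: homomorphisms and covers of `Y / Z(Y)`. -/

set_option autoImplicit false

namespace H60.SPH

open H64.SG (Cov Cs Ns odd_orderOf_of_mem)
open Subgroup H67.SP
open H64.SF (Bl0)
open H59.SO (NS Ind)

universe u

/-- Homomorphisms from a perfect group that agree modulo the centre are equal. -/
theorem hom_eq {Z G : Type*} [Group Z] [Group G] (L : Subgroup G) (hp : commutator Z = ⊤)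
    (f g : Z →* G) (hf : ∀ a, f a ∈ L) (hg : ∀ a, g a ∈ L) (k : ∀ a, (f a)⁻¹ * g a ∈ Cs L)
    (a : Z) : f a = g a := by
  let d : Z →* G := MonoidHom.mk' (fun a => (f a)⁻¹ * g a) fun a b => by
    rw [← mul_assoc _ (f b)⁻¹, ← k a _ (inv_mem (hf b))]; simp [mul_assoc]
  refine inv_mul_eq_one.1 ((hp.ge.trans (commutator_le.2 fun a _ b _ => ?_) : ⊤ ≤ d.ker) (mem_top a))
  rw [MonoidHom.mem_ker, map_commutatorElement, commutatorElement_eq_one_iff_mul_comm]
  exact k b _ (mul_mem (inv_mem (hf a)) (hg a))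

theorem jobHB : JobHB.{u} := by
  intro X Y _ _ _ G _ _ ι τ e t Φ hp ho h
  have hk : Φ.rangeRestrict.ker ≤ (QuotientGroup.mk' (center Y)).ker := by
    rw [MonoidHom.ker_rangeRestrict, QuotientGroup.ker_mk']; exact h.ker
  let π : Φ.range →* Y ⧸ center Y :=
    Φ.rangeRestrict.liftOfSurjective Φ.rangeRestrict_surjective ⟨_, hk⟩
  have hπ : ∀ y, π (Φ.rangeRestrict y) = (y : Y ⧸ center Y) := fun y =>
    Φ.rangeRestrict.liftOfRightInverse_comp_apply _ _ ⟨_, hk⟩ y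
  have hs : Function.Surjective π := fun q => by
    obtain ⟨y, rfl⟩ := QuotientGroup.mk_surjective q
    exact ⟨_, hπ y⟩
  have hz : π.ker = center Φ.range := by
    ext l
    obtain ⟨y, rfl⟩ := Φ.rangeRestrict_surjective l
    rw [MonoidHom.mem_ker, hπ, QuotientGroup.eq_one_iff, mem_center_iff, mem_center_iff]
    refine ⟨fun h1 m => ?_, fun h1 a => ?_⟩
    · obtain ⟨a, rfl⟩ := Φ.rangeRestrict_surjective m
      rw [← map_mul, ← map_mul, h1]
    · have := hom_eq ⊤ hp (MonoidHom.id Y) (MulAut.conj y).toMonoidHom (fun _ => mem_top _)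
        (fun _ => mem_top _) (fun b c _ => mem_center_iff.1 (h.ker ?_) c) a
      · exact eq_mul_inv_iff_mul_eq.1 this
      have h2 : Φ b * Φ y = Φ y * Φ b := congrArg Subtype.val (h1 (Φ.rangeRestrict b))
      change Φ (b⁻¹ * (y * b * y⁻¹)) = 1
      rw [map_mul, map_mul, map_mul, ← h2, map_inv, map_inv]
      group
  have hod : ∀ l, π l = 1 → Odd (orderOf l) := fun l hl => by
    obtain ⟨y, rfl⟩ := Φ.rangeRestrict_surjective l
    rw [hπ, QuotientGroup.eq_one_iff] at hl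
    exact (odd_orderOf_of_mem ho hl).of_dvd_nat (orderOf_map_dvd _ y)
  have hpf : Φ.range ≤ ⁅Φ.range, Φ.range⁆ := by
    rw [MonoidHom.range_eq_map, ← map_commutator, ← commutator_def, hp]
  have hc : ∀ y, (Cov.ofHom π hs hz hod hpf).pi (Φ y) = (y : Y ⧸ center Y) := fun y =>
    (Cov.ofHom_pi π hs hz hod hpf (Φ.rangeRestrict y)).trans (hπ y)
  refine ⟨Cov.ofHom π hs hz hod hpf, ⟨?_, fun x => ?_, h.act.mem_Ns, ?_, hpf⟩, hc⟩
  · rintro _ ⟨x, rfl⟩
    exact ⟨ι x, h.res x⟩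
  · rw [← h.res, hc]; rfl
  · ext q
    obtain ⟨y, rfl⟩ := QuotientGroup.mk_surjective q
    rw [qa_mk, ← hc, ← Cov.ac_pi _ _ h.act.mem_Ns _ ⟨y, rfl⟩, h.act y, hc]

theorem jobHL : JobHL.{u} := by
  intro X Y _ _ _ G _ _ ι τ e t L c hX hY hm _ _ h
  obtain ⟨φ, hφ⟩ := H21.exists_lift_of_perfect hY hm (QuotientGroup.mk' (center Y))
    c.piH_surjective fun l hl => mem_center_iff.2 fun m => Subtype.ext (c.ker_cen l l.2 hl m m.2)
  have hc : ∀ y, c.pi (φ y) = (y : Y ⧸ center Y) := hφ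
  have k : ∀ a ∈ L, ∀ b ∈ L, c.pi a = c.pi b → a⁻¹ * b ∈ Cs L := fun a ha b hb h1 =>
    c.ker_cen _ (mul_mem (inv_mem ha) hb) (by
      rw [c.pi_mul _ (inv_mem ha) _ hb, c.pi_inv ha, h1, inv_mul_cancel])
  have hn : ∀ y, t * φ y * t⁻¹ ∈ L := fun y => H98.conj_mem_of_mem_normalizer h.tn (φ y).2
  refine ⟨L.subtype.comp φ, fun y hy => (QuotientGroup.eq_one_iff y).1 ?_,
    hom_eq L hX ((L.subtype.comp φ).comp ι) e (fun a => (φ _).2) (fun a => h.le ⟨a, rfl⟩)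
      fun a => k _ (φ _).2 _ (h.le ⟨a, rfl⟩) ((hc _).trans (h.pi a).symm),
    hom_eq L hY ((MulAut.conj t).toMonoidHom.comp (L.subtype.comp φ))
      ((L.subtype.comp φ).comp τ.toMonoidHom) hn (fun a => (φ _).2)
      fun a => k _ (hn a) _ (φ _).2 ?_⟩
  · rw [← hc, show (φ y : G) = 1 from hy, c.pi_one]
  · change c.pi (t * φ a * t⁻¹) = c.pi (φ (τ a))
    rw [c.ac_pi _ h.tn _ (φ a).2, h.act, hc, hc, qa_mk]

end H60.SPH
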