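import Cfsg.Agent.H86.SPIDef

/-! STD-SP (row S3129), chapter I, slot A5: the triangle relations. -/

set_option autoImplicit false
set_option linter.unusedSectionVars false

namespace H60.SPI

open H67.UA hiding Par
open H67.SP
open H86.SPI
open H56 H58

universe u

section X

variable {n : ℕ} {F : Type} [Field F] [StarRing F] [TrivialStar F] [CharP F 2] [Finite F] [Par n F]

/-- the elements of `M₂` -/
noncomputable def mm (x x' : Vn n F) (a b c : F) : XU n F := TT (a • x + b • x') * qq (c • x') x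

variable {x x' : Vn n F}

theorem hf_span (h : hf x x' = 0) (a b a' b' : F) :
    hf (a • x + b • x') (a' • x + b' • x') = 0 := by
  simp only [hf_add_left, hf_add_right, hf_smul_left, hf_smul_right, hf_self, h, hf_symm h,
    mul_zero, add_zero]

theorem hf_sl (h : hf x x' = 0) (a b : F) : hf (a • x + b • x') x = 0 := by
  simpa using hf_span h a b 1 0

theorem hf_sr (h : hf x x' = 0) (a b : F) : hf (a • x + b • x') x' = 0 := by
  simpa using hf_span h a b 0 1

theorem ac_mm (h : hf x x' = 0) (a b c : F) (v : Vn n F) : ac (mm x x' a b c) v =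
    v + ((a ^ 2 * hf v x + (a * b + c) * hf v x') • x +
      ((a * b + c) * hf v x + b ^ 2 * hf v x') • x') := by
  rw [mm, ac_mul, ac_Tc (hf_self _) (star_trivial _),
    ac_qq (pp (by rw [hf_smul_right, h, mul_zero]))]
  simp only [hf_add_left, hf_add_right, hf_smul_left, hf_smul_right, hf_self, h, hf_symm h,
    mul_zero, add_zero, star_trivial]
  module

theorem mm_mul (h : hf x x' = 0) (a b c a' b' c' : F) : mm x x' a b c * mm x x' a' b' c' =
    mm x x' (a + a') (b + b') (c + c' + a * b' + a' * b) := by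
  refine ac_ext fun v => ?_
  rw [ac_mul, ac_mm h, ac_mm h, ac_mm h, hf_add_left v, hf_add_left v, hf_sl h, hf_sr h]
  simp only [CharTwo.add_sq, add_zero]
  have e : (a + a') * (b + b') + (c + c' + a * b' + a' * b) = a * b + c + (a' * b' + c') := by
    linear_combination (a * b' + a' * b) * two0 F
  rw [e]
  module

theorem qq_span (h : hf x x' = 0) (a b a' b' : F) :
    qq (a • x + b • x') (a' • x + b' • x') = mm x x' 0 0 (a * b' + a' * b) := by
  refine ac_ext fun v => ?_
  rw [ac_mm h, ac_qq (pp (hf_span h _ _ _ _))]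
  simp only [hf_add_right, hf_smul_right, star_trivial]
  have e1 : (a * hf v x + b * hf v x') * a' + (a' * hf v x + b' * hf v x') * a =
      (a * b' + a' * b) * hf v x' := by linear_combination (a * a' * hf v x) * two0 F
  have e2 : (a * hf v x + b * hf v x') * b' + (a' * hf v x + b' * hf v x') * b =
      (a * b' + a' * b) * hf v x := by linear_combination (b * b' * hf v x') * two0 F
  linear_combination (norm := module) e1 • x + e2 • x'

theorem mm_zero (x x' : Vn n F) (c : F) : mm x x' 0 0 c = qq (c • x') x := by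
  simp [mm]

theorem mm_one (x x' : Vn n F) : mm x x' 0 0 0 = 1 := by simp [mm]

theorem mm_TT (x x' : Vn n F) (a b : F) : mm x x' a b 0 = TT (a • x + b • x') := by
  simp [mm]

theorem mm_swap (x x' : Vn n F) (a b c : F) : mm x' x a b c = mm x x' b a c := by
  rw [mm, mm, add_comm (a • x'), qq_smul, star_trivial, qq_comm]

theorem mm_shear (x x' : Vn n F) (a b c : F) : mm x (x + x') a b c = mm x x' (a + b) b c := by
  rw [mm, mm, smul_add c, add_comm (c • x), qq, EE_shift, tr_eq_zero.2 (star_trivial c), add_zero,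
    smul_add, add_smul, add_assoc]

theorem mm_conj (h : hf x x' = 0) (g : XU n F) (a b c : F) :
    g * mm x x' a b c * g⁻¹ = mm (ac g x) (ac g x') a b c := by
  have h1 := EE_conj (ok (hf_zero_left (a • x + b • x')) (1 : F)) g
  have h2 := EE_conj (ok (u := x) (x := c • x') (by rw [hf_smul_left, hf_symm h, mul_zero]) 0) g
  simp only [ac_add, ac_smul, ac_zero] at h1 h2
  rw [mm, mm, TT, TT, Tc, Tc, qq, qq, ← h1, ← h2]
  group

theorem ac_mm_span (h : hf x x' = 0) (a b c l m : F) :
    ac (mm x x' a b c) (l • x + m • x') = l • x + m • x' := by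
  rw [ac_mm h, hf_sl h, hf_sr h]; simp

theorem q0_span (h : Ts x x') (a b : F) : q0 (a • x + b • x') = 0 := by
  rw [q0_add, q0_smul, q0_smul, h.l, h.r, hf_smul_left, hf_smul_right, h.p]; simp

theorem ts_span (h : Ts x x') {a b a' b' : F} (hd : a * b' + a' * b ≠ 0) :
    Ts (a • x + b • x') (a' • x + b' • x') := by
  refine ⟨q0_span h _ _, q0_span h _ _, hf_span h.p _ _ _ _, fun l m e => ?_⟩
  obtain ⟨e1, e2⟩ := h.li (l * a + m * a') (l * b + m * b') (by rw [← e]; module)
  exact ⟨(mul_eq_zero.1 (by linear_combination b' * e1 + a' * e2 - m * a' * b' * two0 F :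
      l * (a * b' + a' * b) = 0)).resolve_right hd,
    (mul_eq_zero.1 (by linear_combination b * e1 + a * e2 - l * a * b * two0 F :
      m * (a * b' + a' * b) = 0)).resolve_right hd⟩

theorem rt_one : rt (1 : F) = 1 := sq_inj (by rw [rt_sq]; simp)

theorem th_mm (hT : MT n F) (hW : MW n F) (h : Ts x x') (a b c l m : F) :
    th (l • x + m • x') (mm x x' a b c) = mm x x' a b (c + a * m + l * b) := by
  have hz := q0_span h l m
  have h0 : qq (c • x') x ∈ X0 n F := by
    have := hW.ee x (c • x') h.l (by rw [hf_smul_left, hf_symm h.p, mul_zero])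
    rwa [q0_smul, h.r, mul_zero] at this
  have f1 : ac (TT (a • x + b • x')) (l • x + m • x') = l • x + m • x' := by
    rw [← mm_TT, ac_mm_span h.p]
  have f2 : ac (qq (c • x') x) (l • x + m • x') = l • x + m • x' := by
    rw [← mm_zero, ac_mm_span h.p]
  rw [mm, hT.mul _ _ _ hz f1 f2, hT.x0 _ _ h0 hz f2, hT.tt _ _ hz (hf_span h.p _ _ _ _),
    q0_span h, add_zero, rt_one, one_smul, ← mm_TT, ← mm_zero, ← qq, qq_span h.p, mm_mul h.p,
    mm_mul h.p]
  congr 1 <;> ring

end X

section Amb

variable {n : ℕ} {F : Type} [Field F] [StarRing F] [TrivialStar F] [CharP F 2] [Finite F] [Par n F]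
  {G : Type u} [Group G] {e : XU n F →* G} {t : G} {y : Vn n F → G} {x x' : Vn n F}

theorem y_mm (hT : MT n F) (hW : MW n F) (hy : Fam e t 1 y) (h : Ts x x') (a b c l m : F) :
    y (l • x + m • x') * e (mm x x' a b c) =
      e (mm x x' a b (c + a * m + l * b)) * y (l • x + m • x') := by
  rw [← th_mm hT hW h, ← hy.act _ _ (q0_span h _ _) (ac_mm_span h.p _ _ _ _ _)]
  group

theorem y_nn (hT : MT n F) (hW : MW n F) (hy : Fam e t 1 y) (h : Ts x x') (c l m : F) :
    y (l • x + m • x') * e (mm x x' 0 0 c) = e (mm x x' 0 0 c) * y (l • x + m • x') := by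
  simpa using y_mm hT hW hy h 0 0 c l m

theorem dd_mm (hT : MT n F) (hW : MW n F) (hC : FC n F) (hA : AV e t) (hy : Fam2 e t 1 y)
    (hD : DD e t 1 y) (h : Ts x x') : ∃ a b c, dd y x x' = e (mm x x' a b c) := by
  obtain ⟨h1, h2⟩ := hD x x' h.l h.r h.p
  have ht : dd y x x' * t = t * dd y x x' := by
    rw [show (1 : F) + 1 ^ 2 = 0 by simp [CharTwo.add_self_eq_zero], zero_smul, qq, EE_zero,
      map_one, mul_one] at h2
    exact mul_inv_eq_iff_eq_mul.1 h2
  obtain ⟨a, b, c, hd | hd⟩ := hA.v2 _ x x' ht h.p h.li h1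
  · exact ⟨a, b, c, hd⟩
  exfalso
  change dd y x x' = t * e (mm x x' a b c) at hd
  obtain ⟨c1, hc⟩ := hy.com x x' h
  rw [← mm_zero] at hc
  have hs : q0 (x + x') = 0 := by simpa using q0_span h 1 1
  have w2 := hy.sq _ hs
  have v2 := hy.sq _ h.r
  have u2 := hy.sq _ h.l
  have vn := y_nn hT hW hy.toFam h c1 0 1
  have wm := y_mm hT hW hy.toFam h a b c 1 1
  have wt := hy.tr _ hs
  rw [smul_add, ← mm_TT] at wt
  simp only [one_smul, zero_smul, zero_add] at vn wm
  have e1 : y x * y x' = y (x + x') * (t * e (mm x x' a b c)) := by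
    rw [← hd, dd, ← mul_assoc, ← mul_assoc, w2, one_mul]
  have e2 : y x * y x' * (y x * y x') = e (mm x x' 0 0 c1) := by
    calc y x * y x' * (y x * y x') = y x * (y x' * y x) * y x' := by group
      _ = (y x * y x) * (y x' * e (mm x x' 0 0 c1)) * y x' := by rw [hc]; group
      _ = _ := by rw [u2, vn, one_mul, mul_assoc, v2, mul_one]
  have e3 : y x * y x' * (y x * y x') =
      e (mm x x' 1 1 0 * mm x x' a b (c + a * 1 + 1 * b) * mm x x' a b c) := by
    rw [e1, map_mul, map_mul]
    calc _ = (y (x + x') * t * (y (x + x'))⁻¹) * (y (x + x') * e (mm x x' a b c)) * y (x + x') *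
          t * e (mm x x' a b c) := by group
      _ = t * e (mm x x' 1 1 0) * e (mm x x' a b (c + a * 1 + 1 * b)) *
          (y (x + x') * y (x + x')) * t * e (mm x x' a b c) := by rw [wt, wm]; group
      _ = (t * (e (mm x x' 1 1 0 * mm x x' a b (c + a * 1 + 1 * b))) * t) * e (mm x x' a b c) := by
          rw [w2, map_mul]; group
      _ = _ := by rw [hA.cen, mul_assoc _ t t, hA.tt, mul_one, map_mul]
  rw [mm_mul h.p, mm_mul h.p, e2] at e3
  have := (hC.uq x x' h.p h.li _ _ _ _ _ _ (hA.inj e3)).1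
  exact one_ne_zero (α := F) (by linear_combination -this - a * two0 F)

theorem dd_conj (hy : Fam e t 1 y) (h : Ts x x') {g : XU n F} (hg : g ∈ X0 n F) :
    e g * dd y x x' * (e g)⁻¹ = dd y (ac g x) (ac g x') := by
  have hs : q0 (x + x') = 0 := by simpa using q0_span h 1 1
  rw [dd, dd, ← ac_add, ← hy.eqv g hg _ hs, ← hy.eqv g hg _ h.l, ← hy.eqv g hg _ h.r]
  group

theorem dd_all (hT : MT n F) (hW : MW n F) (hC : FC n F) (hA : AV e t) (hy : Fam2 e t 1 y)
    (hD : DD e t 1 y) : ∃ δ, ∀ z z', Ts z z' → dd y z z' = e (mm z z' 0 0 δ) := by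
  obtain ⟨x', h⟩ := hW.ex1 (ev 0) (q0_ev 0) (ev_ne 0)
  generalize (ev 0 : Vn n F) = x at h
  obtain ⟨a, b, c, hd⟩ := dd_mm hT hW hC hA hy hD h
  have H : ∀ z z', Ts z z' → dd y z z' = e (mm z z' a b c) := fun z z' hz => by
    obtain ⟨g, hg, rfl, rfl⟩ := hW.wt2 x x' z z' h hz
    rw [← dd_conj hy.toFam h hg, hd, ← mm_conj h.p, map_mul, map_mul, map_inv]
  have hs : q0 (x + x') = 0 := by simpa using q0_span h 1 1
  have hab : a = b := by
    obtain ⟨c1, hc⟩ := hy.com x x' h
    have h1 := H x' x (by simpa using ts_span h (a := 0) (b := 1) (a' := 1) (b' := 0) (by simp))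
    rw [mm_swap, dd, mul_assoc, hc, add_comm x', ← mul_assoc, ← mul_assoc, ← dd, hd, ← mm_zero,
      ← map_mul, mm_mul h.p] at h1
    simpa using (hC.uq x x' h.p h.li _ _ _ _ _ _ (hA.inj h1)).1
  have hb : b = 0 := by
    have h1 := H x (x + x')
      (by simpa using ts_span h (a := 1) (b := 0) (a' := 1) (b' := 1) (by simp))
    have h2 : dd y x (x + x') * dd y x x' = 1 := by
      rw [dd, dd, ← add_assoc, v_add_self, zero_add]
      calc _ = y x' * (y x * (y (x + x') * y (x + x')) * y x) * y x' := by group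
        _ = 1 := by rw [hy.sq _ hs, mul_one, hy.sq _ h.l, mul_one, hy.sq _ h.r]
    rw [h1, hd, mm_shear, ← map_mul, mm_mul h.p, ← map_one e, ← mm_one x x'] at h2
    have := (hC.uq x x' h.p h.li _ _ _ _ _ _ (hA.inj h2)).1
    linear_combination this - a * two0 F
  subst hb hab
  exact ⟨c, H⟩

theorem jobA5 : JobA5.{u} := by
  intro n F _ _ _ _ _ _ G _ _ e t _ hT hW hC hA y hy hD
  obtain ⟨δ, H⟩ := dd_all hT hW hC hA hy hD
  have T : ∀ z z', Ts z z' → y z * y z' = y (z + z') * e (qq (δ • z') z) := fun z z' h => by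
    have hs : q0 (z + z') = 0 := by simpa using q0_span h 1 1
    rw [← mm_zero, ← H z z' h, dd, ← mul_assoc, ← mul_assoc, hy.sq _ hs, one_mul]
  refine ⟨δ, hy.toFam, fun x z hx hz hxz => ?_⟩
  by_cases hl : Li x z
  · exact T x z ⟨hx, hz, hxz, hl⟩
  by_cases h0 : x = 0
  · simp [h0, hy.zero]
  obtain ⟨c, rfl⟩ : ∃ c : F, z = c • x := by
    simp only [Li, not_forall] at hl
    obtain ⟨a, b, h1, h2⟩ := hl
    have hb : b ≠ 0 := by
      rintro rfl
      rw [zero_smul, add_zero] at h1
      exact h2 ⟨(smul_eq_zero.1 h1).resolve_right h0, rfl⟩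
    refine ⟨-(a / b), ?_⟩
    have h3 : z = b⁻¹ • (b • z) := by rw [smul_smul, inv_mul_cancel₀ hb, one_smul]
    rw [h3, eq_neg_of_add_eq_zero_right h1, smul_neg, smul_smul, neg_smul, div_eq_inv_mul]
  rw [smul_smul, qq_self, tr_eq_zero.2 (star_trivial _), Tc, EE_zero, map_one, mul_one]
  by_cases c0 : c = 0
  · simp [c0, hy.zero]
  by_cases c1 : c = 1
  · simp [c1, hy.zero, hy.sq x hx]
  obtain ⟨x', h⟩ := hW.ex1 x hx h0
  have S : ∀ a b a' b' : F, a * b' + a' * b ≠ 0 → y (a • x + b • x') * y (a' • x + b' • x') =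
      y ((a + a') • x + (b + b') • x') * e (mm x x' 0 0 (δ * (a * b' + a' * b))) := by
    intro a b a' b' hd
    rw [T _ _ (ts_span h hd), smul_add δ, smul_smul, smul_smul, qq_span h.p]
    congr 2
    · module
    · congr 1; ring
  have s1 := S 1 0 0 1 (by simp)
  have s2 := S 0 1 c 0 (by simpa using c0)
  have s3 := S 1 1 c 1 fun h => c1 (by linear_combination h - two0 F)
  have s4 := y_nn hT hW hy.toFam h δ c 1
  simp only [one_smul, zero_smul, add_zero, zero_add, mul_one, mul_zero,
    CharTwo.add_self_eq_zero, add_smul] at s1 s2 s3 s4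
  calc y x * y (c • x) = (y x * y x') * (y x' * y (c • x)) := by
        rw [mul_assoc, ← mul_assoc (y x'), hy.sq _ h.r, one_mul]
    _ = y (x + x') * (e (mm x x' 0 0 δ) * y (c • x + x')) * e (mm x x' 0 0 (δ * c)) := by
        rw [s1, s2]; group
    _ = y (x + c • x) * e (mm x x' 0 0 (δ * (1 + c)) * mm x x' 0 0 δ * mm x x' 0 0 (δ * c)) := by
        rw [← s4, ← mul_assoc, s3, map_mul, map_mul]; group
    _ = _ := by
        rw [mm_mul h.p, mm_mul h.p]
        simp only [add_zero, mul_zero]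
        rw [show δ * (1 + c) + δ + δ * c = 0 by linear_combination (δ + δ * c) * two0 F, mm_one,
          map_one, mul_one]

end Amb

end H60.SPI
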