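import Cfsg.Agent.H86.SPODef

/-! STD-SP (row S3129), endgame, orthogonal model: slot OC. -/

set_option autoImplicit false
set_option linter.unusedSectionVars false

namespace H60.SOC

open H64.SG (O2 Syl Cz Cs Ns cjs Is2 Inv2 IsO2 fx mem_Cz)
open H64.YE (OC LS Co)
open H67.UA (XU)
open H67.SA (St cm mem_St_of_finite mem_St_iff_map conj_mem_St mem_cI)
open H59.SO
open H86.SPO
open H56 H58 QuadraticMap Module Subgroup

section Geo

variable {F V : Type} [Field F] [CharP F 2] [AddCommGroup V] [Module F V] {Q : QuadraticForm F V}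
  {u a x : V} {g : Om Q}

theorem mem_R0 (hu : Q u = 0) :
    g ∈ R0 Q u a ↔ ∃ x, polar Q u x = 0 ∧ polar Q a x = 0 ∧ g = E Q u x := by
  refine ⟨fun h => ?_, fun h => subset_closure h⟩
  induction h using closure_induction with
  | mem _ h => exact h
  | one => exact ⟨0, by simp, by simp, (E_zero u).symm⟩
  | mul _ _ _ _ h h' =>
    obtain ⟨x, h1, h2, rfl⟩ := h
    obtain ⟨y, h3, h4, rfl⟩ := h'
    exact ⟨x + y, by rw [polar_add_right, h1, h3, add_zero], by rw [polar_add_right, h2, h4, add_zero],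
      (E_add hu h1 h3).symm⟩
  | inv _ _ h =>
    obtain ⟨x, h1, h2, rfl⟩ := h
    exact ⟨x, h1, h2, E_inv u x⟩

theorem E_R0 (h1 : polar Q u x = 0) (h2 : polar Q a x = 0) : E Q u x ∈ R0 Q u a :=
  subset_closure ⟨x, h1, h2, rfl⟩

theorem cjs_R0 (hu : Q u = 0) (g : Om Q) : cjs g (R0 Q u a) = R0 Q (g.1 u) (g.1 a) := by
  ext y
  rw [mem_R0 (by rw [O.map_Q, hu]), mem_map]
  constructor
  · rintro ⟨_, h, rfl⟩
    obtain ⟨x, h1, h2, rfl⟩ := (mem_R0 hu).1 h
    exact ⟨g.1 x, by rwa [O.map_polar], by rwa [O.map_polar], conj_E g u x⟩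
  · rintro ⟨x, h1, h2, rfl⟩
    obtain ⟨x, rfl⟩ := O.surjective g.1 x
    rw [O.map_polar] at h1 h2
    exact ⟨_, E_R0 h1 h2, conj_E g u x⟩

end Geo

variable {n : ℕ} {F V : Type} [Field F] [StarRing F] [TrivialStar F] [CharP F 2] [Finite F]
  [AddCommGroup V] [Module F V] [FiniteDimensional F V] {Q : QuadraticForm F V}
  {ι : XU n F →* Om Q} {r : Fr Q} {w : V} (d : Dc ι r w)

include d

theorem ew (i : Fin 3) : polar Q (r.e i) (w + r.e 1) = 0 := by
  rw [polar_add_right, d.we, r.ee, add_zero]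
theorem fw (i : Fin 3) : polar Q (r.f i) (w + r.e 1) = if i = 1 then 1 else 0 := by
  rw [polar_add_right, d.wf, r.fe, zero_add]
theorem ww : polar Q w (w + r.e 1) = 0 := by
  rw [polar_add_right, polar_self2, polar_comm, d.we, add_zero]
theorem qw' : Q (w + r.e 1) = 1 := by
  rw [H56.Q_add, d.qw, r.qe, polar_comm, d.we]; simp

theorem inj0 {a b : V} (ha : polar Q (r.e 0) a = 0) (hb : polar Q (r.e 0) b = 0)
    (h : E Q (r.e 0) a = E Q (r.e 0) b) : ∃ c : F, a = b + c • r.e 0 :=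
  (E_inj d.par.nd (r.ne 0) (r.qe 0) ha hb).1 h

theorem li {a : V} (h : ∀ s t : F, a ≠ s • (w + r.e 1) + t • r.e 0) :
    LinearIndependent F ![r.e 0, w + r.e 1, a] := by
  rw [Fintype.linearIndependent_iff]
  intro g hg
  simp only [Fin.sum_univ_three, Matrix.cons_val_zero, Matrix.cons_val_one, Matrix.cons_val] at hg
  have h2 : g 2 = 0 := by_contra fun h2 => h (-((g 2)⁻¹ * g 1)) (-((g 2)⁻¹ * g 0)) (by
    have : a = (g 2)⁻¹ • g 2 • a := by rw [smul_smul, inv_mul_cancel₀ h2, one_smul]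
    rw [this, eq_neg_of_add_eq_zero_right hg]; module)
  rw [h2, zero_smul, add_zero] at hg
  have k := fun i => congrArg (polar Q (r.f i)) hg
  have h0 := k 0
  have h1 := k 1
  intro i
  fin_cases i
  · simpa [polar_smul_right, d.wf, r.fe] using h0
  · simpa [polar_smul_right, d.wf, r.fe] using h1
  · exact h2

variable (k : KK r)
include k

/-- The automorphisms that fix `c`. -/
theorem str {α : Au Q} (h : α (cc r w) = cc r w) : ∃ T : Gam Q,
    (∀ a, α (E Q (r.e 0) a) = E Q (r.e 0) (T a)) ∧ T (r.e 0) = r.e 0 ∧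
    (∀ a b, polar Q (T a) (T b) = T.σ (polar Q a b)) ∧
    (∀ a, polar Q (r.e 0) (T a) = T.σ (polar Q (r.e 0) a)) ∧
    ∃ s : F, T (w + r.e 1) = w + r.e 1 + s • r.e 0 := by
  obtain ⟨T, h1, rfl⟩ := (d.fa.lin α _ _ (r.ne 0) (r.qe 0) (ew d 0) (by rw [qw' d]; simp)
    ⟨_, _, h⟩).exists_one
  obtain ⟨h2, h3⟩ := k.cG T _ _ h1 (r.ne 0) (r.qe 0) (ew d 0) (qw' d) h
  have h4 : ∀ a b, polar Q (T a) (T b) = T.σ (polar Q a b) := fun a b => by
    rw [T.map_polar, h1, one_mul]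
  exact ⟨T, fun a => by rw [gam_E_one h1, h2], h2, h4, fun a => by rw [← h4, h2], h3⟩

omit k in
theorem sig {T : Gam Q} {s : F} (h3 : T (w + r.e 1) = w + r.e 1 + s • r.e 0)
    (h : ∀ t : F, ∃ c : F, T (t • (w + r.e 1)) = t • (w + r.e 1) + c • r.e 0) (t : F) :
    T.σ t = t := by
  obtain ⟨c, hc⟩ := h t
  have := congrArg (polar Q (r.f 1)) hc
  rw [T.map_smul, h3] at this
  simpa [polar_smul_right, d.wf, r.fe] using this

theorem st (α : Au Q) (h : α (cc r w) = cc r w) : α ∈ St (R0 Q (r.e 0) (w + r.e 1)) := by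
  obtain ⟨T, h1, -, h2, h3, s, h4⟩ := str d k h
  refine mem_St_of_finite fun g hg => ?_
  obtain ⟨a, a1, a2, rfl⟩ := (mem_R0 (r.qe 0)).1 hg
  have a3 : polar Q (r.e 0) (T a) = 0 := by rw [h3, a1, map_zero]
  have := h2 (w + r.e 1) a
  rw [h4, polar_add_left, polar_smul_left, a3, a2, map_zero, smul_zero, add_zero] at this
  exact h1 a ▸ E_R0 a3 this

theorem tv (α : Au Q) (h : ∀ x ∈ R0 Q (r.e 0) (w + r.e 1), α x = x) (x : Om Q) (hx : x ∈ r.R) :
    α x * x⁻¹ ∈ R0 Q (r.e 0) (w + r.e 1) := by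
  obtain ⟨T, h1, -, h2, h3, s, h4⟩ := str d k (h _ (E_R0 (ew d 0) (polar_self2 _)))
  have hσ := sig d h4 fun t => by
    have e : polar Q (r.e 0) (t • (w + r.e 1)) = 0 := by rw [polar_smul_right, ew d, smul_zero]
    exact inj0 d (by rw [h3, e, map_zero]) e ((h1 _).symm.trans
      (h _ (E_R0 e (by rw [polar_smul_right, polar_self2, smul_zero]))))
  obtain ⟨a, a1, rfl⟩ := (mem_Ru (r.qe 0)).1 hx
  have a3 : polar Q (r.e 0) (T a) = 0 := by rw [h3, a1, map_zero]
  have := h2 (w + r.e 1) a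
  rw [h4, polar_add_left, polar_smul_left, a3, hσ, smul_zero, add_zero] at this
  rw [h1, E_inv, ← E_add (r.qe 0) a3 a1]
  exact E_R0 (by rw [polar_add_right, a3, a1, add_zero])
    (by rw [polar_add_right, this, CharTwo.add_self_eq_zero])

theorem co : Co (R0 Q (r.e 0) (w + r.e 1) ⊓ R0 Q (r.e 0) w) := by
  intro α h ho
  obtain ⟨T, h1, -, h2, h3, s, h4⟩ := str d k
    (h _ ⟨E_R0 (ew d 0) (polar_self2 _), E_R0 (ew d 0) (ww d)⟩)
  have hD : ∀ a, polar Q (r.e 0) a = 0 → polar Q (w + r.e 1) a = 0 → polar Q w a = 0 →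
      ∃ c : F, T a = a + c • r.e 0 := fun a a1 a2 a3 =>
    inj0 d (by rw [h3, a1, map_zero]) a1 ((h1 _).symm.trans (h _ ⟨E_R0 a1 a2, E_R0 a1 a3⟩))
  have hσ := sig d h4 fun t => hD _ (by rw [polar_smul_right, ew d, smul_zero])
    (by rw [polar_smul_right, polar_self2, smul_zero]) (by rw [polar_smul_right, ww d, smul_zero])
  obtain ⟨ζ, hζ, e⟩ := mem_cI.1 (d.fb.ctR (α * α) fun x hx => by
    obtain ⟨a, a1, rfl⟩ := (mem_Ru (r.qe 0)).1 hx
    have a3 : polar Q (r.e 0) (T a) = 0 := by rw [h3, a1, map_zero]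
    have key : ∀ b, (∃ c : F, T b = b + c • r.e 0) → polar Q b (T a + a) = 0 := fun b ⟨c, hc⟩ => by
      have := h2 b a
      rw [hc, polar_add_left, polar_smul_left, a3, hσ, smul_zero, add_zero] at this
      rw [polar_add_right, this, CharTwo.add_self_eq_zero]
    obtain ⟨c, hc⟩ := hD (T a + a) (by rw [polar_add_right, a3, a1, add_zero]) (key _ ⟨s, h4⟩)
      (key _ (hD w (d.we 0) (by rw [polar_comm, ww d]) (polar_self2 w)))
    have e : T (T a) = a + c • r.e 0 := by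
      rw [map_add] at hc
      rw [← add_right_cancel_iff (a := T a), hc]; abel
    rw [MulAut.mul_apply, h1, h1, e, E_add_smul_self c (r.qe 0) a1])
  have h4 : α ^ 4 = 1 := by
    rw [show α ^ 4 = α * α * (α * α) by simp [pow_succ, mul_assoc], e, ← map_mul,
      d.fg.ab.2.2.1 ζ hζ, map_one]
  exact orderOf_eq_one_iff.1 (Nat.Coprime.eq_one_of_dvd
    ((Nat.coprime_two_right.2 ho).pow_right 2) (orderOf_dvd_of_pow_eq_one h4))

theorem gr (kd : KD ι r w) : R0 Q (r.e 0) (w + r.e 1) ≤ H64.YE.EG ι LS (Cz (cc r w)) := by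
  have hC : ∀ a, E Q (r.e 0) a ∈ Cz (cc r w) := fun a => mem_Cz.2 (E_comm _ _ _)
  have h1 : ∀ s : F, E Q (r.e 0) (s • (w + r.e 1)) ∈ H64.YE.EG ι LS (Cz (cc r w)) := fun s => by
    rw [smul_add, E_add (r.qe 0) (by rw [polar_smul_right, d.we, smul_zero])
      (by rw [polar_smul_right, r.ee, smul_zero])]
    refine mul_mem (kd.ee _ 1 (one_mem _) _ s (r.qe 0) (d.we 0) (hC _)) ?_
    by_cases hs : s = 0
    · rw [hs, zero_smul, E_zero]; exact one_mem _
    · exact kd.er _ _ (hC _) (r.z_root hs)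
        (E_fix (d.we 0) (by rw [polar_smul_left, d.we, smul_zero]))
  have h2 : ∀ a, polar Q (r.e 0) a = 0 → polar Q (w + r.e 1) a = 0 → Q a ≠ 0 →
      (∀ s t : F, a ≠ s • (w + r.e 1) + t • r.e 0) →
      E Q (r.e 0) a ∈ H64.YE.EG ι LS (Cz (cc r w)) := fun a a1 a2 a3 a4 => by
    obtain ⟨s, s0, s1⟩ := k.nm a a3
    have a1' := (polar_comm _ _ _).trans a1
    have a2' := (polar_comm _ _ _).trans a2
    have b1 := (polar_comm _ _ _).trans (d.we 0)
    have b2 := (polar_comm _ _ _).trans (ww d)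
    obtain ⟨b, hb⟩ := H91.SO.witt3 d.par.toPar0 (by simp) ![r.e 0, w + r.e 1, w]
      ![r.e 0, w + r.e 1, s • a] (li d fun x y e => by
        have e0 := congrArg (polar Q (r.f 0)) e
        have e1 := congrArg (polar Q (r.f 1)) e
        simp [polar_smul_right, r.fe, d.wf] at e0 e1
        have := d.qw
        rw [e, ← e0, ← e1] at this
        simp at this)
      (li d fun x y e => a4 (s⁻¹ * x) (s⁻¹ * y) (by
        rw [mul_smul, mul_smul, ← smul_add, ← e, smul_smul, inv_mul_cancel₀ s0, one_smul]))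
      (fun i => by fin_cases i <;> simp [s1, d.qw])
      (fun i j hij => by
        fin_cases i <;> fin_cases j <;>
          simp [-polar_add_right, -polar_add_left, polar_smul_left, polar_smul_right, a1, a2, a1',
            a2', b1, b2, d.we, ww d] at hij ⊢)
    have c0 : b.1 (r.e 0) = r.e 0 := hb 0
    have c1 : b.1 (w + r.e 1) = w + r.e 1 := hb 1
    have c2 : b.1 w = s • a := hb 2
    have := kd.ee _ b (mem_Cz.2 (comm_E c0 c1).symm) (r.e 0) s⁻¹ (r.qe 0)
      (by rw [c2, polar_smul_right, a1, smul_zero]) (hC _)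
    rwa [c2, smul_smul, inv_mul_cancel₀ s0, one_smul] at this
  intro g hg
  obtain ⟨a, a1, a2, rfl⟩ := (mem_R0 (r.qe 0)).1 hg
  by_cases a4 : ∀ s t : F, a ≠ s • (w + r.e 1) + t • r.e 0
  · by_cases a3 : Q a = 0
    · have a5 : polar Q (r.e 0) (a + (w + r.e 1)) = 0 := by rw [polar_add_right, a1, ew d, add_zero]
      rw [show a = a + (w + r.e 1) + (1 : F) • (w + r.e 1) by
        rw [one_smul, add_assoc, add_self2 F, add_zero], E_add (r.qe 0) a5
        (by rw [one_smul, ew d])]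
      refine mul_mem (h2 _ a5 (by rw [polar_add_right, a2, polar_self2, add_zero])
        (by rw [H56.Q_add, a3, qw' d, polar_comm, a2]; simp) fun s t e => a4 (s - 1) t ?_) (h1 1)
      rw [eq_sub_of_add_eq e]; module
    · exact h2 a a1 a2 a3 a4
  · push Not at a4
    obtain ⟨s, t, rfl⟩ := a4
    rw [E_add_smul_self t (r.qe 0) (by rw [polar_smul_right, ew d, smul_zero])]
    exact h1 s

theorem two : ∃ g ∈ Ns r.R, cc r w ∈ cjs g (R0 Q (r.e 0) (w + r.e 1)) ∧
    r.R ≤ R0 Q (r.e 0) (w + r.e 1) ⊔ cjs g (R0 Q (r.e 0) (w + r.e 1)) ∧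
    Co (R0 Q (r.e 0) (w + r.e 1) ⊓ cjs g (R0 Q (r.e 0) (w + r.e 1))) := by
  obtain ⟨x, hx, x1⟩ := r.exists_polar d.par.toPar0 (x := w) (fun i => ⟨d.we i, d.wf i⟩)
    (fun h => by simpa [h] using d.qw)
  have g0 : (E Q (r.e 1) x).1 (r.e 0) = r.e 0 := E_fix (r.ee 1 0) (by rw [polar_comm, (hx 0).1])
  have g1 : (E Q (r.e 1) x).1 (w + r.e 1) = w := by
    rw [E_apply_orth (r.qe 1) (hx 1).1 (ew d 1), polar_add_right, polar_comm, x1, polar_comm,
      (hx 1).1, add_zero, one_smul, add_assoc, add_self2 F, add_zero]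
  refine ⟨E Q (r.e 1) x, conj_mem_St.1 (mem_St_iff_map.2 ((cjs_Ru _ _).trans (by rw [g0]))), ?_⟩
  rw [cjs_R0 (r.qe 0), g0, g1]
  refine ⟨E_R0 (ew d 0) (ww d), (Ru_le (r.qe 0)).2 fun a a1 => ?_, co d k⟩
  have b0 : ∀ t : F, polar Q (r.e 0) (t • r.f 1) = 0 := fun t => by
    rw [polar_smul_right, r.ef]; simp
  have b1 : polar Q (r.e 0) (a + polar Q (w + r.e 1) a • r.f 1) = 0 := by
    rw [polar_add_right, a1, b0, add_zero]
  rw [show a = a + polar Q (w + r.e 1) a • r.f 1 + polar Q (w + r.e 1) a • r.f 1 by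
    rw [add_assoc, add_self2 F, add_zero], E_add (r.qe 0) b1 (b0 _)]
  refine mul_mem (mem_sup_left (E_R0 b1 ?_)) (mem_sup_right (E_R0 (b0 _) ?_))
  · rw [polar_add_right, polar_smul_right, polar_comm _ _ (r.f 1), fw d]
    simp [CharTwo.add_self_eq_zero]
  · rw [polar_smul_right, polar_comm _ w, d.wf, smul_zero]

omit d k in
theorem jobOC : JobOC := by
  intro n F _ _ _ _ _ _ b c o V _ _ _ Q ι r w d k kd ir
  refine ⟨Xl_le.2 fun c => E_R0 (by rw [polar_smul_right, ew d, smul_zero])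
    (by rw [polar_smul_right, polar_self2, smul_zero]), (closure_le _).2 ?_, fun h => ?_,
    fun h => ?_, ir, st d k, fun α _ h => tv d k α h, gr d k kd, two d k⟩
  · rintro _ ⟨x, -, -, rfl⟩; exact E_mem_Ru _ _
  · obtain ⟨s, e⟩ := (mem_Xl (r.qe 0) (ew d 0)).1
      (h (E_R0 (r.ee 0 2) (by rw [polar_comm, ew d])))
    obtain ⟨t, e⟩ := inj0 d (r.ee 0 2) (by rw [polar_smul_right, ew d, smul_zero]) e
    have := congrArg (polar Q (r.f 2)) e
    simp [polar_smul_right, d.wf, r.fe] at this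
  · obtain ⟨x, x1, x2, e⟩ := (mem_R0 (r.qe 0)).1 (h (E_mem_Ru _ (r.f 1)))
    obtain ⟨t, e⟩ := inj0 d (by rw [r.ef]; simp) x1 e
    have := congrArg (polar Q (w + r.e 1)) e
    rw [polar_add_right, x2, polar_smul_right, polar_comm, fw d, polar_comm, ew d] at this
    simp at this

end H60.SOC
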