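import Cfsg.Agent.H86.TP.Spec
import Cfsg.Agent.H14.FEKit

/-! # S1308, chapter TP: an element that moves `E T`. -/

set_option autoImplicit false

namespace H60.TpXA

open Cfsg Subgroup MulAction H14 H98 H1.Gold H31.S2 H14.GC H14.FE H14.NF H86.TP
open scoped commutatorElement

universe u

theorem el_comm {G : Type u} [Group G] {T : Subgroup G} (h : El T) {a b : G} (ha : a ∈ T)
    (hb : b ∈ T) : a * b = b * a := by
  have h1 := h _ (mul_mem ha hb)
  calc a * b = a * (a * b * (a * b)) * b := by rw [h1, mul_one]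
    _ = (a * a) * (b * a) * (b * b) := by group
    _ = b * a := by rw [h a ha, h b hb, one_mul, mul_one]

theorem jXA : JobXA.{u} := by
  intro G _ _ Q Q' T R E P h
  have : Fact (Nat.Prime 2) := ⟨Nat.prime_two⟩
  have hPR : P ≤ R := h.eqP ▸ inf_le_left
  have hET : E ≤ cen T := h.eq ▸ inf_le_right
  have inf : ∀ y ∈ R, y ∈ P ⊔ T → y ∈ P := by
    intro y hy k
    obtain ⟨z, hz, t, ht, rfl⟩ := (h.memPT y).mp k
    have h1 : t ∈ R := (mul_mem_cancel_left (hPR hz)).mp hy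
    rw [h.dis t ht (h.sylR.le h1), mul_one]
    exact hz
  refine ⟨fun ne => ?_, fun x hx nP hn => ?_⟩
  · have h2 : IsPGroup 2 (R ⊔ T : Subgroup G) :=
      h.sylR.isPGroup.to_sup_of_normal_left' h.syl.isPGroup h.norR
    have lt : P ⊔ T < R ⊔ T := lt_of_le_of_ne (sup_le_sup_right hPR _) fun e =>
      ne (le_antisymm hPR fun y hy => inf y hy (e ▸ mem_sup_left hy))
    obtain ⟨w, ⟨w1, w2⟩, w3⟩ := SetLike.exists_of_lt (lt_inf_normalizer h2 lt)
    obtain ⟨y, hy, t, ht, rfl⟩ := (h.memRT w).mp w1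
    have w4 : y * t ∈ nor (P ⊔ T) := w2
    exact ⟨y, hy, fun k => w3 (mul_mem (mem_sup_left k) (mem_sup_right ht)),
      (mul_mem_cancel_right (le_normalizer (mem_sup_right ht))).mp w4⟩
  have cm : ∀ t ∈ T, ⁅x, t⁆ ∈ P := fun t ht =>
    inf _ (comm_mem_left hx (h.norR ht)) (comm_mem_right hn (mem_sup_right ht))
  refine ⟨hx, nP, hn, ?_, cm, fun t ht hr => ?_⟩
  · have e : P = R ⊓ (P ⊔ T) :=
      le_antisymm (le_inf hPR le_sup_left) fun y hy => inf y hy.1 hy.2
    rw [e]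
    exact le_normalizer_inf (H := zpowers x) (zpowers_le.mpr (le_normalizer hx))
      (zpowers_le.mpr hn) (mem_zpowers x)
  by_contra t1
  refine nP ((h.mem x).mpr ⟨hx, fun s hs => ?_⟩)
  rw [← commutatorElement_inv]
  refine inv_mem (by_contra fun k => h.nd _ (cm s hs) k t ht t1 ?_)
  have e1 : x * t * x⁻¹ = ⁅x, t⁆ * t := by rw [commutatorElement_def]; group
  have e2 : x * s * x⁻¹ = ⁅x, s⁆ * s := by rw [commutatorElement_def]; group
  have e3 : ⁅x, s⁆ * s * (⁅x, t⁆ * t) = ⁅x, t⁆ * t * (⁅x, s⁆ * s) := by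
    rw [← e1, ← e2]
    calc x * s * x⁻¹ * (x * t * x⁻¹) = x * (s * t) * x⁻¹ := by group
      _ = x * (t * s) * x⁻¹ := by rw [el_comm h.el hs ht]
      _ = _ := by group
  have c1 : s * ⁅x, t⁆ = ⁅x, t⁆ * s := mem_centralizer_iff.mp (hET hr) s hs
  have c2 : ⁅x, t⁆ * ⁅x, s⁆ = ⁅x, s⁆ * ⁅x, t⁆ := mem_centralizer_iff.mp (h.cenE (cm s hs)) _ hr
  have c3 := el_comm h.el hs ht
  generalize ⁅x, t⁆ = r at e3 c1 c2
  generalize ⁅x, s⁆ = z at e3 c2 ⊢
  rw [commutatorElement_eq_one_iff_mul_comm]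
  have e4 : r * (z * t) * s = r * (t * z) * s := by
    calc r * (z * t) * s = (r * z) * (t * s) := by group
      _ = z * (r * s) * t := by rw [c2, ← c3]; group
      _ = z * s * (r * t) := by rw [← c1]; group
      _ = _ := by rw [e3]; group
  exact (mul_left_cancel (mul_right_cancel e4)).symm

end H60.TpXA
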