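/- Tensor-induced subgroups (class C7) with orthogonal factors of odd dimension. -/
import Cfsg.Agent.H60.WrBJ
import Cfsg.Agent.H60.WrO3Top
import Cfsg.Agent.H19.AschOdd
import Cfsg.Agent.H71.C7O3L
import Cfsg.Agent.H71.C7O3G
import Cfsg.Agent.H44.O3Iso
import Cfsg.Agent.H44.O3Q
import Cfsg.Agent.H86.O3End
import Cfsg.Agent.H86.O3QL
import Cfsg.Agent.H95.WrRigA
import Cfsg.Agent.H95.WrRigB
import Cfsg.Agent.H59.O3CB
import Cfsg.Agent.H29.O3KG
import Cfsg.Agent.H59.O3KL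
import Cfsg.Agent.H93.GT1
import Cfsg.Agent.H93.GT2

set_option autoImplicit false

namespace H60.Wr
open Cfsg Cfsg.Geo Matrix H19 Module
open scoped MatrixGroups

universe u

theorem oj : OJ.{u} :=
  ⟨H71.O3L.jobO3L, H71.O3G.jobO3G, H44.O3.jobO3Iso, H44.O3.jobO3Q, H86.O3.jobO3End,
    H86.O3.jobO3QL, H86.O3.jobO3PW, H95.Wr.jobO3Rig2, H95.Wr.jobO3Rig3, H95.Wr.jobO3FL,
    H95.Wr.jobO3PE, H59.O3.jobO3CB, H29.O3KG.jobO3KG, H59.O3.jobO3KL, H93.GT.jobGT1,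
    H93.GT.jobGT2⟩

theorem row_Oodd {F : Type u} [Field F] [Fintype F] (hodd : Odd (Fintype.card F)) (m : ℕ) {k t : ℕ}
    (hk : 3 ≤ k) (ht : 2 ≤ t) (hex : ¬ (Fintype.card F = 3 ∧ k = 3))
    (e : (Unit ⊕ (Fin m ⊕ Fin m)) ≃ (Fin t → Fin k)) (P : GL (Unit ⊕ (Fin m ⊕ Fin m)) F)
    {f₁ : (Fin k → F) → (Fin k → F) → F} (hf : IsSymmetricForm f₁)
    (hT : IsTensorPowerFormStructure id (QuadraticMap.polar (quadFormOdd m F)) f₁ e P) :
    IsMaximalIn (omegaGL (quadFormOdd m F))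
      (tensorWreathSubgroup k t e P ⊓ omegaGL (quadFormOdd m F)) := by
  obtain ⟨Q, hq, hQ⟩ := exists_qOdd hodd m
  have two := two_ne_zero_of_odd hodd
  refine row_OO hodd (hq ▸ isNondegenerateQuadraticForm_coe hQ) e P hf hT fun B Q h sig eps => ?_
  have k4 : k ≠ 4 := by
    rintro rfl
    have := card_eq e
    obtain ⟨s, rfl⟩ := Nat.exists_eq_add_of_le' ht
    simp only [Fintype.card_sum, Fintype.card_unit, Fintype.card_fin, pow_succ] at this
    omega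
  by_cases k3 : k = 3
  · subst k3
    exact max_O3 oj h ⟨sig, eps, two, exists_big hodd fun h => hex ⟨h, rfl⟩⟩ ht
  · exact max_OO bj h sig eps two ht (by omega)

end H60.Wr
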