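/- C7-O4 tower: assembly. -/
import Cfsg.Agent.H60.WrO4Fus
import Cfsg.Agent.H60.WrRow
import Cfsg.Agent.H60.WrBJ
import Cfsg.Agent.H93.GT1
import Cfsg.Agent.H93.GT2

set_option autoImplicit false

namespace H60.Wr
open Cfsg Cfsg.Geo Matrix H19 Module
open scoped MatrixGroups commutatorElement

universe u

/-- The jobs. -/
structure J4 : Prop where
  k : JobO4K.{u}
  l : JobO4L.{u}
  e : JobO4E.{u}
  f : JobO4F.{u}
  x3 : JobO4X3.{u}
  m : JobO4M.{u}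
  iso : JobO4Iso.{u}
  q : JobO4Q.{u}
  fin : JobO4End.{u}
  ql : JobO4QL.{u}
  rig3 : JobO4Rig3.{u}
  pw : JobO4PW.{u}
  fl : JobO4FL.{u}
  rig4 : JobO4Rig4.{u}
  cb : JobO4CB.{u}
  kg : JobO4KG.{u}
  kp : JobO4KP.{u}
  cz : JobO4CZ.{u}
  b3 : JobO4B3.{u}
  base : JobO4Base.{u}

theorem rig3' (h : JobO4Rig3.{u}) : Rig3'.{u} := by
  rintro F _ _ t B g i w v H hg hw hv hn ⟨y, hy, e⟩
  have O := H.toO4
  have n0 := neg_ne_zero.2 (O.nz hw hv hn)
  have e1 : ∀ n : ℕ, ((y : EE 4 t F) - 1) ^ n = cj g (em i ((eu B w v - 1) ^ n)) := fun n => by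
    simp only [map_pow, map_sub, map_one, e]
  have e2 : ((y : EE 4 t F) - 1) ^ 2 = -B.f v v • cj g (em i (rf B w w)) := by
    rw [e1, O.eu_sq hw.2 hv, map_smul, map_smul]
  obtain ⟨j, hj⟩ := h F t B y H i.pos hy (mem_Iso_of (by
    rw [e, Frm.adj_cj _ (Frm.Iso_le_sim _ hg), adj_em, ← map_mul, ← map_mul, O.adj_eu_mul hw.2 hv,
      map_one, map_one])) (by rw [e1, O.eu_cube hw.2 hv, map_zero, map_zero]) (by
    rw [e1, O.eu_sq hw.2 hv, finrank_rg_cj, ← ro_smul_left,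
      rank_em_ro i (smul_ne_zero n0 hw.1) (ph_ne_zero hw.1)])
  refine ⟨j, e ▸ hj, ?_⟩
  have := ((hj.sub (Sc.one.inA j)).mul (hj.sub (Sc.one.inA j))).smul (-B.f v v)⁻¹
  rwa [← sq, e2, inv_smul_smul₀ n0] at this

variable {F : Type u} [Field F] {t : ℕ} {B : Frm (Fin 4) F} {M G : Subgroup (GG 4 t F)}
  {I R : Finset (Fin t)} {g : GG 4 t F} {i j : Fin t} {s : GL (Fin 4) F}

theorem Nm.conj_G4 (h : Nm g i j) (hg : g ∈ (B.pow t).Iso) (hs : s ∈ G0 B) :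
    ∃ s' ∈ G0 B, g * emG i s * g⁻¹ = emG j s' := by
  obtain ⟨r, hr⟩ := h.exists_cj
  have e1 : ∀ a, g * emG i a * g⁻¹ = emG j (r * a * r⁻¹) := fun a => Units.ext (by
    rw [← cj_coe, coe_emG, hr, coe_emG, cj_coe])
  have e2 : B.Iso.map (MulAut.conj r).toMonoidHom ≤ B.Iso := by
    rintro _ ⟨a, ha, rfl⟩
    exact iso_of_em (i := j) (e1 a ▸ mul_mem (mul_mem hg (emG_mem_Iso ha i)) (inv_mem hg))
  refine ⟨_, Subgroup.commutator_mono e2 e2 ?_, e1 s⟩
  rw [← Subgroup.map_commutator]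
  exact Subgroup.mem_map_of_mem _ hs

variable [Finite F]

theorem GC.le_T (C : GC B G R) (hR : R.Nonempty) (fix : ∀ i ∈ R, ∀ ξ, Xi B ξ → ∀ g ∈ G,
    g * emG i (ξ * ξ) * g⁻¹ ∈ TT 4 t F → g ∈ TT 4 t F) : G ≤ TT 4 t F := by
  obtain ⟨m, hm⟩ := hR
  let L : {i // i ∈ R} → Subgroup G := fun i => ((G0 B).map (emG i.1)).subgroupOf G
  have eq : ∀ i, Nonempty (G0 B ≃* L i) := fun i =>
    ⟨((G0 B).equivMapOfInjective _ (emG_inj4 i.1)).trans (Subgroup.subgroupOfEquivOfLe (by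
      rintro _ ⟨s, hs, rfl⟩; exact C.mem _ i.2 s hs)).symm⟩
  have H : GTH ((TT 4 t F).subgroupOf G) L := by
    refine ⟨?_, fun i => ?_, fun i h => ?_, ?_, ?_, ?_⟩
    · rintro i x ⟨s, -, hs⟩
      exact InA.mem_T (i := i.1) (by norm_num) ⟨s, congrArg Units.val hs.symm⟩
    · obtain ⟨φ⟩ := eq i
      have := C.f.simple
      exact φ.symm.isSimpleGroup
    · obtain ⟨φ⟩ := eq i
      exact C.f.nonab ⟨⟨fun a b => φ.injective (by rw [map_mul, map_mul, h.is_comm.comm])⟩⟩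
    · rintro i j ij x ⟨s, -, hs⟩ y ⟨s', -, hs'⟩
      refine Subtype.ext ?_
      have := emG_comm (t := t) (fun h => ij (Subtype.ext h)) s s'
      rwa [hs, hs'] at this
    · rintro h hh i
      obtain ⟨σ, hσ⟩ := exists_perm hh
      refine ⟨⟨σ i, ?_⟩, ?_⟩
      · by_contra hn
        exact hn ((hσ i).inv.unique (by norm_num) (C.out h h.2 hh _ hn).inv ▸ i.2)
      · rintro x ⟨s, hs, e⟩
        obtain ⟨s', h1, h3⟩ := (hσ i).conj_G4 (C.le h.2) hs
        exact ⟨s', h1, by rw [← h3, e]; rfl⟩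
    · rintro i z ⟨s, hs, es⟩ z1 z2 g hg
      obtain ⟨ξ, hξ, rfl⟩ := C.f.x1 s hs (by
        rintro rfl; exact z1 (Subtype.ext (by rw [map_one] at es; exact es.symm)))
        (emG_inj4 i.1 (by rw [map_mul, es, map_one]; exact congrArg Subtype.val z2))
      exact fix i i.2 ξ hξ g g.2 (by rw [es]; exact hg)
  exact Subgroup.subgroupOf_eq_top.1 (H93.GT.jobGT2 _ _ _ L ⟨⟨m, hm⟩⟩ H (H93.GT.jobGT1 _ _ _ L H))

theorem GC.le_of_cz (J : J4.{u}) (C : GC B G R) (r2 : R2 R) (cz : CZ B G R) : G ≤ TT 4 t F :=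
  C.le_T ⟨_, r2.choose_spec.1⟩ (jobO4Fus J.rig4 F t B G R (J.x3 F B C.f) C r2 cz
    (J.cz F t B G R C (J.kp J.kg F t B G R C r2)).1)

/-- The induction for the field of order three. -/
theorem GC.le3 (J : J4.{u}) (ht : 2 ≤ t) (h3 : ∀ a : F, a = 0 ∨ a ^ 2 = 1) (R : Finset (Fin t)) :
    ∀ (G : Subgroup (GG 4 t F)) (ξ : Fin t → GL (Fin 4) F), GC B G R → R.Nonempty →
      (∀ l, Xi B (ξ l)) → (∀ g ∈ G, ∀ l ∉ R, g * emG l (ξ l) = emG l (ξ l) * g) → G ≤ TT 4 t F := by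
  induction R using Finset.strongInduction with | H R ih => ?_
  rintro G ξ C ⟨m, hm⟩ hξ hc
  by_cases r2 : R2 R
  swap
  · obtain rfl : R = {m} := Finset.eq_singleton_iff_unique_mem.2
      ⟨hm, fun l hl => by_contra fun h => r2 ⟨l, hl, m, hm, h⟩⟩
    exact J.base J.kg J.b3 F t B G m ξ C ht h3 hξ fun g hg l hl => hc g hg l (by simpa using hl)
  refine C.le_of_cz J r2 ((J.cz F t B G R C (J.kp J.kg F t B G R C r2)).2.2 fun i hi η hη g hg e => ?_)
  obtain ⟨l, hl, li⟩ := r2.ex i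
  refine ih _ (Finset.erase_ssubset hi) (G ⊓ Subgroup.centralizer {emG i η}) (Function.update ξ i η)
    ⟨C.f, inf_le_left.trans C.le, fun j hj s hs => ⟨C.mem j (Finset.mem_of_mem_erase hj) s hs, ?_⟩,
      fun x hx hT l hl => ?_, fun x hx j hj => C.ru x hx.1 j (Finset.mem_of_mem_erase hj),
      fun x hx j hj => C.h1 x hx.1 j (Finset.mem_of_mem_erase hj)⟩ ⟨l, Finset.mem_erase.2 ⟨li, hl⟩⟩
    (fun l => ?_) (fun x hx l hl => ?_) ⟨hg, Subgroup.mem_centralizer_singleton_iff.2 e⟩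
  · exact Subgroup.mem_centralizer_singleton_iff.2 (emG_comm (Finset.ne_of_mem_erase hj) _ _)
  · by_cases h : l = i
    · exact h ▸ nm_of_comm hT (hη.not_sc' C.f.toO4) (Subgroup.mem_centralizer_singleton_iff.1 hx.2)
    · exact C.out x hx.1 hT l fun h' => hl (Finset.mem_erase.2 ⟨h, h'⟩)
  · by_cases h : l = i
    · rwa [h, Function.update_self]
    · rw [Function.update_of_ne h]; exact hξ l
  · by_cases h : l = i
    · rw [h, Function.update_self]; exact Subgroup.mem_centralizer_singleton_iff.1 hx.2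
    · rw [Function.update_of_ne h]; exact hc x hx.1 l fun h' => hl (Finset.mem_erase.2 ⟨h, h'⟩)

omit [Finite F] in
theorem O4M.mem (H : O4M B M) (hi : i ∈ I) (hs : s ∈ G0 B) : emG i s ∈ MI M I :=
  ⟨mem_Gam.1 (H.gam hs) i, fun _ hj => InC.emG (by rintro rfl; exact hj hi) s⟩

theorem O4M.gc (J : J4.{u}) (H : O4M B M) (pw : PW M (IsoV B)) (r2 : R2 I)
    (ih : ∀ m ∈ I, MI M (I.erase m) ≤ TT 4 t F) : GC B (MI M I) I := by
  have ht : 0 < t := by have := H.t2; omega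
  have R3 := rig3' J.rig3
  have er : ∀ {x m}, x ∈ MI M I → InC m (x : EE 4 t F) → x ∈ MI M (I.erase m) := fun {x m} hx h =>
    ⟨hx.1, fun q hq => by
      by_cases e : q = m
      · exact e ▸ h
      · exact hx.2 q fun h => hq (Finset.mem_erase.2 ⟨e, h⟩)⟩
  have cm : ∀ {g l s}, g ∈ MI M I → l ∈ I → s ∈ G0 B → g * emG l s * g⁻¹ ∈ MI M I :=
    fun hg hl hs => mul_mem (mul_mem hg (H.mem hl hs)) (inv_mem hg)
  have hN : ∀ g ∈ MI M I, ∀ i ∈ I, ∀ j, Nm g i j → g ∈ TT 4 t F := fun g hg i hi j h => by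
    refine mem_T_of (by norm_num) ht fun l => ?_
    by_cases hl : l ∈ I
    swap
    · exact ⟨l, (hg.2 l hl).nm⟩
    by_cases e : l = i
    · exact ⟨j, e ▸ h⟩
    have hj : j ∈ I := by
      by_contra hj
      exact hj (h.inv.unique (by norm_num) (hg.2 j hj).nm.inv ▸ hi)
    exact J.fl R3 F t B g l H.f (H.le hg.1) fun s hs => ih j hj (er (cm hg hl hs)
      (by rw [← cj_coe]; exact h.inC (InC.emG (Ne.symm e) s)))
  have h1 : ∀ g ∈ MI M I, ∀ j ∈ I, ∀ w ∈ IsoV B, ∀ l w', w' ≠ 0 → Maps g j w l w' →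
      g ∈ TT 4 t F := fun g hg j hj w hw l w' w0 h => by
    have hw' : w' ∈ IsoV B := H59.WrBG.iso_of_le H.le hg.1 (J := F ∙ w) (fun p hp q hq => by
      obtain ⟨r, rfl⟩ := Submodule.mem_span_singleton.1 hp
      obtain ⟨r', rfl⟩ := Submodule.mem_span_singleton.1 hq
      rw [B.smul_left, B.smul_right, hw.2, mul_zero, mul_zero]) w0 h.ge
    have st := h.inv.stIn pw (fun x hx y hy => by
      obtain ⟨r, hr, e⟩ := H.f.trx x hx y hy
      exact ⟨r, H.gam hr, 1, by rw [e, one_smul]⟩) (inv_mem hg.1) hw' hw w0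
    have hl : l ∈ I := by
      by_contra hl
      obtain ⟨x, v, v', R⟩ := H.f.fr hw'
      obtain ⟨s, hs, e⟩ := H.f.eich w' hw' v R.vw
      have h2 := mem_BB.1 (st s (H.gam hs) ⟨1, by simp [e, eu_mulVec4, R.wv, hw'.2]⟩)
      rw [(hg.2 l hl).inv.cj_em, e] at h2
      exact H.f.not_sc_eu hw' R.vw R.notMem
        (sc_em.1 (h2.sc_of_ne (InA.em l _) (by rintro rfl; exact hl hj)))
    obtain ⟨a, ha, aj⟩ := r2.ex j
    obtain ⟨a', h2⟩ := J.fl R3 F t B g a H.f (H.le hg.1) fun s hs => ih l hl (er (cm hg ha hs)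
      (J.cb R3 F t B M I l H pw hl (ih l hl) w' hw' _ (cm hg ha hs) fun r hr e => Units.ext (by
        have := congrArg (cj g) ((mem_BB.1 (st r (H.gam hr) e)).comm (InC.em aj.symm (s : Mk 4 F)))
        simp only [map_mul, cj_cj_inv] at this
        rw [Units.val_mul, Units.val_mul _ (emG l r), ← cj_coe]
        exact this)))
    exact hN g hg a ha a' h2
  refine ⟨H.f, MI_le.trans H.le, fun j hj s hs => H.mem hj hs, fun g hg _ l hl => (hg.2 l hl).nm,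
    fun g hg j hj w hw v hv hn h => ?_, h1⟩
  obtain ⟨l, -, a, ha⟩ := R3 F t B g j w v H.f.toO4L (H.le hg.1) hw hv hn h
  obtain ⟨w', -, w0, -, -, h2⟩ := maps_of_cj hw.1 (ph_ne_zero hw.1) ha
  exact h1 g hg j hj w hw l w' w0 h2

theorem O4M.le_T (J : J4.{u}) (H : O4M B M) (pw : PW M (IsoV B)) : M ≤ TT 4 t F := by
  suffices h : ∀ I, MI M I ≤ TT 4 t F from fun g hg => h Finset.univ ⟨hg, by simp⟩
  intro I
  induction I using Finset.strongInduction with | H I ih => ?_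
  by_cases r2 : R2 I
  swap
  · obtain ⟨i, hi⟩ : ∃ i, ∀ j ∈ I, j = i := by
      rcases I.eq_empty_or_nonempty with rfl | ⟨i, hi⟩
      · exact ⟨⟨0, by have := H.t2; omega⟩, by simp⟩
      · exact ⟨i, fun j hj => by_contra fun h => r2 ⟨j, hj, i, hi, h⟩⟩
    exact fun g hg => (T4 (i := i) fun j hj => hg.2 j fun h => hj (hi j h)).mem_T (by norm_num)
  have C := H.gc J pw r2 fun m hm => ih _ (Finset.erase_ssubset hm)
  by_cases h : ∃ a : F, a ≠ 0 ∧ a ^ 2 ≠ 1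
  · exact C.le_of_cz J r2 ((J.cz F t B _ I C (J.kp J.kg F t B _ I C r2)).2.1 h)
  obtain ⟨ξ, hξ⟩ := H.f.exx
  exact GC.le3 J H.t2 (fun a => by_contra fun e => h ⟨a, not_or.1 e⟩) I _ (fun _ => ξ) C
    ⟨_, r2.choose_spec.1⟩ (fun _ => hξ) fun g hg l hl => ((hg.2 l hl).comm4 ξ).symm

theorem max_O4 (J : J4.{u}) {Q : QuadraticForm F (VV 4 t F)} (h : QF B Q) (o : O4 B) (ht : 2 ≤ t) :
    IsMaximalIn (omegaGL ⇑Q) (TT 4 t F ⊓ omegaGL ⇑Q) := by
  have f := J.f F B (J.e F B (J.l F B (J.k F B o)))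
  obtain ⟨x, hx⟩ := f.ex
  refine h.max_of o.sig ht (by omega) hx fun M h1 h2 => ?_
  have c := J.m F t B M Q f h ht h1 h2
  by_cases q : QQ M (RN B)
  · exact Or.inl (c.le_T J (J.pw (rig3' J.rig3) F t B M c (J.ql J.iso F t B M c q)))
  · exact Or.inr (J.fin F t B M Q c h (h2.trans (omega_le _)) (J.q J.iso F t B M c q))

omit [Finite F] in
theorem row_O4 [Fintype F] (J : J4.{u}) (hodd : Odd (Fintype.card F)) {n k : ℕ}
    {q : (Fin n → F) → F} (hQ : IsNondegenerateQuadraticForm q) (ht : 2 ≤ t) (hke : Even k)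
    (e : Fin n ≃ (Fin t → Fin k)) (P : GL (Fin n) F) {f₁ : (Fin k → F) → (Fin k → F) → F}
    (hf : IsSymmetricForm f₁) (hs : (6 ≤ k ∧ IsPlusTypeOn (fun v : Fin k → F => f₁ v v) ⊤) ∨
      (4 ≤ k ∧ ¬ IsPlusTypeOn (fun v : Fin k → F => f₁ v v) ⊤))
    (hT : IsTensorPowerFormStructure id (QuadraticMap.polar q) f₁ e P) :
    IsMaximalIn (omegaGL q) (tensorWreathSubgroup k t e P ⊓ omegaGL q) := by
  have two := two_ne_zero_of_odd hodd
  by_cases k5 : 5 ≤ k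
  · exact row_OO hodd hQ e P hf hT fun B Q h sig eps => max_OO bj h sig eps two ht k5
  obtain ⟨k4, hn⟩ := hs.resolve_left fun h => by omega
  obtain rfl : k = 4 := by omega
  obtain ⟨Q, rfl, -⟩ := exists_quadraticForm hQ
  refine max_tr (tr_omega Q) (max_O4 (B := Frm.ofSymmetric hf) J
    (qf_of (fun _ => rfl) hT (Or.inl two)) ⟨fun _ => rfl, rfl, two, fun w hw v h1 h2 => ?_⟩ ht)
  by_contra h3
  refine hn ⟨Submodule.span F (Set.range ![v, w]), le_top, fun x hx => ?_, ?_⟩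
  · obtain ⟨c, rfl⟩ := (Submodule.mem_span_range_iff_exists_fun F).1 hx
    change (Frm.ofSymmetric hf).f _ _ = 0
    simp [Frm.add_left, Frm.add_right, Frm.smul_left, Frm.smul_right, h1, h2, hw.2,
      (Frm.eq_zero_comm _).1 h1]
  · rw [finrank_span_eq_card ((LinearIndependent.pair_symm_iff).1
      ((LinearIndependent.pair_iff' hw.1).2 fun a e => h3 (Submodule.mem_span_singleton.2 ⟨a, e⟩)))]
    simp

end H60.Wr
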