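/- C7-O4 tower: all jobs assembled. -/
import Cfsg.Agent.H60.WrO4Top
import Cfsg.Agent.H60.WrO4Base
import Cfsg.Agent.H60.WrO4B3
import Cfsg.Agent.H60.WrO4X3
import Cfsg.Agent.H60.WrO4QL
import Cfsg.Agent.H44.O4K
import Cfsg.Agent.H44.O4Iso
import Cfsg.Agent.H44.O4Q
import Cfsg.Agent.H44.O4M
import Cfsg.Agent.H71.C7O4L
import Cfsg.Agent.H71.C7O4E
import Cfsg.Agent.H71.C7O4F
import Cfsg.Agent.H95.WrO4Rig3
import Cfsg.Agent.H29.O4KG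
import Cfsg.Agent.H29.O4End
import Cfsg.Agent.H26.O4CB
import Cfsg.Agent.H32.O4CZ

set_option autoImplicit false

namespace H60.Wr

universe u

theorem j4 : J4.{u} :=
  ⟨H44.O4K.jobO4K, H71.O4L.jobO4L, H71.O4E.jobO4E, H71.O4F.jobO4F, jobO4X3, H44.O4M.jobO4M,
    H44.O4.jobO4Iso,
    H44.O4.jobO4Q, H29.O4E.jobO4End, jobO4QL, H95.Wr4.jobO4Rig3, H29.O4E.jobO4PW, H29.O4E.jobO4FL,
    H29.O4.jobO4Rig4, H26.O4.jobO4CB, H29.O4.jobO4KG, H29.O4.jobO4KP, H32.O4.jobO4CZ, jobO4B3,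
    jobO4Base⟩

end H60.Wr
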