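import Cfsg.Agent.H78.YUDef

/-! STD-SP (row S3129), endgame, unitary models: slot HA. -/

set_option autoImplicit false
set_option linter.unusedSectionVars false

namespace H60.YHA

open H64.SG (O2 Syl Cz Cs Ns cjs Is2 Inv2 IsO2 fx mem_Cz mem_Cs)
open H67 H67.UA H64.YE Subgroup H78.YU
open H67.SA (cm St la)

variable {m : ℕ} {K : Type} [Field K] [StarRing K] [CharP K 2] [Finite K] [Par m K]

/-- `g ∈ Q` has the vector `y` -/
def Rep (g : XU m K) (y : Vn m K) : Prop := ∃ c, Ok (ev 0) y c ∧ g = EE (ev 0) y c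
/-- `y ∈ ⟨e₀⟩` -/
def Ln (y : Vn m K) : Prop := ∃ a : K, y = a • ev 0

variable {g g' p : XU m K} {y y' v w : Vn m K}

theorem memQ : g ∈ Q0 m K ↔ ∃ y, Rep g y := FV.mem_Q g
theorem Rep.mem (h : Rep g y) : g ∈ Q0 m K := memQ.2 ⟨y, h⟩
theorem Rep.perp (h : Rep g y) : hf y (ev 0) = 0 := let ⟨_, h, _⟩ := h; h.perp
theorem Rep.mul (h : Rep g y) (h' : Rep g' y') : Rep (g * g') (y + y') := by
  obtain ⟨c, h, rfl⟩ := h
  obtain ⟨d, h', rfl⟩ := h'
  exact ⟨_, h.add h', EE_mul h h'⟩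
theorem Rep.inv (h : Rep g y) : Rep g⁻¹ y := by
  obtain ⟨c, h, rfl⟩ := h
  exact ⟨_, h.star, EE_inv h⟩
theorem Rep.conj (h : Rep g y) (hp : ac p (ev 0) = ev 0) : Rep (p * g * p⁻¹) (ac p y) := by
  obtain ⟨c, h, rfl⟩ := h
  exact ⟨c, hp ▸ h.ac p, by rw [EE_conj h, hp]⟩
theorem Rep.shift (a : K) (h : Rep g (y + a • ev 0)) : Rep g y := by
  obtain ⟨c, h, rfl⟩ := h
  have h1 : hf y (ev 0) = 0 := by
    have := h.perp
    rwa [hf_add_left, hf_smul_left, iso0, mul_zero, add_zero] at this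
  refine ⟨_, ⟨iso0, h1, ?_⟩, EE_shift a _ _ _⟩
  have := h.tr
  simp only [hf_add_left, hf_add_right, hf_smul_left, hf_smul_right, h1, hf_symm h1,
    show hf (ev 0 : Vn m K) (ev 0) = 0 from iso0, mul_zero, add_zero] at this
  rw [← this, tr, star_add, add_add_add_comm]
  exact (congrArg _ (tr_tr a)).trans (add_zero _)
theorem Rep.uniq (h : Rep g y) (h' : Rep g y') : ∃ a : K, y' = y + a • ev 0 := by
  obtain ⟨c, h, rfl⟩ := h
  obtain ⟨d, h', e⟩ := h'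
  obtain ⟨a, e, -⟩ := EE_inj (ev_ne 0) h h' e
  exact ⟨a, e⟩
theorem Rep.memZ (h : Rep g y) : g ∈ Z0 m K ↔ Ln y := by
  refine ⟨fun hz => ?_, fun ⟨a, e⟩ => ?_⟩
  · obtain ⟨c, hc, e⟩ := (FV.mem_Z g).1 hz
    simpa [Ln] using Rep.uniq ⟨c, ok_zero iso0 hc, e⟩ h
  · obtain ⟨c, h, e⟩ := Rep.shift (y := 0) a (by rwa [zero_add, ← e])
    exact (FV.mem_Z g).2 ⟨c, tr_eq_zero.1 (h.tr.trans (hf_zero_left _)), e⟩
theorem exists_rep (h : hf y (ev 0) = 0) : ∃ g, Rep g y :=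
  let ⟨c, hc⟩ := H59.UM.exists_tr (star_hf y y); ⟨_, c, ⟨iso0, h, hc⟩, rfl⟩
theorem exists_val (h : ¬ Ln v) (a : K) : ∃ y, hf y (ev 0) = 0 ∧ hf y v = a := by
  by_contra hn
  refine h (H59.UM.dual fun y hy => ?_)
  by_cases h0 : hf y v = 0
  · simp [h0]
  · exact (hn ⟨(a * (hf y v)⁻¹) • y, by rw [hf_smul_left, hy, mul_zero],
      by rw [hf_smul_left, mul_assoc, inv_mul_cancel₀ h0, mul_one]⟩).elim

theorem Tc_fix (h : Pp (ev 0) w) {c : K} (hc : star c = c) : ac (Tc c w) (ev 0) = ev 0 := by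
  rw [ac_Tc h.r hc, h.p]; simp

theorem TT_nZ (h : Iso w) (h' : ¬ Ln w) : TT w ∉ Z0 m K := fun hz => by
  obtain ⟨c, hc, e⟩ := (FV.mem_Z _).1 hz
  obtain ⟨y, h1, h2⟩ := exists_val h' 1
  have := congrArg (fun k => ac k y) e
  simp only [ac_Tc h (star_one K), ac_Tc iso0 hc, h1, h2, mul_one, one_smul, mul_zero, zero_smul,
    add_zero, add_eq_left] at this
  exact h' ⟨0, by rw [this, zero_smul]⟩

theorem root_data (r : R0 m K) {d : XU m K} (h1 : d ∈ Cs (Z0 m K)) (h2 : IsConj (r0 m K) d)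
    (h3 : d ∉ Z0 m K) : ∃ v, Pp (ev 0) v ∧ ¬ Ln v ∧ d = TT v := by
  obtain ⟨v, -, hv, rfl⟩ := (r.rt d).1 h2
  have hl : ¬ Ln v := fun ⟨a, e⟩ => h3 (by
    rw [e, TT, Tc_smul, mul_one]; exact (FV.mem_Z _).2 ⟨_, star_nm a, rfl⟩)
  refine ⟨v, ⟨iso0, hv, by_contra fun h0 => hl ?_⟩, hl, rfl⟩
  obtain ⟨a, -, e⟩ := (r.cz _).1 h1
  rw [ac_Tc hv (star_one K), one_mul] at e
  refine ⟨(hf (ev 0) v)⁻¹ * (a + 1), ?_⟩
  rw [mul_smul, add_smul, ← e, one_smul, add_comm (ev 0), add_assoc, v_add_self, add_zero,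
    smul_smul, inv_mul_cancel₀ h0, one_smul]

/-- the action of `δ` on `Q / Z` -/
def DD (w w' y : Vn m K) : Vn m K := y + tr (hf y w') • w + tr (hf y w) • w'

theorem main (H : H1 m K) (θ δ : XU m K → XU m K) (hθ : H59.SO.AutOn (Q0 m K) θ)
    (hz : ∀ z ∈ Z0 m K, θ z = z) (hv : Pp (ev 0) v) (hl : ¬ Ln v)
    (hδ : ∀ x ∈ Q0 m K, δ (θ x) = θ (TT v * x * (TT v)⁻¹)) :
    ∃ w w' : Vn m K, Pp (ev 0) w ∧ hf w' (ev 0) = 0 ∧ ¬ Ln w ∧ star (hf w w') = hf w w' ∧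
      (∀ g y, Rep g y → Rep (δ g) (DD w w' y)) ∧
      (∃ y, hf y (ev 0) = 0 ∧ DD w w' y = y + w) ∧ ∃ y, hf y (ev 0) = 0 ∧ DD w w' y = y + w' := by
  obtain ⟨f, f0, f1, f2, f3⟩ := H θ hθ hz
  obtain ⟨η, hη⟩ : ∃ η : K, tr η = 1 := H59.UM.exists_tr (star_one K)
  have hη' : star η = η + 1 := by linear_combination hη - η * two0 K
  have v0 := hv.symm.p
  have v1 : ∀ a : K, hf (a • v) (ev 0) = 0 := fun a => by rw [hf_smul_left, v0, mul_zero]
  have fr : ∀ g y, Rep g y → Rep (θ g) (f y) := fun g y ⟨c, h, e⟩ => e ▸ (f1 y c h).2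
  have b1 : ∀ y, hf y (ev 0) = 0 → tr (hf (f y) (f v)) = tr (hf y v) := fun y h => (f2 y v h v0).2
  have b2 : ∀ y, hf y (ev 0) = 0 → tr (hf (f y) (f (η • v))) = hf y v + tr (hf y v) * η :=
    fun y h => by
      rw [(f2 y _ h (v1 η)).2, hf_smul_right, tr, star_mul', star_star, hη', tr]; ring
  refine ⟨f v, f (η • v), ⟨iso0, (f1 v 0 hv.ok).1.trans hv.r, hf_symm (f0 v)⟩, f0 _,
    fun ⟨a, e⟩ => hl (H59.UM.dual fun y hy => ?_), tr_eq_zero.1 ?_, fun g y hg => ?_, ?_, ?_⟩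
  · rw [← b1 y hy, e, hf_smul_right, f0]; simp
  · rw [b2 v v0, hv.r]; simp
  · obtain ⟨x, hx, rfl⟩ := hθ.bij.2.2 hg.mem
    obtain ⟨s, hs⟩ := memQ.1 hx
    obtain ⟨a, rfl⟩ := (fr _ _ hs).uniq hg
    have k := fr _ _ (hs.conj (Tc_fix hv (star_one K)))
    have e1 : hf s v • v = (hf s v + tr (hf s v) * η) • v + tr (hf s v) • η • v := by
      rw [add_smul, smul_smul, add_assoc, v_add_self, add_zero]
    have e2 : star (hf s v + tr (hf s v) * η) = hf s v + tr (hf s v) * η := by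
      rw [← b2 s hs.perp, star_tr]
    rw [← hδ x hx, ac_Tc hv.r (star_one K), one_mul, (f2 _ _ hs.perp (v1 _)).1, e1,
      (f2 _ _ (v1 _) (by rw [hf_smul_left, v1, mul_zero])).1, f3 _ _ e2 v0,
      f3 _ _ (star_tr _) (v1 η), ← b2 s hs.perp, ← b1 s hs.perp] at k
    refine Rep.shift a ?_
    convert k using 1
    simp only [DD, hf_add_left, hf_smul_left, hf_symm (f0 _), mul_zero, add_zero]
    linear_combination (exp := 1) v_add_self (a • (ev 0 : Vn m K))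
  · obtain ⟨y, h1, h2⟩ := exists_val hl 1
    refine ⟨f y, f0 y, ?_⟩
    rw [DD, b1 y h1, b2 y h1, h2, tr_eq_zero.2 (star_one K)]; simp
  · obtain ⟨y, h1, h2⟩ := exists_val hl η
    refine ⟨f y, f0 y, ?_⟩
    rw [DD, b1 y h1, b2 y h1, h2, hη, one_mul, CharTwo.add_self_eq_zero]; simp

theorem Rep.cm (hw : Pp (ev 0) w) (h : Rep g y) : Rep (cm (TT w) g) (hf y w • w) := by
  have := (h.conj (Tc_fix hw (star_one K))).mul h.inv
  rwa [ac_Tc hw.r (star_one K), one_mul, add_comm y, add_assoc, v_add_self, add_zero] at this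

omit [Par m K] in
theorem jobHA : JobHA := by
  intro m K _ _ _ _ _ r H θ δ hθ hz d d1 d2 d3 hδ
  obtain ⟨v, hv, hl, rfl⟩ := root_data r d1 d2 d3
  obtain ⟨w, w', hw, hw', lw, hφ, hD, ⟨y1, a1, a2⟩, y2, a3, a4⟩ := main H θ δ hθ hz hv hl hδ
  have cs : ∀ c : K, star c = c → Tc c w ∈ Cs (Z0 m K) := fun c hc =>
    (r.cz _).2 ⟨1, by simp, by rw [Tc_fix hw hc, one_smul]⟩
  have fx1 := Tc_fix hw (star_one K)
  have dv : ∀ y z : Vn m K, y + z + y = z := fun y z => by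
    rw [add_comm y, add_assoc, v_add_self, add_zero]
  refine ⟨TT w, cs 1 (star_one K), (r.rt _).2 ⟨w, fun h => lw ⟨0, by rw [h, zero_smul]⟩, hw.r, rfl⟩,
    TT_nZ hw.r lw, fun x hx => ?_, ?_, fun h => ?_⟩
  · obtain ⟨y, hy⟩ := memQ.1 hx
    refine ((hD _ _ (hy.conj fx1)).mul ((hD _ _ hy).conj fx1).inv).memZ.2 ⟨0, ?_⟩
    have hφ' : hf w' w = hf w w' := by rw [← star_hf, hφ]
    simp only [DD, ac_Tc hw.r (star_one K), hf_add_left, hf_smul_left,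
      show hf w w = 0 from hw.r, tr, star_add, star_mul', hφ, hφ', mul_zero, add_zero, one_mul]
    ext i
    simp only [Pi.add_apply, Pi.smul_apply, smul_eq_mul]
    linear_combination (y i + hf y w * w i + (hf y w' + star (hf y w')) * w i +
      (hf y w + star (hf y w)) * (w' i + hf w w' * w i)) * two0 K
  · obtain ⟨x, hx⟩ := exists_rep a1
    obtain ⟨y', b1, b2⟩ := exists_val lw 1
    obtain ⟨x', hx'⟩ := exists_rep b1
    have k := (hD _ _ hx).mul hx.inv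
    rw [a2, dv] at k
    refine ⟨x, hx.mem, x', hx'.mem, fun h => lw (k.memZ.1 h),
      (k.mul (hx'.cm hw).inv).memZ.2 ⟨0, ?_⟩⟩
    rw [b2, one_smul, v_add_self, zero_smul]
  · obtain ⟨x, hx⟩ := exists_rep a3
    obtain ⟨x', hx', k'⟩ := h x hx.mem
    obtain ⟨y', hy'⟩ := memQ.1 hx'
    have k := (hD _ _ hx).mul hx.inv
    rw [a4, dv] at k
    obtain ⟨a, e⟩ := (k.mul (hy'.cm hw).inv).memZ.1 k'
    generalize hf y' w = β at e
    have e' : w' = β • w + a • ev 0 := by rw [← e, ← add_assoc, dv]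
    refine ⟨Tc (tr β) w, cs _ (star_tr β), fun x hx => ?_⟩
    obtain ⟨y, hy⟩ := memQ.1 hx
    refine ((hD _ _ hy).mul (hy.conj (Tc_fix hw (star_tr β))).inv).memZ.2 ⟨tr (hf y w) * a, ?_⟩
    simp only [DD, ac_Tc hw.r (star_tr β), e', hf_add_right, hf_smul_right, hy.perp, tr,
      star_mul', star_star, mul_zero, add_zero]
    ext i
    simp only [Pi.add_apply, Pi.smul_apply, smul_eq_mul]
    linear_combination (y i + (star β * hf y w + β * star (hf y w) + β * hf y w) * w i) * two0 K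

end H60.YHA
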