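import Cfsg.Agent.H78.YUDef

/-! STD-SP (row S3129), endgame, unitary models: slot R0. -/

set_option autoImplicit false
set_option linter.unusedSectionVars false

namespace H60.YR0

open H64.SG (O2 Syl Cz Cs Ns cjs Is2 Inv2 IsO2 fx mem_Cz mem_Cs)
open H67 H67.UA H64.YE Subgroup H78.YU
open H67.SA (cm St la mem_St mem_St_of_finite mem_cI)

section Gen

variable {G : Type*} [Group G] [Finite G]

theorem st_o2 {Q A : Subgroup G} (h : IsO2 Q A) {α : MulAut G} (hα : α ∈ St A) : α ∈ St Q := by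
  refine mem_St_of_finite fun g hg => h.2.2.2 (Q.map α.toMonoidHom) ?_ (fun a ha => ?_)
    (h.2.2.1.map _) ⟨g, hg, rfl⟩
  · rintro _ ⟨b, hb, rfl⟩; exact (hα b).1 (h.1 hb)
  · have h1 : α⁻¹ a ∈ Ns Q := h.2.1 (((St A).inv_mem hα a).1 ha)
    refine mem_normalizer_iff.2 fun b => ?_
    rw [mem_map_equiv, mem_map_equiv, mem_normalizer_iff.1 h1]
    simp

theorem st_cs {A : Subgroup G} {α : MulAut G} (hα : α ∈ St A) : α ∈ St (Cs A) :=
  mem_St_of_finite fun g hg a ha => by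
    have := congrArg α (hg (α⁻¹ a) (((St A).inv_mem hα a).1 ha))
    simpa using this

theorem st_cz {r : G} {α : MulAut G} (hα : α r = r) : α ∈ St (Cz r) :=
  mem_St_of_finite fun g hg => mem_Cz.2 (by
    have := congrArg α (mem_Cz.1 hg)
    rwa [map_mul, map_mul, hα] at this)

end Gen

variable {m : ℕ} {K : Type} [Field K] [StarRing K] [CharP K 2] [Finite K] [Par m K]

theorem rt (y : XU m K) : IsConj (r0 m K) y ↔ ∃ v, v ≠ 0 ∧ Iso v ∧ y = TT v := by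
  rw [isConj_iff]
  constructor
  · rintro ⟨g, rfl⟩
    exact ⟨ac g (ev 0), fun h => ev_ne 0 (ac_inj g (h.trans (ac_zero g).symm)),
      H59.UM.iso0.ac g, Tc_conj H59.UM.iso0 (star_one K) g⟩
  · rintro ⟨v, h0, hv, rfl⟩
    obtain ⟨g, hg⟩ := H59.UM.w1 h0 hv
    exact ⟨g, hg ▸ Tc_conj H59.UM.iso0 (star_one K) g⟩

theorem r_mem : r0 m K ∈ Z0 m K := (FV.mem_Z _).2 ⟨1, star_one K, rfl⟩

theorem cz0 {g : XU m K} (h : g ∈ Cz (r0 m K)) : ∃ a : K, nm a = 1 ∧ ac g (ev 0) = a • ev 0 := by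
  have h1 : TT (ac g (ev 0)) = TT (ev 0) :=
    (Tc_conj H59.UM.iso0 (star_one K) g).symm.trans (mul_inv_eq_iff_eq_mul.2 (mem_Cz.1 h).symm)
  have hu := H59.UM.iso0.ac g
  generalize ac g (ev 0) = u at h1 hu
  have h2 := congrArg (fun k => ac k (ev (la m))) h1
  simp only [ac_Tc hu (star_one K), ac_Tc H59.UM.iso0 (star_one K), H59.UM.hfL0, one_mul,
    one_smul, add_right_inj] at h2
  have h3 := congrArg (hf (ev (la m))) h2
  rw [hf_smul_right, H59.UM.hfL0] at h3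
  refine ⟨star (hf (ev (la m)) u), by rw [nm, star_star, h3], ?_⟩
  rw [← h2, smul_smul, h3, one_smul]

theorem cz1 {g : XU m K} {a : K} (h : nm a = 1) (h' : ac g (ev 0) = a • ev 0) : g ∈ Cs (Z0 m K) :=
  fun z hz => by
    obtain ⟨c, hc, rfl⟩ := (FV.mem_Z z).1 hz
    rw [eq_comm, ← mul_inv_eq_iff_eq_mul, Tc_conj H59.UM.iso0 hc, h', Tc_smul, h, one_mul]

theorem cz_eq : Cz (r0 m K) = Cs (Z0 m K) :=
  le_antisymm (fun _ h => let ⟨_, h1, h2⟩ := cz0 h; cz1 h1 h2) fun _ h => mem_Cz.2 (h _ r_mem)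

theorem o2 : IsO2 (Q0 m K) (Cs (Z0 m K)) := by
  have := GA.FI.qk 1 (GA.rg1 (X := XU m K))
  rwa [FV.xk_one, cz_eq] at this

theorem stz {α : MulAut (XU m K)} (h : α ∈ St (Q0 m K)) : α ∈ St (Z0 m K) :=
  mem_St_of_finite fun z hz => GA.mem_Mk_of_Cs GA.rg1
    ((st_cs h z).1 fun x hx => (GA.FB.QM 1 GA.rg1 hx z hz).symm)
    ⟨1, by rw [pow_one, pow_two, ← map_mul, GA.sq_of_ZZ hz, map_one]⟩

omit [Par m K] in
theorem jobR0 : JobR0 := by
  intro m K _ _ _ _ _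
  refine ⟨rt, fun z hz h1 => ?_, fun α y hy => ?_,
    fun g => ⟨fun h => cz0 (cz_eq (m := m) (K := K) ▸ h), fun ⟨_, h1, h2⟩ => cz1 h1 h2⟩,
    fun α h => stz (st_o2 o2 (cz_eq (m := m) (K := K) ▸ st_cz h)),
    fun α h => st_o2 o2 (st_cs h), fun u hu h => ?_, fun α _ h z hz => ?_⟩
  · obtain ⟨c, hc, rfl⟩ := (FV.mem_Z z).1 hz
    obtain ⟨a, ha⟩ := H59.UM.Tc_eq_TT hc (ev 0 : Vn m K)
    exact (rt _).2 ⟨_, fun h0 => h1 (by rw [ha, h0]; exact EE_zero_left _ _),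
      H59.UM.iso0.smul a, ha⟩
  · obtain ⟨v, h0, hv, rfl⟩ := (rt y).1 hy
    exact (rt _).2 (FV.root _ (GA.FA.roota _ α (FW.rootT v h0 hv)))
  · obtain ⟨q, hq, e⟩ := mem_cI.1 (GA.FA.n2 (MulAut.conj u) h fun z hz => by
      rw [MulAut.conj_apply, mul_inv_eq_iff_eq_mul, GA.UU_le_Cs hu z hz])
    rwa [GA.conj_inj (GA.is2_of_UU hu) (GA.is2_of_UU (GA.QQ_le_UU hq)) e]
  · obtain ⟨v, hv, hv'⟩ := SetLike.not_le_iff_exists.1 (GA.FB.QZ (X := XU m K))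
    obtain ⟨u, hu, rfl⟩ := GA.FA.qz v hv hv' z hz
    have k : ∀ x ∈ Q0 m K, ∀ y ∈ Q0 m K, α x * y * (α x)⁻¹ = x * y * x⁻¹ := fun x hx y hy => by
      have := GA.FB.QM 1 GA.rg1 (mul_mem (mul_mem hx hy) (inv_mem hx)) _ (h x hx)
      calc α x * y * (α x)⁻¹ = α x * x⁻¹ * (x * y * x⁻¹) * (α x * x⁻¹)⁻¹ := by group
        _ = _ := by rw [this]; group
    have hv2 : α v ∈ Q0 m K := by
      simpa using mul_mem (GA.ZZ_le_QQ (h v hv)) hv
    calc α (cm v u) = α v * (α u * (α v)⁻¹ * (α u)⁻¹) := by simp [cm, mul_assoc]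
      _ = α v * u * (α v)⁻¹ * u⁻¹ := by rw [k u hu _ (inv_mem hv2)]; group
      _ = _ := by rw [k v hv u hu]

end H60.YR0
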